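import Groth.Agent.ArtKit.Formal
import Groth.Agent.ArtPow.Basic

/-!
# Power series rings over coefficient rings
-/

set_option autoImplicit false
universe u v w

noncomputable section
open CategoryTheory IsLocalRing MvPowerSeries ArtFun

namespace Groth.Agent.ArtKit

section Complete

variable {R : Type u} [CommRing R] [IsLocalRing R] {σ : Type w} [Fintype σ]

/-- Power series whose coefficient in degree `d` lies in `m ^ (n - |d|)`. -/
def coeffFilt (n : ℕ) : Ideal (MvPowerSeries σ R) where
  carrier := {f | ∀ d, coeff d f ∈ maximalIdeal R ^ (n - d.degree)}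
  add_mem' hf hg d := by rw [map_add]; exact add_mem (hf d) (hg d)
  zero_mem' d := by rw [map_zero]; exact zero_mem _
  smul_mem' c f hf d := by
    classical
    rw [smul_eq_mul, coeff_mul]
    refine sum_mem fun p hp => Ideal.mul_mem_left _ _ (Ideal.pow_le_pow_right ?_ (hf p.2))
    rw [← Finset.HasAntidiagonal.mem_antidiagonal.1 hp, map_add]
    omega

lemma mem_maximalIdeal_iff_constantCoeff (f : MvPowerSeries σ R) :
    f ∈ maximalIdeal (MvPowerSeries σ R) ↔ constantCoeff f ∈ maximalIdeal R := by
  rw [IsLocalRing.mem_maximalIdeal, IsLocalRing.mem_maximalIdeal, mem_nonunits_iff, mem_nonunits_iff,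
    isUnit_iff_constantCoeff]

lemma pow_le_coeffFilt (n : ℕ) : maximalIdeal (MvPowerSeries σ R) ^ n ≤ coeffFilt n := by
  classical
  induction n with
  | zero => intro f _ d; simp
  | succ n ih =>
    rw [pow_succ]
    refine Ideal.mul_le.2 fun f hf g hg d => ?_
    rw [coeff_mul]
    refine sum_mem fun p hp => ?_
    have h1 := ih hf p.1
    rw [← Finset.HasAntidiagonal.mem_antidiagonal.1 hp, map_add]
    by_cases h0 : p.2 = 0
    · rw [h0, map_zero, add_zero]
      have h2 : coeff (0 : σ →₀ ℕ) g ∈ maximalIdeal R := by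
        rw [coeff_zero_eq_constantCoeff_apply]; exact (mem_maximalIdeal_iff_constantCoeff g).1 hg
      refine Ideal.pow_le_pow_right ?_ (pow_succ (maximalIdeal R) (n - p.1.degree) ▸ Ideal.mul_mem_mul h1 h2)
      omega
    · refine Ideal.mul_mem_right _ _ (Ideal.pow_le_pow_right ?_ h1)
      have : p.2.degree ≠ 0 := fun h => h0 ((Finsupp.degree_eq_zero_iff _).1 h)
      omega

lemma coeffFilt_le_pow (n : ℕ) : coeffFilt n ≤ maximalIdeal (MvPowerSeries σ R) ^ n := by
  classical
  induction n with
  | zero => simp
  | succ n ih =>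
    intro f hf
    let ι : (σ →₀ ℕ) → Option σ := fun d => if h : ∃ i, d i ≠ 0 then some h.choose else none
    let g : σ → MvPowerSeries σ R := fun i e =>
      if ι (e + Finsupp.single i 1) = some i then coeff (e + Finsupp.single i 1) f else 0
    have hsum : f - C (constantCoeff f) = ∑ i, X i * g i := by
      ext e
      rw [map_sub, map_sum, coeff_C]
      have hterm : ∀ i, coeff e (X i * g i) =
          if Finsupp.single i 1 ≤ e ∧ ι e = some i then coeff e f else 0 := by
        intro i
        rw [X_def, coeff_monomial_mul, one_mul]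
        by_cases h : Finsupp.single i 1 ≤ e
        · rw [if_pos h]
          show (if ι (e - Finsupp.single i 1 + Finsupp.single i 1) = some i then _ else 0) = _
          rw [tsub_add_cancel_of_le h]
          simp [h]
        · rw [if_neg h, if_neg (fun h' => h h'.1)]
      simp only [hterm]
      by_cases h : ∃ i, e i ≠ 0
      · have he : e ≠ 0 := fun h0 => by simp [h0] at h
        rw [if_neg he, sub_zero, Finset.sum_eq_single h.choose]
        · rw [if_pos]
          exact ⟨Finsupp.single_le_iff.mpr (Nat.one_le_iff_ne_zero.mpr h.choose_spec), by simp [ι, h]⟩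
        · intro i _ hi
          rw [if_neg]
          rintro ⟨-, h2⟩
          simp only [ι, dif_pos h, Option.some.injEq] at h2
          exact hi h2.symm
        · simp
      · push Not at h
        have he : e = 0 := Finsupp.ext h
        subst he
        rw [if_pos rfl, coeff_zero_eq_constantCoeff_apply, sub_self]
        exact (Finset.sum_eq_zero fun i _ => if_neg fun h' => by simp [ι] at h').symm
    have hg : ∀ i, g i ∈ maximalIdeal (MvPowerSeries σ R) ^ n := fun i => ih fun e => by
      show (if _ then _ else _) ∈ _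
      split_ifs
      · refine Ideal.pow_le_pow_right ?_ (hf _)
        rw [map_add, Finsupp.degree_single]
        omega
      · exact zero_mem _
    have hC : C (constantCoeff f) ∈ maximalIdeal (MvPowerSeries σ R) ^ (n + 1) := by
      have h0 := hf 0
      rw [coeff_zero_eq_constantCoeff_apply, map_zero, Nat.sub_zero] at h0
      have hle : Ideal.map (C : R →+* MvPowerSeries σ R) (maximalIdeal R) ≤ maximalIdeal _ :=
        Ideal.map_le_iff_le_comap.2 fun a ha => by
          rw [Ideal.mem_comap, mem_maximalIdeal_iff_constantCoeff, constantCoeff_C]; exact ha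
      have := Ideal.mem_map_of_mem (C : R →+* MvPowerSeries σ R) h0
      rw [Ideal.map_pow] at this
      exact Ideal.pow_right_mono hle _ this
    have hX : ∀ i, (X i : MvPowerSeries σ R) ∈ maximalIdeal (MvPowerSeries σ R) := fun i => by
      rw [mem_maximalIdeal_iff_constantCoeff, constantCoeff_X]; exact zero_mem _
    rw [← sub_add_cancel f (C (constantCoeff f)), hsum]
    refine add_mem (sum_mem fun i _ => ?_) hC
    rw [pow_succ']
    exact Ideal.mul_mem_mul (hX i) (hg i)

/-- Power series over a complete local ring are complete for the maximal ideal. -/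
theorem isAdicComplete_mvPowerSeries [IsAdicComplete (maximalIdeal R) R] :
    IsAdicComplete (maximalIdeal (MvPowerSeries σ R)) (MvPowerSeries σ R) where
  haus' f hf := by
    ext d
    rw [map_zero]
    refine IsHausdorff.haus' (I := maximalIdeal R) _ fun n => ?_
    have := hf (n + d.degree)
    rw [SModEq.sub_mem, sub_zero, smul_eq_mul, Ideal.mul_top] at this ⊢
    simpa using pow_le_coeffFilt _ this d
  prec' x hx := by
    have hc : ∀ d : σ →₀ ℕ, ∃ L, ∀ n, coeff d (x (n + d.degree)) - L ∈ maximalIdeal R ^ n := by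
      intro d
      obtain ⟨L, hL⟩ := IsPrecomplete.prec' (I := maximalIdeal R) (fun n => coeff d (x (n + d.degree)))
        (fun {m n} hmn => by
          have := hx (show m + d.degree ≤ n + d.degree by omega)
          rw [SModEq.sub_mem, smul_eq_mul, Ideal.mul_top] at this ⊢
          simpa using pow_le_coeffFilt _ this d)
      refine ⟨L, fun n => ?_⟩
      simpa only [SModEq.sub_mem, smul_eq_mul, Ideal.mul_top] using hL n
    choose L hL using hc
    let f : MvPowerSeries σ R := fun d => L d
    refine ⟨f, fun n => SModEq.sub_mem.2 ?_⟩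
    rw [smul_eq_mul, Ideal.mul_top]
    refine coeffFilt_le_pow n fun d => ?_
    rw [map_sub]
    rw [show coeff d f = L d from rfl]
    by_cases h : d.degree ≤ n
    · simpa [Nat.sub_add_cancel h] using hL d (n - d.degree)
    · rw [Nat.sub_eq_zero_of_le (by omega)]
      simp

end Complete

variable {Λ : Type u} {k : Type u} [CommRing Λ] [Field k] [Algebra Λ k]

/-- The constant coefficient, as a `Λ`-algebra map. -/
def ccHom (n : ℕ) (R : CRing Λ k) : MvPowerSeries (Fin n) R.carrier →ₐ[Λ] R.carrier :=
  { (constantCoeff : MvPowerSeries (Fin n) R.carrier →+* R.carrier) with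
    commutes' := fun r => by
      show constantCoeff (algebraMap Λ (MvPowerSeries (Fin n) R.carrier) r) = _
      rw [MvPowerSeries.algebraMap_apply, constantCoeff_C] }

/-- `R[[X₁, …, Xₙ]]` as a coefficient ring. -/
@[reducible] def psRing (n : ℕ) (R : CRing Λ k) : CRing Λ k where
  carrier := MvPowerSeries (Fin n) R.carrier
  res := R.res.comp (ccHom n R)
  res_surjective a := by
    obtain ⟨b, hb⟩ := R.res_surjective a
    exact ⟨C b, by show R.res (constantCoeff (C b)) = a; rw [constantCoeff_C, hb]⟩
  isAdicComplete := by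
    have := R.isAdicComplete
    exact isAdicComplete_mvPowerSeries

lemma psRing_res_C (n : ℕ) (R : CRing Λ k) (a : R.carrier) :
    (psRing n R).res (C a) = R.res a := congrArg R.res (constantCoeff_C a)

lemma psRing_res_X (n : ℕ) (R : CRing Λ k) (i : Fin n) : (psRing n R).res (X i) = 0 :=
  (congrArg R.res (constantCoeff_X i)).trans (map_zero _)

/-- The inclusion of the constants. -/
def psC (n : ℕ) (R : CRing Λ k) : R.carrier →ₐ[Λ] (psRing n R).carrier :=
  IsScalarTower.toAlgHom Λ R.carrier (MvPowerSeries (Fin n) R.carrier)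

lemma psC_apply (n : ℕ) (R : CRing Λ k) (a : R.carrier) : psC n R a = C a := by
  show algebraMap R.carrier (MvPowerSeries (Fin n) R.carrier) a = C a
  rw [MvPowerSeries.algebraMap_apply, Algebra.algebraMap_self, RingHom.id_apply]

lemma psC_res (n : ℕ) (R : CRing Λ k) : (psRing n R).res.comp (psC n R) = R.res :=
  AlgHom.ext fun a => by rw [AlgHom.comp_apply, psC_apply, psRing_res_C]

/-- Evaluation at elements of the ideal of a complete ring. -/
theorem exists_evalAdic {σ : Type} [Fintype σ] {R : Type u} [CommRing R] {B : Type u} [CommRing B]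
    [Algebra R B] (I : Ideal B) [IsAdicComplete I B] (c : σ → B) (hc : ∀ i, c i ∈ I) :
    ∃ ψ : MvPowerSeries σ R →ₐ[R] B, ∀ i, ψ (MvPowerSeries.X i) = c i := by
  have hnil : ∀ n, ∀ i, IsNilpotent (Ideal.Quotient.mk (I ^ n) (c i)) := fun n i =>
    ⟨n, by rw [← map_pow, Ideal.Quotient.eq_zero_iff_mem]; exact Ideal.pow_mem_pow (hc i) n⟩
  let f : ∀ n, MvPowerSeries σ R →ₐ[R] B ⧸ I ^ n := fun n => ArtPow.evalNil _ (hnil n)
  have hf : ∀ {m n : ℕ} (hle : m ≤ n),
      (Ideal.Quotient.factorPow I hle).comp (f n).toRingHom = (f m).toRingHom := by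
    intro m n hle
    let φ : B ⧸ I ^ n →ₐ[R] B ⧸ I ^ m :=
      { Ideal.Quotient.factorPow I hle with commutes' := fun _ => rfl }
    have hN : (I.map (Ideal.Quotient.mk (I ^ m))) ^ m = ⊥ := by rw [← Ideal.map_pow, Ideal.map_quotient_self]
    have e : φ.comp (f n) = f m := by
      refine ArtPow.algHom_ext hN (fun i => ?_) (fun i => ?_)
      · rw [AlgHom.comp_apply, ArtPow.evalNil_X, ArtPow.evalNil_X]
        rfl
      · rw [AlgHom.comp_apply, ArtPow.evalNil_X]
        exact Ideal.mem_map_of_mem _ (hc i)
    exact congr_arg AlgHom.toRingHom e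
  let ψ₀ := IsAdicComplete.liftRingHom I (fun n => (f n).toRingHom) hf
  have hψ : ∀ n x, Ideal.Quotient.mk (I ^ n) (ψ₀ x) = f n x := fun n x =>
    IsAdicComplete.mk_liftRingHom I (fun n => (f n).toRingHom) hf n x
  have heq : ∀ x y : B, (∀ n, Ideal.Quotient.mk (I ^ n) x = Ideal.Quotient.mk (I ^ n) y) → x = y := by
    intro x y h
    refine sub_eq_zero.mp (IsHausdorff.haus' (I := I) _ fun n => ?_)
    rw [SModEq.sub_mem, sub_zero, smul_eq_mul, Ideal.mul_top]
    exact Ideal.Quotient.eq.mp (h n)
  refine ⟨{ ψ₀ with commutes' := fun r => heq _ _ fun n => ?_ }, fun i => heq _ _ fun n => ?_⟩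
  · exact (hψ n _).trans ((f n).commutes r)
  · exact (hψ n _).trans (ArtPow.evalNil_X _ _ i)

/-- Algebra maps sending the variables into the ideal of a separated ring are determined on them. -/
theorem algHom_ext_adic {σ : Type} [Fintype σ] {R : Type u} [CommRing R] {B : Type u} [CommRing B]
    [Algebra R B] (I : Ideal B) [IsHausdorff I B] {φ ψ : MvPowerSeries σ R →ₐ[R] B}
    (hX : ∀ i, φ (X i) = ψ (X i)) (hφ : ∀ i, φ (X i) ∈ I) : φ = ψ := by
  refine AlgHom.ext fun f => sub_eq_zero.mp (IsHausdorff.haus' (I := I) _ fun n => ?_)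
  rw [SModEq.sub_mem, sub_zero, smul_eq_mul, Ideal.mul_top, ← Ideal.Quotient.eq]
  have hN : (I.map (Ideal.Quotient.mk (I ^ n))) ^ n = ⊥ := by rw [← Ideal.map_pow, Ideal.map_quotient_self]
  exact DFunLike.congr_fun (ArtPow.algHom_ext (φ := (Ideal.Quotient.mkₐ R (I ^ n)).comp φ)
    (ψ := (Ideal.Quotient.mkₐ R (I ^ n)).comp ψ) hN (fun i => congrArg _ (hX i))
    fun i => Ideal.mem_map_of_mem _ (hφ i)) f

/-- The universal property of `R[[X₁, …, Xₙ]]`. -/
theorem existsUnique_psRing (n : ℕ) (R T : CRing Λ k) (ι : R.carrier →ₐ[Λ] T.carrier)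
    (hι : T.res.comp ι = R.res) (t : Fin n → T.carrier) (ht : ∀ i, T.res (t i) = 0) :
    ∃! g : (psRing n R).carrier →ₐ[Λ] T.carrier,
      T.res.comp g = (psRing n R).res ∧ g.comp (psC n R) = ι ∧ ∀ i, g (X i) = t i := by
  let _ : Algebra R.carrier T.carrier := ι.toRingHom.toAlgebra
  have : IsScalarTower Λ R.carrier T.carrier := IsScalarTower.of_algebraMap_eq fun r => (ι.commutes r).symm
  have := T.isAdicComplete
  have htm : ∀ i, t i ∈ maximalIdeal T.carrier := fun i => (CRing.mem_maximalIdeal_iff T _).2 (ht i)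
  obtain ⟨g, hg⟩ := exists_evalAdic (R := R.carrier) (maximalIdeal T.carrier) t htm
  have hgC : ∀ a, g (C a) = ι a := fun a => by
    rw [show (C a : MvPowerSeries (Fin n) R.carrier) = algebraMap R.carrier _ a by
      rw [MvPowerSeries.algebraMap_apply, Algebra.algebraMap_self, RingHom.id_apply], AlgHom.commutes]
    rfl
  refine ⟨g.restrictScalars Λ, ⟨AlgHom.ext fun f => ?_, AlgHom.ext fun a => ?_, hg⟩, ?_⟩
  · obtain ⟨c, hc⟩ := Ideal.mem_span_range_iff_exists_fun.mp (ArtPow.sub_C_constantCoeff_mem f)
    show T.res (g f) = R.res (constantCoeff f)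
    have hf : f = (∑ i, c i * X i) + C (constantCoeff f) := eq_add_of_sub_eq hc.symm
    conv_lhs => rw [hf]
    simp only [map_add, map_sum, map_mul, hgC, hg, ht, mul_zero, Finset.sum_const_zero, zero_add]
    exact DFunLike.congr_fun hι _
  · rw [AlgHom.comp_apply, psC_apply]; exact hgC a
  · rintro g' ⟨-, h2, h3⟩
    let g'' : MvPowerSeries (Fin n) R.carrier →ₐ[R.carrier] T.carrier :=
      { g'.toRingHom with
        commutes' := fun a => DFunLike.congr_fun h2 a }
    have : g'' = g := algHom_ext_adic (maximalIdeal T.carrier) (fun i => (h3 i).trans (hg i).symm)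
      fun i => by
        show g' (X i) ∈ _
        rw [h3]; exact htm i
    exact AlgHom.ext fun f => DFunLike.congr_fun this f

end Groth.Agent.ArtKit
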