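import Groth.Agent.ArtKit.Cmp
import Groth.Agent.S12711

/-!
# The tangent action on lifts along a small extension

For a small extension `p : B → A` with kernel `(t)` the fibre product `B ×_A B` is `B ×_k k[ε]`.  This gives the
one-point criterion and injectivity of comparison maps from `HSq`.
-/

set_option autoImplicit false
universe u v

open CategoryTheory ArtFun

namespace Groth.Agent.ArtKit

variable {Λ : Type u} {k : Type u} [CommRing Λ] [Field k] [Algebra Λ k]

lemma res_eq_of_mul_eq {B : Art Λ k} {t b₁ b₂ : B} (ht : t ≠ 0) (h : b₁ * t = b₂ * t) : B.res b₁ = B.res b₂ := by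
  by_contra hne
  have hu : IsUnit (b₁ - b₂) := by
    by_contra hu
    exact hne (sub_eq_zero.1 (by
      rw [← map_sub, ← Art.mem_maximalIdeal_iff]; exact (IsLocalRing.mem_maximalIdeal _).2 hu))
  exact ht (hu.mul_right_eq_zero.1 (by rw [sub_mul, h, sub_self]))

lemma map_eq_map_base {F : Art Λ k ⥤ Type v} {B : Art Λ k} (f : B ⟶ Art.dual Λ k)
    (hf : ∀ x, TrivSqZeroExt.snd (f x) = 0) (z : F.obj B) :
    F.map f z = F.map Art.baseToDual (F.map (Art.toBase B) z) := by
  rw [← map_comp_app]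
  rw [show f = Art.toBase B ≫ Art.baseToDual from
    Art.hom_ext (AlgHom.ext fun x => TrivSqZeroExt.ext (Art.res_app f x) (hf x))]

/-- `B ×_A B ≅ B ×_k k[ε]` for a small extension. -/
theorem exists_action_data [IsNoetherianRing Λ] [Module.Finite Λ k] {B A : Art Λ k} (p : B ⟶ A) (hp : Art.IsSmallExt p) :
    ∃ (t : B) (P : Art Λ k) (p₁ p₂ : P ⟶ B) (g : P ⟶ Art.dual Λ k),
      t ≠ 0 ∧ RingHom.ker p.toAlgHom = Ideal.span {t} ∧ Art.IsFibreProd p₁ p₂ p p ∧
      Art.IsFibreProd p₁ g (Art.toBase B) (Art.toBase (Art.dual Λ k)) ∧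
      ∀ (z : P) (b : B), p₂ z - p₁ z = b * t → TrivSqZeroExt.snd (g z) = B.res b := by
  classical
  obtain ⟨hs, hne, ⟨⟨t, ht⟩⟩, hm⟩ := hp
  have ht' : RingHom.ker p.toAlgHom = Ideal.span {t} := ht
  have ht0 : t ≠ 0 := fun h => hne (by rw [ht', h]; exact Ideal.span_singleton_eq_bot.2 rfl)
  have htm : ∀ m, B.res m = 0 → m * t = 0 := fun m hm' => Ideal.mem_bot.1 (hm ▸
    Ideal.mul_mem_mul ((B.mem_maximalIdeal_iff m).2 hm') (ht' ▸ Ideal.mem_span_singleton_self t))
  obtain ⟨P, p₁, p₂, hP⟩ := ArtFib.exists_isFibreProd_of_surjective p p hs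
  have hb : ∀ z : P, ∃ b, p₂ z - p₁ z = b * t := fun z => by
    have : p₂ z - p₁ z ∈ RingHom.ker p.toAlgHom := by
      rw [RingHom.mem_ker, map_sub, sub_eq_zero]; exact (hP.w_apply z).symm
    rw [ht'] at this
    obtain ⟨b, e⟩ := Ideal.mem_span_singleton'.1 this
    exact ⟨b, e.symm⟩
  choose c hc using hb
  have huniq : ∀ (z : P) (b : B), p₂ z - p₁ z = b * t → B.res (c z) = B.res b := fun z b e =>
    res_eq_of_mul_eq ht0 ((hc z).symm.trans e)
  let G : P →ₐ[Λ] DualNumber k :=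
    { toFun := fun z => (P.res z, B.res (c z))
      map_one' := TrivSqZeroExt.ext (map_one P.res)
        ((huniq 1 0 (by rw [map_one, map_one, sub_self, zero_mul])).trans (map_zero _))
      map_zero' := TrivSqZeroExt.ext (map_zero P.res)
        ((huniq 0 0 (by rw [map_zero, map_zero, sub_self, zero_mul])).trans (map_zero _))
      map_add' := fun z w => TrivSqZeroExt.ext (map_add P.res z w)
        ((huniq (z + w) (c z + c w) (by rw [map_add, map_add, add_mul, ← hc, ← hc]; abel)).trans (map_add _ _ _))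
      map_mul' := fun z w => TrivSqZeroExt.ext (map_mul P.res z w) (by
        refine (huniq (z * w) (p₂ z * c w + p₁ w * c z) ?_).trans ?_
        · rw [map_mul, map_mul, add_mul, mul_assoc, mul_assoc, ← hc, ← hc]; ring
        · rw [map_add, map_mul, map_mul, Art.res_app, Art.res_app]
          show _ = P.res z • B.res (c w) + MulOpposite.op (P.res w) • B.res (c z)
          rw [op_smul_eq_smul, smul_eq_mul, smul_eq_mul])
      commutes' := fun l => TrivSqZeroExt.ext (P.res.commutes l) (by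
        refine (huniq _ 0 (by rw [AlgHom.commutes, AlgHom.commutes, sub_self, zero_mul])).trans ?_
        rw [map_zero, TrivSqZeroExt.algebraMap_eq_inl', TrivSqZeroExt.snd_inl]) }
  let g : P ⟶ Art.dual Λ k := Art.homMk G (AlgHom.ext fun z => rfl)
  refine ⟨t, P, p₁, p₂, g, ht0, ht', hP, ⟨?_, fun z w e₁ e₂ => hP.inj z w e₁ ?_, fun b d e => ?_⟩, huniq⟩
  · rw [Art.eq_toBase (p₁ ≫ Art.toBase B), Art.eq_toBase (g ≫ Art.toBase _)]
  · have e : B.res (c z) = B.res (c w) := congrArg TrivSqZeroExt.snd e₂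
    have h0 := htm (c z - c w) (by rw [map_sub, e, sub_self])
    rw [sub_mul, sub_eq_zero, ← hc, ← hc, e₁] at h0
    exact sub_left_inj.1 h0
  · obtain ⟨a, ha⟩ := B.res_surjective (TrivSqZeroExt.snd d)
    have hpt : p t = 0 := RingHom.mem_ker.1 (ht' ▸ Ideal.mem_span_singleton_self t)
    obtain ⟨z, hz₁, hz₂⟩ := hP.surj b (b + a * t) (by rw [map_add, map_mul, hpt, mul_zero, add_zero])
    exact ⟨z, hz₁, TrivSqZeroExt.ext ((Art.res_app p₁ z).symm.trans ((congrArg B.res hz₁).trans e))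
      ((huniq z a (by rw [hz₁, hz₂]; abel)).trans ha)⟩

variable [IsNoetherianRing Λ] [Module.Finite Λ k] {F : Art Λ k ⥤ Type v}

/-- With a one-point tangent space, lifts along small extensions are unique. -/
theorem map_injective_of_subsingleton_tangent (h1 : Hbar F) (h2 : Heps F)
    (ht : Subsingleton (TangentSpace F)) {B A : Art Λ k} (p : B ⟶ A) (hp : Art.IsSmallExt p) :
    Function.Injective (F.map p) := by
  intro y y' e
  obtain ⟨t, P, p₁, p₂, g, -, -, hP, h', -⟩ := exists_action_data p hp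
  obtain ⟨z, rfl, rfl⟩ := (surjective_cmp_iff hP).1 (h1 p₁ p₂ p p hP hp) y y' e
  obtain ⟨d, hd₁, hd₂⟩ := exists_lift hP (𝟙 B) (𝟙 B) rfl
  have hz : z = F.map d (F.map p₁ z) := (injective_cmp_iff h').1 (h2 _ _ h').1 _ _
    (by rw [← map_comp_app F d p₁, hd₁, map_id_app]) (ht.elim _ _)
  conv_rhs => rw [hz, ← map_comp_app, hd₂, map_id_app]

/-- `HSq` makes the comparison maps along small extensions injective. -/
theorem injective_cmp_of_hsq (h0 : H0 F) (h1 : Hbar F) (h2 : Heps F) (h4 : HSq F) {B A A' A'' : Art Λ k}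
    {p' : B ⟶ A'} {p'' : B ⟶ A''} {f' : A' ⟶ A} {f'' : A'' ⟶ A} (h : Art.IsFibreProd p' p'' f' f'')
    (hf : Art.IsSmallExt f'') : Function.Injective (cmp F h) := by
  refine (injective_cmp_iff h).2 fun z₁ z₂ e₁ e₂ => ?_
  -- `p'` is again small
  have hp' : Art.IsSmallExt p' := isSmallExt_fst h hf
  obtain ⟨t, P, p₁, p₂, g, ht0, hkert, hP, hP', hg⟩ := exists_action_data p' hp'
  obtain ⟨tA, Q, q₁, q₂, gQ, htA0, hkertA, hQ, hQ', hgQ⟩ := exists_action_data f'' hf
  obtain ⟨w, rfl, rfl⟩ := (surjective_cmp_iff hP).1 (h1 p₁ p₂ p' p' hP hp') z₁ z₂ e₁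
  obtain ⟨r, hr₁, hr₂⟩ := exists_lift hQ (p₁ ≫ p'') (p₂ ≫ p'') (by
    rw [Category.assoc, Category.assoc, ← h.w, ← Category.assoc, hP.w, Category.assoc])
  obtain ⟨d, hd₁, hd₂⟩ := exists_lift hQ (𝟙 A'') (𝟙 A'') rfl
  obtain ⟨D, hD₁, hD₂⟩ := exists_lift hP (𝟙 B) (𝟙 B) rfl
  have hrw : F.map r w = F.map d (F.map p'' (F.map p₁ w)) :=
    (injective_cmp_iff hQ).1 (h4 q₁ q₂ f'' hQ hf).1 _ _
      (by rw [← map_comp_app F r q₁, hr₁, map_comp_app, ← map_comp_app F d q₁, hd₁, map_id_app])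
      (by rw [← map_comp_app F r q₂, hr₂, map_comp_app, ← map_comp_app F d q₂, hd₂, map_id_app]; exact e₂.symm)
  -- `p''` sends the kernel of `p'` isomorphically onto that of `f''`
  have hker : ∃ b : A'', IsUnit b ∧ p'' t = b * tA := by
    have hmem : p'' t ∈ RingHom.ker f''.toAlgHom := by
      rw [RingHom.mem_ker]
      refine (h.w_apply t).symm.trans ?_
      rw [RingHom.mem_ker.1 (hkert ▸ Ideal.mem_span_singleton_self t : t ∈ RingHom.ker p'.toAlgHom), map_zero]
    rw [hkertA] at hmem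
    obtain ⟨b, hb⟩ := Ideal.mem_span_singleton'.1 hmem
    refine ⟨b, by_contra fun hu => ht0 (h.inj _ _ ?_ ?_), hb.symm⟩
    · rw [map_zero]; exact RingHom.mem_ker.1 (hkert ▸ Ideal.mem_span_singleton_self t)
    · rw [map_zero, ← hb, ← Ideal.mem_bot, ← hf.2.2.2]
      exact Ideal.mul_mem_mul ((IsLocalRing.mem_maximalIdeal b).2 hu) (hkertA ▸ Ideal.mem_span_singleton_self tA)
  obtain ⟨b, hbu, hb⟩ := hker
  have hrg : r ≫ gQ = g ≫ Art.scale (A''.res b) := by
    refine Art.hom_ext (AlgHom.ext fun z => TrivSqZeroExt.ext ((Art.res_app (r ≫ gQ) z).trans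
      (Art.res_app (g ≫ Art.scale (A''.res b)) z).symm) ?_)
    obtain ⟨a, ha⟩ : ∃ a, p₂ z - p₁ z = a * t := by
      have : p₂ z - p₁ z ∈ RingHom.ker p'.toAlgHom := by
        rw [RingHom.mem_ker, map_sub, sub_eq_zero]; exact (hP.w_apply z).symm
      rw [hkert] at this
      obtain ⟨a, ha⟩ := Ideal.mem_span_singleton'.1 this
      exact ⟨a, ha.symm⟩
    show TrivSqZeroExt.snd (gQ (r z)) = A''.res b • TrivSqZeroExt.snd (g z)
    rw [hg z a ha, hgQ (r z) (p'' a * b) ?_, map_mul, Art.res_app, smul_eq_mul, mul_comm]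
    rw [← Art.comp_apply, ← Art.comp_apply, hr₁, hr₂, Art.comp_apply, Art.comp_apply, ← map_sub, ha, map_mul, hb,
      mul_assoc]
  have hzero : ∀ z : A'', TrivSqZeroExt.snd ((d ≫ gQ) z) = 0 := fun z => by
    refine (hgQ (d z) 0 ?_).trans (map_zero _)
    rw [← Art.comp_apply, ← Art.comp_apply, hd₁, hd₂, sub_self, zero_mul]
  have hgw : F.map g w = F.map Art.baseToDual (F.map (Art.toBase _) (F.map p'' (F.map p₁ w))) := by
    have e : F.map (Art.scale (A''.res b)) (F.map g w) =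
        F.map Art.baseToDual (F.map (Art.toBase _) (F.map p'' (F.map p₁ w))) := by
      rw [← map_comp_app, ← hrg, map_comp_app, hrw, ← map_comp_app F d gQ, map_eq_map_base _ hzero]
    have hu : A''.res b ≠ 0 := (hbu.map A''.res).ne_zero
    rw [← map_id_app F (F.map g w), show 𝟙 (Art.dual Λ k) = Art.scale (A''.res b) ≫ Art.scale (A''.res b)⁻¹ from
      Art.hom_ext (AlgHom.ext fun x => TrivSqZeroExt.ext rfl (by
        show x.snd = (A''.res b)⁻¹ • (A''.res b • x.snd)
        rw [smul_smul, inv_mul_cancel₀ hu, one_smul])), map_comp_app, e, ← map_comp_app F Art.baseToDual,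
      show Art.baseToDual ≫ Art.scale (A''.res b)⁻¹ = (Art.baseToDual : Art.base Λ k ⟶ _) from
        Art.hom_ext (AlgHom.ext fun x => TrivSqZeroExt.ext rfl (smul_zero (A''.res b)⁻¹))]
  have hDz : ∀ z : B, TrivSqZeroExt.snd ((D ≫ g) z) = 0 := fun z => by
    refine (hg (D z) 0 ?_).trans (map_zero _)
    rw [← Art.comp_apply, ← Art.comp_apply, hD₁, hD₂, sub_self, zero_mul]
  have hwD : w = F.map D (F.map p₁ w) := (injective_cmp_iff hP').1 (h2 _ _ hP').1 _ _
    (by rw [← map_comp_app F D p₁, hD₁, map_id_app])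
    (by rw [hgw, ← map_comp_app F D g, map_eq_map_base _ hDz]; exact congrArg _ (h0.2.elim _ _))
  conv_rhs => rw [hwD, ← map_comp_app, hD₂, map_id_app]
where
  isSmallExt_fst {B A A₁ A₂ : Art Λ k} {p₁ : B ⟶ A₁} {p₂ : B ⟶ A₂} {f₁ : A₁ ⟶ A} {f₂ : A₂ ⟶ A}
      (h : Art.IsFibreProd p₁ p₂ f₁ f₂) (hf₂ : Art.IsSmallExt f₂) : Art.IsSmallExt p₁ :=
    Groth.Agent.S12711.result h hf₂

end Groth.Agent.ArtKit
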