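import Groth.Prelude.Def_ArtFun2
import Mathlib.RingTheory.AdicCompletion.Noetherian
import Mathlib.RingTheory.AdicCompletion.Functoriality
import Mathlib.RingTheory.Derivation.Basic
import Mathlib.RingTheory.Nakayama
import Mathlib.RingTheory.HopkinsLevitzki
import Mathlib.RingTheory.Finiteness.Quotient
import Mathlib.LinearAlgebra.Dual.Lemmas

/-!
# Cotangent criterion for surjectivity of augmented local maps; derivations into the residue field
-/

set_option autoImplicit false
universe u

namespace Groth.Agent.ArtKit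

open IsLocalRing

variable {Λ : Type u} {k : Type u} [CommRing Λ] [Field k] [Algebra Λ k]
  {R S : Type u} [CommRing R] [CommRing S] [IsLocalRing R] [IsLocalRing S] [Algebra Λ R] [Algebra Λ S]

lemma maximalIdeal_eq_ker {resR : R →ₐ[Λ] k} (hR : Function.Surjective resR) :
    maximalIdeal R = RingHom.ker resR :=
  (IsLocalRing.eq_maximalIdeal (RingHom.ker_isMaximal_of_surjective (resR : R →+* k) hR)).symm

lemma isPrecomplete_of_pow_eq_bot {A : Type u} [CommRing A] {I : Ideal A} {N : ℕ} (h : I ^ N = ⊥) :
    IsPrecomplete I A := by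
  refine ⟨fun f hf => ⟨f N, fun n => ?_⟩⟩
  rcases le_total n N with hn | hn
  · exact hf hn
  · have e := hf hn
    rw [smul_eq_mul, Ideal.mul_top, h, SModEq.bot] at e
    rw [e]

variable {resR : R →ₐ[Λ] k} {resS : S →ₐ[Λ] k}

omit [IsLocalRing S] in
lemma map_ker_algebraMap_le (hR : Function.Surjective resR) (f : R →ₐ[Λ] S) :
    Ideal.map (algebraMap Λ S) (RingHom.ker (algebraMap Λ k)) ≤ Ideal.map f (maximalIdeal R) := by
  rw [Ideal.map_le_iff_le_comap]
  intro l hl
  rw [Ideal.mem_comap, ← f.commutes]
  refine Ideal.mem_map_of_mem _ ?_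
  rw [maximalIdeal_eq_ker hR, RingHom.mem_ker, AlgHom.commutes]
  exact hl

lemma map_maximalIdeal_le (hR : Function.Surjective resR) (hS : Function.Surjective resS) (f : R →ₐ[Λ] S)
    (hf : resS.comp f = resR) : Ideal.map f (maximalIdeal R) ≤ maximalIdeal S := by
  rw [Ideal.map_le_iff_le_comap]
  intro r hr
  rw [maximalIdeal_eq_ker hR, RingHom.mem_ker, ← hf] at hr
  rw [Ideal.mem_comap, maximalIdeal_eq_ker hS]
  exact hr

theorem surjective_tfae_cotangent (hR : Function.Surjective resR) (hS : Function.Surjective resS)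
    [IsPrecomplete (maximalIdeal R) R] [IsNoetherianRing S] (f : R →ₐ[Λ] S) (hf : resS.comp f = resR) :
    List.TFAE [Function.Surjective f,
      Ideal.map f (maximalIdeal R) ⊔ maximalIdeal S ^ 2 = maximalIdeal S,
      Ideal.map (algebraMap Λ S) (RingHom.ker (algebraMap Λ k)) ⊔ Ideal.map f (maximalIdeal R) ⊔
        maximalIdeal S ^ 2 = maximalIdeal S] := by
  have hle := map_maximalIdeal_le hR hS f hf
  tfae_have 1 → 2 := by
    intro h
    refine le_antisymm (sup_le hle (Ideal.pow_le_self two_ne_zero)) fun s hs => Ideal.mem_sup_left ?_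
    obtain ⟨r, rfl⟩ := h s
    refine Ideal.mem_map_of_mem _ ?_
    rw [maximalIdeal_eq_ker hS, RingHom.mem_ker] at hs
    rw [maximalIdeal_eq_ker hR, RingHom.mem_ker, ← hf]
    exact hs
  tfae_have 2 ↔ 3 := by
    rw [sup_eq_right.2 (map_ker_algebraMap_le hR f)]
  tfae_have 2 → 1 := by
    intro h
    have heq : Ideal.map f (maximalIdeal R) = maximalIdeal S := by
      refine le_antisymm hle (Submodule.le_of_le_smul_of_le_jacobson_bot (IsNoetherian.noetherian _)
        (jacobson_eq_maximalIdeal (⊥ : Ideal S) bot_ne_top).ge ?_)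
      rw [smul_eq_mul, ← pow_two, h]
    have : IsHausdorff ((maximalIdeal R).map (f : R →+* S)) S :=
      IsHausdorff.of_le_jacobson _ S (hle.trans (jacobson_eq_maximalIdeal (⊥ : Ideal S) bot_ne_top).ge)
    refine surjective_of_mk_map_comp_surjective (I := maximalIdeal R) (f : R →+* S) fun y => ?_
    obtain ⟨s, rfl⟩ := Ideal.Quotient.mk_surjective y
    obtain ⟨r, hr⟩ := hR (resS s)
    refine ⟨r, (Ideal.Quotient.eq.2 ?_)⟩
    show f r - s ∈ Ideal.map f (maximalIdeal R)
    rw [heq, maximalIdeal_eq_ker hS, RingHom.mem_ker, map_sub, ← hr, ← hf]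
    exact sub_self _
  tfae_finish

variable [Algebra S k] [IsScalarTower Λ S k]

omit [IsLocalRing R] [IsLocalRing S] in
lemma smul_residue (s : S) (x : k) : s • x = algebraMap S k s * x := Algebra.smul_def s x

/-- Derivations into the residue field detect surjectivity. -/
theorem surjective_of_derivation_comp_injective (hR : Function.Surjective resR)
    [IsPrecomplete (maximalIdeal R) R] [IsNoetherianRing S] (hres : Function.Surjective (algebraMap S k))
    (f : R →ₐ[Λ] S) (hf : (IsScalarTower.toAlgHom Λ S k).comp f = resR)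
    (hinj : ∀ D₁ D₂ : Derivation Λ S k, (∀ r : R, D₁ (f r) = D₂ (f r)) → D₁ = D₂) :
    Function.Surjective f := by
  let rho : S →ₐ[Λ] k := IsScalarTower.toAlgHom Λ S k
  refine ((surjective_tfae_cotangent hR (resS := rho) hres f hf).out 1 0).1 ?_
  set J := Ideal.map f (maximalIdeal R) ⊔ maximalIdeal S ^ 2 with hJ
  have hJm : J ≤ maximalIdeal S :=
    sup_le (map_maximalIdeal_le hR hres f hf) (Ideal.pow_le_self two_ne_zero)
  -- the constant section `k → S/J`
  have hker : ∀ r : R, resR r = 0 → Ideal.Quotient.mk J (f r) = 0 := fun r hr =>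
    Ideal.Quotient.eq_zero_iff_mem.2 (Ideal.mem_sup_left (Ideal.mem_map_of_mem _
      (by rw [maximalIdeal_eq_ker hR]; exact hr)))
  choose u hu using hR
  have hσ : ∀ r : R, Ideal.Quotient.mk J (f r) = Ideal.Quotient.mk J (f (u (resR r))) := fun r => by
    rw [← sub_eq_zero, ← map_sub, ← map_sub]
    exact hker _ (by rw [map_sub, hu, sub_self])
  let σ : k →+* S ⧸ J :=
    { toFun := fun c => Ideal.Quotient.mk J (f (u c))
      map_one' := by have := hσ 1; rw [map_one, map_one, map_one] at this; exact this.symm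
      map_zero' := by have := hσ 0; rw [map_zero, map_zero, map_zero] at this; exact this.symm
      map_add' := fun a b => by
        have := hσ (u a + u b)
        simp only [map_add, hu] at this
        exact this.symm
      map_mul' := fun a b => by
        have := hσ (u a * u b)
        simp only [map_mul, hu] at this
        exact this.symm }
  let : Algebra k (S ⧸ J) := σ.toAlgebra
  have hsm : ∀ (c : k) (y : S ⧸ J), c • y = σ c * y := fun c y => Algebra.smul_def c y
  let P : S → S ⧸ J := fun s => Ideal.Quotient.mk J s - σ (rho s)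
  have hPm : ∀ s, ∃ m ∈ maximalIdeal S, P s = Ideal.Quotient.mk J m := fun s => by
    refine ⟨s - f (u (rho s)), ?_, (map_sub _ _ _).symm⟩
    rw [maximalIdeal_eq_ker (resR := rho) hres, RingHom.mem_ker, map_sub]
    have : rho (f (u (rho s))) = rho s := (DFunLike.congr_fun hf _).trans (hu _)
    rw [this, sub_self]
  have hPP : ∀ s t, P s * P t = 0 := fun s t => by
    obtain ⟨a, ha, ha'⟩ := hPm s
    obtain ⟨b, hb, hb'⟩ := hPm t
    rw [ha', hb', ← map_mul]
    exact Ideal.Quotient.eq_zero_iff_mem.2 (Ideal.mem_sup_right (by rw [pow_two]; exact Ideal.mul_mem_mul ha hb))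
  have hPmul : ∀ s t, P (s * t) = σ (rho s) * P t + σ (rho t) * P s := fun s t => by
    have := hPP s t
    simp only [P, map_mul] at this ⊢
    linear_combination this
  have hPf : ∀ r, P (f r) = 0 := fun r => by
    have : rho (f r) = resR r := DFunLike.congr_fun hf r
    show Ideal.Quotient.mk J (f r) - Ideal.Quotient.mk J (f (u (rho (f r)))) = 0
    rw [this, ← hσ, sub_self]
  have hPl : ∀ l : Λ, P (algebraMap Λ S l) = 0 := fun l => by rw [← f.commutes]; exact hPf _
  refine le_antisymm hJm fun s hs => by_contra fun hns => ?_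
  have hPs : P s ≠ 0 := by
    have : rho s = 0 := by rwa [maximalIdeal_eq_ker (resR := rho) hres] at hs
    show Ideal.Quotient.mk J s - σ (rho s) ≠ 0
    rw [this, map_zero, sub_zero]
    exact fun h => hns (Ideal.Quotient.eq_zero_iff_mem.1 h)
  obtain ⟨φ, hφ⟩ : ∃ φ : (S ⧸ J) →ₗ[k] k, φ (P s) ≠ 0 := by
    by_contra hall
    push Not at hall
    exact hPs ((Module.forall_dual_apply_eq_zero_iff k (P s)).1 hall)
  have hφσ : ∀ (c : k) (y : S ⧸ J), φ (σ c * y) = c * φ y := fun c y => by
    rw [← hsm, map_smul, smul_eq_mul]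
  let L : S →ₗ[Λ] k :=
    { toFun := fun t => φ (P t)
      map_add' := fun a b => by
        rw [← map_add]
        congr 1
        simp only [P, map_add]
        abel
      map_smul' := fun l t => by
        rw [Algebra.smul_def, hPmul, hPl, mul_zero, add_zero, hφσ, RingHom.id_apply, Algebra.smul_def,
          AlgHom.commutes] }
  let D : Derivation Λ S k := Derivation.mk' L fun a b => by
    show φ (P (a * b)) = a • φ (P b) + b • φ (P a)
    rw [hPmul, map_add, hφσ, hφσ, smul_residue, smul_residue]
    rfl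
  have hD : D = 0 := hinj D 0 fun r => by
    show φ (P (f r)) = 0
    rw [hPf, map_zero]
  exact hφ (DFunLike.congr_fun hD s)

/-- Derivations into the residue field form a finite-dimensional space. -/
theorem finite_derivation [Module.Finite Λ k] [IsNoetherianRing S] (hres : Function.Surjective (algebraMap S k)) :
    Module.Finite k (Derivation Λ S k) := by
  classical
  let rho : S →ₐ[Λ] k := IsScalarTower.toAlgHom Λ S k
  obtain ⟨t, ht⟩ := (IsNoetherian.noetherian (maximalIdeal S) : (maximalIdeal S).FG)
  obtain ⟨g, hg⟩ := (‹Module.Finite Λ k›).fg_top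
  choose u hu using id hres
  let E : Derivation Λ S k →ₗ[k] (↥t ⊕ ↥g → k) :=
    { toFun := fun D i => i.elim (fun a : ↥t => D (a : S)) (fun c : ↥g => D (u (c : k)))
      map_add' := fun D D' => by ext (a | a) <;> rfl
      map_smul' := fun c D => by ext (a | a) <;> rfl }
  refine Module.Finite.of_injective E fun D D' h => ?_
  have h1 : ∀ x ∈ t, D x = D' x := fun x hx => congrFun h (.inl ⟨x, hx⟩)
  have h2 : ∀ c ∈ g, D (u c) = D' (u c) := fun c hc => congrFun h (.inr ⟨c, hc⟩)
  have h3 : ∀ x ∈ maximalIdeal S, D x = D' x := by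
    intro x hx
    rw [← ht] at hx
    obtain ⟨a, -, rfl⟩ := Submodule.mem_span_finset.1 hx
    simp only [map_sum, smul_eq_mul, Derivation.leibniz]
    refine Finset.sum_congr rfl fun i hi => ?_
    have hi0 : algebraMap S k i = 0 := by
      rw [← RingHom.mem_ker]
      exact (maximalIdeal_eq_ker (resR := rho) hres).le (ht ▸ Submodule.subset_span hi : i ∈ maximalIdeal S)
    rw [h1 i hi, smul_residue i, smul_residue i, hi0, zero_mul, zero_mul]
  ext s
  obtain ⟨l, -, hl⟩ := Submodule.mem_span_finset.1 (show algebraMap S k s ∈ Submodule.span Λ (g : Set k) from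
    hg ▸ Submodule.mem_top)
  have hm : s - ∑ c ∈ g, l c • u c ∈ maximalIdeal S := by
    rw [maximalIdeal_eq_ker (resR := rho) hres, RingHom.mem_ker, map_sub, map_sum]
    simp only [map_smul]
    show algebraMap S k s - ∑ c ∈ g, l c • algebraMap S k (u c) = 0
    simp only [hu, hl, sub_self]
  have := h3 _ hm
  simp only [map_sub, map_sum, Derivation.map_smul_of_tower] at this
  rwa [Finset.sum_congr rfl fun c hc => congrArg (l c • ·) (h2 c hc), sub_left_inj] at this

end Groth.Agent.ArtKit
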