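import Groth.Agent.ArtKit.Basic
import Mathlib.Algebra.Group.MinimalAxioms

/-!
# The tangent space of a functor of Artin rings

`H0` and (S2) give the vector space structure on `F(k[ε])`; differentials are linear.
-/

set_option autoImplicit false
universe u v

open CategoryTheory ArtFun

namespace Groth.Agent.ArtKit

variable {Λ : Type u} {k : Type u} [CommRing Λ] [Field k] [Algebra Λ k]

/-- Maps into `k[ε]` are determined by their `ε`-parts. -/
lemma dual_hom_ext {X : Art Λ k} {g h : X ⟶ Art.dual Λ k}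
    (e : ∀ x, TrivSqZeroExt.snd (g x) = TrivSqZeroExt.snd (h x)) : g = h :=
  Art.hom_ext (AlgHom.ext fun x => TrivSqZeroExt.ext ((Art.res_app g x).trans (Art.res_app h x).symm) (e x))

variable (Λ k) in
/-- `k[ε₁, ε₂, ε₃]`. -/
noncomputable def dual3 : Art Λ k :=
  { carrier := TrivSqZeroExt k ((k × k) × k)
    isLocalRing := Art.isLocalRing_tsze k ((k × k) × k)
    isArtinianRing := Art.isArtinianRing_tsze k ((k × k) × k)
    res := TrivSqZeroExt.fstHom Λ k ((k × k) × k)
    res_surjective := fun a => ⟨TrivSqZeroExt.inl a, rfl⟩ }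

/-- The projection to the first two infinitesimals. -/
noncomputable def pr12 : dual3 Λ k ⟶ Art.dual2 Λ k :=
  ⟨Art.tszeMap (LinearMap.fst k (k × k) k), AlgHom.ext fun _ => rfl⟩

/-- The projection to the last infinitesimal. -/
noncomputable def pr3 : dual3 Λ k ⟶ Art.dual Λ k :=
  ⟨Art.tszeMap (LinearMap.snd k (k × k) k), AlgHom.ext fun _ => rfl⟩

theorem isFibreProd_dual3 :
    Art.IsFibreProd (pr12 : dual3 Λ k ⟶ _) pr3 (Art.toBase _) (Art.toBase _) where
  w := by rw [Art.eq_toBase (pr12 ≫ Art.toBase _), Art.eq_toBase (pr3 ≫ Art.toBase _)]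
  inj b₁ b₂ h₁ h₂ := by
    have e₁ : b₁.fst = b₂.fst := by have e := congrArg TrivSqZeroExt.fst h₁; exact e
    have e₂ : b₁.snd.1 = b₂.snd.1 := by have e := congrArg TrivSqZeroExt.snd h₁; exact e
    have e₃ : b₁.snd.2 = b₂.snd.2 := by have e := congrArg TrivSqZeroExt.snd h₂; exact e
    exact TrivSqZeroExt.ext e₁ (Prod.ext e₂ e₃)
  surj a' a'' h := by
    have h' : a'.fst = a''.fst := h
    exact ⟨(a'.fst, (a'.snd, a''.snd)), TrivSqZeroExt.ext rfl rfl, TrivSqZeroExt.ext h' rfl⟩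

variable {F : Art Λ k ⥤ Type v}

lemma exists_pair (h0 : H0 F) (h2 : Heps F) (a b : F.obj (Art.dual Λ k)) :
    ∃ z, F.map Art.pr₁ z = a ∧ F.map Art.pr₂ z = b :=
  (surjective_cmp_iff _).1 (h2 _ _ Art.isFibreProd_dual2).2 a b (h0.2.elim _ _)

lemma pair_unique (h2 : Heps F) {z w : F.obj (Art.dual2 Λ k)}
    (e₁ : F.map Art.pr₁ z = F.map Art.pr₁ w) (e₂ : F.map Art.pr₂ z = F.map Art.pr₂ w) : z = w :=
  (injective_cmp_iff _).1 (h2 _ _ Art.isFibreProd_dual2).1 z w e₁ e₂

/-- Addition on `F(k[ε])`. -/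
noncomputable def tAdd (h0 : H0 F) (h2 : Heps F) (a b : F.obj (Art.dual Λ k)) : F.obj (Art.dual Λ k) :=
  F.map Art.plus (exists_pair h0 h2 a b).choose

lemma tAdd_eq (h0 : H0 F) (h2 : Heps F) {X : Art Λ k} {f₁ f₂ : X ⟶ Art.dual Λ k} (δ : X ⟶ Art.dual2 Λ k)
    {f : X ⟶ Art.dual Λ k} (e₁ : δ ≫ Art.pr₁ = f₁) (e₂ : δ ≫ Art.pr₂ = f₂) (e : δ ≫ Art.plus = f) (x : F.obj X) :
    tAdd h0 h2 (F.map f₁ x) (F.map f₂ x) = F.map f x := by
  obtain ⟨hz₁, hz₂⟩ := (exists_pair h0 h2 (F.map f₁ x) (F.map f₂ x)).choose_spec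
  rw [tAdd, pair_unique h2 (w := F.map δ x) (hz₁.trans (by rw [← map_comp_app, e₁]))
    (hz₂.trans (by rw [← map_comp_app, e₂])), ← map_comp_app, e]

/-- The vector space structure on `F(k[ε])`. -/
theorem nonempty_tangentStr (h0 : H0 F) (h2 : Heps F) : Nonempty (TangentStr F) := by
  let t := F.obj (Art.dual Λ k)
  let zero : t := F.map Art.baseToDual h0.1.some
  have hzero : ∀ a : t, F.map (Art.toBase _ ≫ Art.baseToDual) a = zero := fun a => by
    rw [map_comp_app]; exact congrArg _ (h0.2.elim _ _)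
  have hid : ∀ a : t, F.map (Art.scale (1 : k)) a = a := fun a => by
    rw [show Art.scale (1 : k) = 𝟙 (Art.dual Λ k) from dual_hom_ext fun x => (one_smul k _), map_id_app]
  have hadd : ∀ (c d : k) (a : t),
      tAdd h0 h2 (F.map (Art.scale c) a) (F.map (Art.scale d) a) = F.map (Art.scale (c + d)) a := fun c d a =>
    tAdd_eq h0 h2 (f₁ := Art.scale c) (f₂ := Art.scale d) (f := Art.scale (c + d))
      ⟨Art.tszeMap ((c • LinearMap.id).prod (d • LinearMap.id)), AlgHom.ext fun _ => rfl⟩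
      (dual_hom_ext fun _ => rfl) (dual_hom_ext fun _ => rfl) (dual_hom_ext fun x => (add_smul c d _).symm) a
  have hz : ∀ a : t, F.map (Art.scale (0 : k)) a = zero := fun a => by
    rw [← hzero a, show Art.scale (0 : k) = Art.toBase (Art.dual Λ k) ≫ Art.baseToDual from
      dual_hom_ext fun x => zero_smul k _]
  have hz0 : ∀ c : k, F.map (Art.scale c) zero = zero := fun c => by
    rw [← map_comp_app]
    exact congrArg (fun g => F.map g h0.1.some) (dual_hom_ext fun x => smul_zero c)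
  have hcomm : ∀ a b : t, tAdd h0 h2 a b = tAdd h0 h2 b a := fun a b => by
    obtain ⟨z, rfl, rfl⟩ := exists_pair h0 h2 a b
    rw [tAdd_eq h0 h2 (f₁ := Art.pr₂) (f₂ := Art.pr₁) (f := Art.plus)
      ⟨Art.tszeMap ((LinearMap.snd k k k).prod (LinearMap.fst k k k)), AlgHom.ext fun _ => rfl⟩
      (dual_hom_ext fun _ => rfl) (dual_hom_ext fun _ => rfl) (dual_hom_ext fun x => add_comm _ _) z]
    exact tAdd_eq h0 h2 (f := Art.plus) (𝟙 _) (Category.id_comp _) (Category.id_comp _) (Category.id_comp _) z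
  have hplus : ∀ z, tAdd h0 h2 (F.map Art.pr₁ z) (F.map Art.pr₂ z) = F.map Art.plus z := fun z =>
    tAdd_eq h0 h2 (𝟙 _) (Category.id_comp _) (Category.id_comp _) (Category.id_comp _) z
  have hassoc : ∀ a b c : t, tAdd h0 h2 (tAdd h0 h2 a b) c = tAdd h0 h2 a (tAdd h0 h2 b c) := fun a b c => by
    obtain ⟨z, rfl, rfl⟩ := exists_pair h0 h2 a b
    obtain ⟨w, rfl, rfl⟩ := (surjective_cmp_iff _).1 (h2 _ _ (isFibreProd_dual3 (Λ := Λ) (k := k))).2 z c
      (h0.2.elim _ _)
    rw [hplus]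
    simp only [← map_comp_app]
    let p2 : ((k × k) × k) →ₗ[k] k := (LinearMap.snd k k k).comp (LinearMap.fst k (k × k) k)
    let p1 : ((k × k) × k) →ₗ[k] k := (LinearMap.fst k k k).comp (LinearMap.fst k (k × k) k)
    let p3 : ((k × k) × k) →ₗ[k] k := LinearMap.snd k (k × k) k
    let f23 : dual3 Λ k ⟶ Art.dual Λ k := ⟨Art.tszeMap (p2 + p3), AlgHom.ext fun _ => rfl⟩
    let f123 : dual3 Λ k ⟶ Art.dual Λ k := ⟨Art.tszeMap (p1 + p2 + p3), AlgHom.ext fun _ => rfl⟩
    rw [tAdd_eq h0 h2 (f₁ := pr12 ≫ Art.plus) (f₂ := pr3) (f := f123) ⟨Art.tszeMap ((p1 + p2).prod p3), AlgHom.ext fun _ => rfl⟩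
        (dual_hom_ext fun _ => rfl) (dual_hom_ext fun _ => rfl) (dual_hom_ext fun _ => rfl) w,
      tAdd_eq h0 h2 (f₁ := pr12 ≫ Art.pr₂) (f₂ := pr3) (f := f23) ⟨Art.tszeMap (p2.prod p3), AlgHom.ext fun _ => rfl⟩
        (dual_hom_ext fun _ => rfl) (dual_hom_ext fun _ => rfl) (dual_hom_ext fun _ => rfl) w,
      tAdd_eq h0 h2 (f₁ := pr12 ≫ Art.pr₁) (f₂ := f23) (f := f123) ⟨Art.tszeMap (p1.prod (p2 + p3)), AlgHom.ext fun _ => rfl⟩
        (dual_hom_ext fun _ => rfl) (dual_hom_ext fun _ => rfl) (dual_hom_ext fun _ => (add_assoc _ _ _).symm) w]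
  have hzadd : ∀ a : t, tAdd h0 h2 zero a = a := fun a => by
    have := hadd 0 1 a
    rwa [hz, hid, zero_add, hid] at this
  have hneg : ∀ a : t, tAdd h0 h2 (F.map (Art.scale (-1 : k)) a) a = zero := fun a => by
    have := hadd (-1) 1 a
    rwa [hid, neg_add_cancel, hz] at this
  let : Zero t := ⟨zero⟩
  let : Add t := ⟨tAdd h0 h2⟩
  let : Neg t := ⟨fun a => F.map (Art.scale (-1 : k)) a⟩
  let grp : AddCommGroup t :=
    { AddGroup.ofLeftAxioms (G := t) hassoc hzadd hneg with add_comm := hcomm }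
  refine ⟨@TangentStr.mk Λ k _ _ _ F grp
    { smul := fun c a => F.map (Art.scale c) a
      one_smul := hid
      mul_smul := fun c d a => (by
        show F.map _ a = F.map _ (F.map _ a)
        rw [← map_comp_app]
        exact congrArg (fun g => F.map g a) (dual_hom_ext fun x => (mul_smul c d _)))
      smul_zero := hz0
      smul_add := fun c a b => (by
        show F.map _ (tAdd h0 h2 a b) = tAdd h0 h2 (F.map _ a) (F.map _ b)
        obtain ⟨z, rfl, rfl⟩ := exists_pair h0 h2 a b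
        rw [hplus]
        simp only [← map_comp_app]
        exact (tAdd_eq h0 h2 (f₁ := Art.pr₁ ≫ Art.scale c) (f₂ := Art.pr₂ ≫ Art.scale c) (f := Art.plus ≫ Art.scale c)
          ⟨Art.tszeMap ((c • LinearMap.fst k k k).prod (c • LinearMap.snd k k k)), AlgHom.ext fun _ => rfl⟩
          (dual_hom_ext fun _ => rfl) (dual_hom_ext fun _ => rfl)
          (dual_hom_ext fun x => (smul_add c _ _).symm) z).symm)
      add_smul := fun c d a => (hadd c d a).symm
      zero_smul := hz } (fun _ _ => rfl) hplus⟩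

/-- The differential is linear. -/
theorem exists_linear_tangentMap {G : Art Λ k ⥤ Type v} [TangentStr F] [TangentStr G] (h0 : H0 F) (h2 : Heps F)
    (φ : F ⟶ G) : ∃ f : TangentSpace F →ₗ[k] TangentSpace G, ⇑f = TangentSpace.map φ := by
  refine ⟨{ toFun := TangentSpace.map φ, map_add' := fun a b => ?_, map_smul' := fun c a => ?_ }, rfl⟩
  · obtain ⟨z, rfl, rfl⟩ := exists_pair h0 h2 a b
    refine ((congrArg (φ.app _) (TangentStr.add_eq z)).trans (NatTrans.naturality_apply φ _ z)).trans ?_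
    refine (TangentStr.add_eq (F := G) (φ.app _ z)).symm.trans ?_
    rw [← NatTrans.naturality_apply, ← NatTrans.naturality_apply]
    rfl
  · refine ((congrArg (φ.app _) (TangentStr.smul_eq c a)).trans (NatTrans.naturality_apply φ _ a)).trans ?_
    exact (TangentStr.smul_eq (F := G) c _).symm

end Groth.Agent.ArtKit
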