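import Groth.Agent.ArtKit.Versal
import Groth.Agent.ArtKit.Cotangent
import Groth.Agent.ArtKit.Tangent
import Groth.Prelude.Def_ArtFun5

/-!
# Points of `h_R` in the dual numbers and derivations; endomorphisms of coefficient rings
-/

set_option autoImplicit false
universe u v

open CategoryTheory ArtFun

namespace Groth.Agent.ArtKit

variable {Λ : Type u} {k : Type u} [CommRing Λ] [Field k] [Algebra Λ k]
  {R : Type u} [CommRing R] [Algebra Λ R] [Algebra R k] [IsScalarTower Λ R k]

/-- The point of `h_R(k[ε])` of a derivation. -/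
noncomputable def homOfDer (D : Derivation Λ R k) :
    HomSet R (IsScalarTower.toAlgHom Λ R k) (Art.dual Λ k) :=
  ⟨({ toFun := fun r => (algebraMap R k r, D r)
      map_one' := TrivSqZeroExt.ext (map_one (algebraMap R k)) D.map_one_eq_zero
      map_zero' := TrivSqZeroExt.ext (map_zero (algebraMap R k)) D.map_zero
      map_add' := fun x y => TrivSqZeroExt.ext (map_add (algebraMap R k) x y) (D.map_add x y)
      map_mul' := fun x y => TrivSqZeroExt.ext (map_mul (algebraMap R k) x y) (by
        show D (x * y) = algebraMap R k x • D y + MulOpposite.op (algebraMap R k y) • D x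
        rw [D.leibniz, op_smul_eq_smul, algebraMap_smul, algebraMap_smul])
      commutes' := fun l => TrivSqZeroExt.ext (IsScalarTower.algebraMap_apply Λ R k l).symm (by
        show D (algebraMap Λ R l) = _
        rw [D.map_algebraMap, TrivSqZeroExt.algebraMap_eq_inl', TrivSqZeroExt.snd_inl]) } :
      R →ₐ[Λ] DualNumber k), AlgHom.ext fun _ => rfl⟩

/-- The point of `h_R(k[ε₁, ε₂])` of two derivations. -/
noncomputable def homOfDer2 (D₁ D₂ : Derivation Λ R k) :
    HomSet R (IsScalarTower.toAlgHom Λ R k) (Art.dual2 Λ k) :=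
  ⟨({ toFun := fun r => (algebraMap R k r, (D₁ r, D₂ r))
      map_one' := TrivSqZeroExt.ext (map_one (algebraMap R k)) (Prod.ext D₁.map_one_eq_zero D₂.map_one_eq_zero)
      map_zero' := TrivSqZeroExt.ext (map_zero (algebraMap R k)) (Prod.ext D₁.map_zero D₂.map_zero)
      map_add' := fun x y => TrivSqZeroExt.ext (map_add (algebraMap R k) x y)
        (Prod.ext (D₁.map_add x y) (D₂.map_add x y))
      map_mul' := fun x y => TrivSqZeroExt.ext (map_mul (algebraMap R k) x y) (by
        show (D₁ (x * y), D₂ (x * y)) =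
          algebraMap R k x • (D₁ y, D₂ y) + MulOpposite.op (algebraMap R k y) • (D₁ x, D₂ x)
        rw [D₁.leibniz, D₂.leibniz, op_smul_eq_smul, algebraMap_smul, algebraMap_smul]
        rfl)
      commutes' := fun l => TrivSqZeroExt.ext (IsScalarTower.algebraMap_apply Λ R k l).symm (by
        show (D₁ (algebraMap Λ R l), D₂ (algebraMap Λ R l)) = _
        rw [D₁.map_algebraMap, D₂.map_algebraMap, TrivSqZeroExt.algebraMap_eq_inl', TrivSqZeroExt.snd_inl]
        rfl) } :
      R →ₐ[Λ] TrivSqZeroExt k (k × k)), AlgHom.ext fun _ => rfl⟩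

lemma map_pr₁_homOfDer2 (D₁ D₂ : Derivation Λ R k) : HomSet.map Art.pr₁ (homOfDer2 D₁ D₂) = homOfDer D₁ :=
  Subtype.ext (AlgHom.ext fun _ => rfl)

lemma map_pr₂_homOfDer2 (D₁ D₂ : Derivation Λ R k) : HomSet.map Art.pr₂ (homOfDer2 D₁ D₂) = homOfDer D₂ :=
  Subtype.ext (AlgHom.ext fun _ => rfl)

lemma map_plus_homOfDer2 (D₁ D₂ : Derivation Λ R k) : HomSet.map Art.plus (homOfDer2 D₁ D₂) = homOfDer (D₁ + D₂) :=
  Subtype.ext (AlgHom.ext fun _ => rfl)

lemma map_scale_homOfDer (c : k) (D : Derivation Λ R k) : HomSet.map (Art.scale c) (homOfDer D) = homOfDer (c • D) :=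
  Subtype.ext (AlgHom.ext fun _ => rfl)

lemma snd_homOfDer (D : Derivation Λ R k) (r : R) : TrivSqZeroExt.snd ((homOfDer D).1 r) = D r := rfl

lemma exists_der (φ : HomSet R (IsScalarTower.toAlgHom Λ R k) (Art.dual Λ k)) : ∃ D, homOfDer D = φ := by
  have hfst : ∀ r, TrivSqZeroExt.fst (φ.1 r) = algebraMap R k r := fun r => homSet_res_app φ r
  let L : R →ₗ[Λ] k :=
    { toFun := fun r => TrivSqZeroExt.snd (φ.1 r)
      map_add' := fun x y => by rw [map_add]; rfl
      map_smul' := fun l x => by
        rw [Algebra.smul_def, map_mul, AlgHom.commutes, Algebra.smul_def]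
        show (algebraMap Λ (DualNumber k) l).fst • (φ.1 x : DualNumber k).snd +
          MulOpposite.op (φ.1 x : DualNumber k).fst • (algebraMap Λ (DualNumber k) l).snd = _
        rw [TrivSqZeroExt.algebraMap_eq_inl', TrivSqZeroExt.fst_inl, TrivSqZeroExt.snd_inl,
          smul_zero, add_zero, smul_eq_mul]
        rfl }
  let D : Derivation Λ R k := Derivation.mk' L fun x y => by
    show TrivSqZeroExt.snd (φ.1 (x * y)) = x • TrivSqZeroExt.snd (φ.1 y) + y • TrivSqZeroExt.snd (φ.1 x)
    rw [map_mul]
    show (φ.1 x : DualNumber k).fst • (φ.1 y : DualNumber k).snd +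
      MulOpposite.op (φ.1 y : DualNumber k).fst • (φ.1 x : DualNumber k).snd = _
    rw [op_smul_eq_smul, hfst, hfst, algebraMap_smul, algebraMap_smul]
  exact ⟨D, Subtype.ext (AlgHom.ext fun r => TrivSqZeroExt.ext (hfst r).symm rfl)⟩

variable [IsLocalRing R] [IsNoetherianRing R] {F : Art Λ k ⥤ Type v}

/-- A family surjective on `k[ε]` has finite-dimensional tangent space. -/
theorem hfin_of_family [Module.Finite Λ k] [TangentStr F] (hres : Function.Surjective (algebraMap R k))
    (ξ : Family R (IsScalarTower.toAlgHom Λ R k) F) (hs : Function.Surjective (ξ.app (Art.dual Λ k))) : Hfin F := by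
  have := finite_derivation (Λ := Λ) hres
  let f : Derivation Λ R k →ₗ[k] TangentSpace F :=
    { toFun := fun D => ξ.app _ (homOfDer D)
      map_add' := fun D₁ D₂ => by
        rw [← map_plus_homOfDer2, ← map_pr₁_homOfDer2 D₁ D₂]
        refine ((ξ.natural _ _).trans (TangentStr.add_eq _).symm).trans ?_
        rw [← ξ.natural, ← ξ.natural, map_pr₁_homOfDer2, map_pr₂_homOfDer2]
        rfl
      map_smul' := fun c D => by
        rw [← map_scale_homOfDer]
        exact (ξ.natural _ _).trans (TangentStr.smul_eq c _).symm }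
  refine Module.Finite.of_surjective f fun y => ?_
  obtain ⟨φ, hφ⟩ := hs y
  obtain ⟨D, rfl⟩ := exists_der φ
  exact ⟨D, hφ⟩

end Groth.Agent.ArtKit

namespace Groth.Agent.ArtKit

variable {Λ : Type u} {k : Type u} [CommRing Λ] [Field k] [Algebra Λ k]

/-- A map of coefficient rings injective on `k[ε]`-points is surjective. -/
theorem surjective_of_dual_injective (R S : CRing Λ k) (g : R.carrier →ₐ[Λ] S.carrier) (hg : S.res.comp g = R.res)
    (h : ∀ u₁ u₂ : HomSet S.carrier S.res (Art.dual Λ k), u₁.1.comp g = u₂.1.comp g → u₁ = u₂) :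
    Function.Surjective g := by
  have := R.isAdicComplete
  let : Algebra S.carrier k := S.res.toRingHom.toAlgebra
  have : IsScalarTower Λ S.carrier k := IsScalarTower.of_algebraMap_eq fun l => (S.res.commutes l).symm
  refine surjective_of_derivation_comp_injective R.res_surjective S.res_surjective g hg fun D₁ D₂ e => ?_
  have hu := h (homOfDer D₁) (homOfDer D₂) (AlgHom.ext fun r => TrivSqZeroExt.ext rfl (e r))
  exact Derivation.ext fun s => congrArg TrivSqZeroExt.snd (DFunLike.congr_fun (congrArg Subtype.val hu) s)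

/-- A surjective endomorphism of a Noetherian ring is bijective. -/
theorem bijective_of_surjective_endo {A : Type u} [CommRing A] [IsNoetherianRing A] (f : A →+* A)
    (hf : Function.Surjective f) : Function.Bijective f := by
  refine ⟨(injective_iff_map_eq_zero f).2 fun a ha => ?_, hf⟩
  let f' : ℕ → (A →+* A) := fun n => Nat.rec (RingHom.id A) (fun _ g => f.comp g) n
  have hmono : Monotone fun n => RingHom.ker (f' n) := monotone_nat_of_le_succ fun n x hx => by
    rw [RingHom.mem_ker] at hx ⊢
    show f (f' n x) = 0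
    rw [hx, map_zero]
  obtain ⟨n, hn⟩ := monotone_stabilizes_iff_noetherian.2 inferInstance ⟨_, hmono⟩
  have hsurj : ∀ m, Function.Surjective (f' m) := fun m => by
    induction m with
    | zero => exact fun x => ⟨x, rfl⟩
    | succ m ih => exact hf.comp ih
  obtain ⟨b, rfl⟩ := hsurj n a
  have hb : b ∈ RingHom.ker (f' (n + 1)) := ha
  have he : RingHom.ker (f' n) = RingHom.ker (f' (n + 1)) := hn (n + 1) (Nat.le_succ n)
  exact RingHom.mem_ker.1 (he ▸ hb : b ∈ RingHom.ker (f' n))

/-- An endomorphism preserving a family that is injective on `k[ε]` is bijective. -/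
theorem bijective_endo_of_tangent_injective {F : Art Λ k ⥤ Type v} {R : CRing Λ k}
    (ξ : Family R.carrier R.res F) (hinj : Function.Injective (ξ.app (Art.dual Λ k)))
    (g : R.carrier →ₐ[Λ] R.carrier) (hg : R.res.comp g = R.res)
    (h : ∀ u, (ξ.along g hg).app (Art.dual Λ k) u = ξ.app _ u) : Function.Bijective g := by
  refine bijective_of_surjective_endo g.toRingHom (surjective_of_dual_injective R R g hg fun u₁ u₂ e => hinj ?_)
  rw [← h u₁, ← h u₂]
  exact congrArg (ξ.app _) (Subtype.ext e)

end Groth.Agent.ArtKit
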