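import Groth.Agent.ArtKit.SmoothRing
import Groth.Agent.ArtKit.HomDer
import Mathlib.LinearAlgebra.FreeModule.Finite.Basic

/-!
# Existence of versal families and hulls
-/

set_option autoImplicit false
universe u v

open CategoryTheory ArtFun

namespace Groth.Agent.ArtKit

variable {Λ : Type u} {k : Type u} [CommRing Λ] [Field k] [Algebra Λ k]

variable (Λ k) in
/-- `k[ε_1, …, ε_d]`. -/
noncomputable def dualN (d : ℕ) : Art Λ k :=
  { carrier := TrivSqZeroExt k (Fin d → k)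
    isLocalRing := Art.isLocalRing_tsze k (Fin d → k)
    isArtinianRing := Art.isArtinianRing_tsze k (Fin d → k)
    res := TrivSqZeroExt.fstHom Λ k (Fin d → k)
    res_surjective := fun a => ⟨TrivSqZeroExt.inl a, rfl⟩ }

/-- The map to `k[ε]` of a linear form. -/
noncomputable def dualNHom {d : ℕ} (L : (Fin d → k) →ₗ[k] k) : dualN Λ k d ⟶ Art.dual Λ k :=
  ⟨Art.tszeMap L, AlgHom.ext fun _ => rfl⟩

/-- The scalars in `k[ε_1, …, ε_d]`. -/
noncomputable def baseToDualN (d : ℕ) : Art.base Λ k ⟶ dualN Λ k d :=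
  ⟨(Algebra.ofId k (TrivSqZeroExt k (Fin d → k))).restrictScalars Λ, AlgHom.ext fun _ => rfl⟩

lemma dualNHom_apply {d : ℕ} (L : (Fin d → k) →ₗ[k] k) (x : dualN Λ k d) :
    TrivSqZeroExt.snd (dualNHom L x) = L (TrivSqZeroExt.snd x) := rfl

/-- The linear form `v ↦ ∑ a_j v_j`. -/
noncomputable def formOf {d : ℕ} (a : Fin d → k) : (Fin d → k) →ₗ[k] k := ∑ j, a j • LinearMap.proj j

lemma formOf_apply {d : ℕ} (a v : Fin d → k) : formOf a v = ∑ j, a j * v j := by simp [formOf]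

variable {F : Art Λ k ⥤ Type v}

theorem exists_dualN_elt (h0 : H0 F) (h2 : Heps F) : ∀ (d : ℕ) (θ : Fin d → F.obj (Art.dual Λ k)),
    ∃ ξ : F.obj (dualN Λ k d), ∀ j, F.map (dualNHom (LinearMap.proj j)) ξ = θ j := by
  intro d
  induction d with
  | zero => exact fun _ => ⟨F.map (baseToDualN 0) h0.1.some, fun j => j.elim0⟩
  | succ d ih =>
    intro θ
    obtain ⟨ξ, hξ⟩ := ih fun j => θ j.castSucc
    let p' : dualN Λ k (d + 1) ⟶ dualN Λ k d :=
      ⟨Art.tszeMap (LinearMap.funLeft k k Fin.castSucc), AlgHom.ext fun _ => rfl⟩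
    have hfp : Art.IsFibreProd p' (dualNHom (LinearMap.proj (Fin.last d))) (Art.toBase _) (Art.toBase _) := by
      refine ⟨by rw [Art.eq_toBase (p' ≫ Art.toBase _), Art.eq_toBase (dualNHom _ ≫ Art.toBase _)],
        fun b₁ b₂ h₁ h₂ => ?_, fun a' a'' h => ?_⟩
      · refine TrivSqZeroExt.ext (by have e := congrArg TrivSqZeroExt.fst h₁; exact e) (funext fun i => ?_)
        have e := congrArg TrivSqZeroExt.snd h₁
        refine Fin.lastCases ?_ (fun j => ?_) i
        · have e' := congrArg TrivSqZeroExt.snd h₂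
          exact e'
        · exact congrFun e j
      · have h' : a'.fst = a''.fst := h
        exact ⟨(a'.fst, Fin.snoc a'.snd a''.snd),
          TrivSqZeroExt.ext rfl (funext fun j => Fin.snoc_castSucc (α := fun _ => k) _ _ _),
          TrivSqZeroExt.ext h' (Fin.snoc_last (α := fun _ => k) _ _)⟩
    obtain ⟨z, hz₁, hz₂⟩ := (surjective_cmp_iff hfp).1 (h2 _ _ hfp).2 ξ (θ (Fin.last d)) (h0.2.elim _ _)
    refine ⟨z, fun j => Fin.lastCases hz₂ (fun i => ?_) j⟩
    rw [← hξ i, ← hz₁, ← map_comp_app]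
    exact congrArg (fun f : dualN Λ k (d + 1) ⟶ Art.dual Λ k => F.map f z) (dual_hom_ext fun x => rfl)

variable [TangentStr F]

lemma tangent_add (z : F.obj (Art.dual2 Λ k)) :
    (TangentSpace.mk (F.map Art.pr₁ z) + TangentSpace.mk (F.map Art.pr₂ z) : TangentSpace F) =
      TangentSpace.mk (F.map Art.plus z) :=
  TangentStr.add_eq z

lemma tangent_smul (c : k) (x : TangentSpace F) : c • x = TangentSpace.mk (F.map (Art.scale c) x) :=
  TangentStr.smul_eq c x

lemma tangent_zero (h0 : H0 F) (x₀ : F.obj (Art.base Λ k)) :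
    TangentSpace.mk (F.map (Art.baseToDual : Art.base Λ k ⟶ _) x₀) = (0 : TangentSpace F) := by
  rw [← zero_smul k (TangentSpace.mk (F.map (Art.baseToDual : Art.base Λ k ⟶ _) x₀)), tangent_smul]
  refine congrArg TangentSpace.mk ?_
  show _ = F.map _ (F.map _ x₀)
  rw [← map_comp_app]
  exact congrArg (fun g => F.map g x₀) (dual_hom_ext fun x => (zero_smul k _).symm)

lemma map_scale_hom {X : Art Λ k} (f : X ⟶ Art.dual Λ k) (c : k) (x : F.obj X) :
    TangentSpace.mk (F.map (f ≫ Art.scale c) x) = c • (TangentSpace.mk (F.map f x) : TangentSpace F) := by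
  rw [tangent_smul, map_comp_app]
  rfl

lemma map_add_hom {X : Art Λ k} {f₁ f₂ f : X ⟶ Art.dual Λ k} (δ : X ⟶ Art.dual2 Λ k) (e₁ : δ ≫ Art.pr₁ = f₁)
    (e₂ : δ ≫ Art.pr₂ = f₂) (e : δ ≫ Art.plus = f) (x : F.obj X) :
    TangentSpace.mk (F.map f x) = (TangentSpace.mk (F.map f₁ x) + TangentSpace.mk (F.map f₂ x) : TangentSpace F) := by
  rw [← e, ← e₁, ← e₂, map_comp_app, map_comp_app, map_comp_app]
  exact (tangent_add _).symm

/-- The linear map `L ↦ F(L)(ξ)`. -/
noncomputable def evalForms {d : ℕ} (ξ : F.obj (dualN Λ k d)) : ((Fin d → k) →ₗ[k] k) →ₗ[k] TangentSpace F where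
  toFun L := TangentSpace.mk (F.map (dualNHom L) ξ)
  map_add' L L' := map_add_hom (f₁ := dualNHom L) (f₂ := dualNHom L') (f := dualNHom (L + L')) ⟨Art.tszeMap (L.prod L'), AlgHom.ext fun _ => rfl⟩
    (dual_hom_ext fun _ => rfl) (dual_hom_ext fun _ => rfl) (dual_hom_ext fun _ => rfl) ξ
  map_smul' c L := by
    rw [RingHom.id_apply, ← map_scale_hom]
    exact congrArg (fun g => TangentSpace.mk (F.map g ξ)) (dual_hom_ext fun _ => rfl)

/-- A map `k[ε_1, …] → k[ε]` is a twist by a derivation plus a linear form. -/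
theorem map_dualN_eq {d : ℕ} (m : dualN Λ k d ⟶ Art.dual Λ k) (σ : Art.base Λ k ⟶ Art.dual Λ k)
    (L : (Fin d → k) →ₗ[k] k) (hσ : ∀ a : k, m (baseToDualN d a) = σ a)
    (hL : ∀ v : Fin d → k, TrivSqZeroExt.snd (m ((TrivSqZeroExt.inr v : TrivSqZeroExt k (Fin d → k)) : dualN Λ k d)) = L v)
    (x₀ : F.obj (Art.base Λ k)) (h0 : H0 F) (ξ : F.obj (dualN Λ k d)) :
    TangentSpace.mk (F.map m ξ) = TangentSpace.mk (F.map σ x₀) + evalForms ξ L := by
  obtain ⟨δ, hδ₁, hδ₂⟩ := exists_lift (Art.isFibreProd_dual2 (Λ := Λ) (k := k))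
    (Art.toBase (dualN Λ k d) ≫ σ) (dualNHom L) ((Art.eq_toBase _).trans (Art.eq_toBase _).symm)
  have hm : δ ≫ Art.plus = m := dual_hom_ext fun x => by
    have e1 : (TrivSqZeroExt.snd (δ x)).1 = TrivSqZeroExt.snd (σ (TrivSqZeroExt.fst x)) :=
      congrArg TrivSqZeroExt.snd (congrArg (fun f : dualN Λ k d ⟶ Art.dual Λ k => f x) hδ₁)
    have e2 : (TrivSqZeroExt.snd (δ x)).2 = L (TrivSqZeroExt.snd x) :=
      congrArg TrivSqZeroExt.snd (congrArg (fun f : dualN Λ k d ⟶ Art.dual Λ k => f x) hδ₂)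
    show (TrivSqZeroExt.snd (δ x)).1 + (TrivSqZeroExt.snd (δ x)).2 = _
    have h3 : TrivSqZeroExt.snd (σ (TrivSqZeroExt.fst x)) = TrivSqZeroExt.snd (m (baseToDualN d (TrivSqZeroExt.fst x))) :=
      congrArg TrivSqZeroExt.snd (hσ _).symm
    rw [e1, e2, h3, ← hL]
    show (m _).snd + (m _).snd = (m x).snd
    refine (congrArg TrivSqZeroExt.snd (map_add m.toAlgHom _ _)).symm.trans ?_
    exact congrArg (fun y : dualN Λ k d => TrivSqZeroExt.snd (m y)) (TrivSqZeroExt.inl_fst_add_inr_snd_eq x)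
  rw [map_add_hom δ hδ₁ hδ₂ hm, map_comp_app F (Art.toBase (dualN Λ k d)) σ ξ, h0.2.elim (F.map (Art.toBase _) ξ) x₀]
  rfl

omit [TangentStr F] in
lemma inl_mul_inr_single {d : ℕ} (a : k) (j : Fin d) :
    (TrivSqZeroExt.inl a : TrivSqZeroExt k (Fin d → k)) * TrivSqZeroExt.inr (Pi.single j 1) =
      TrivSqZeroExt.inr (Pi.single j a) := by
  rw [TrivSqZeroExt.inl_mul_inr, ← Pi.single_smul', smul_eq_mul, mul_one]

omit [TangentStr F] in
lemma inl_add_sum_inr_single {d : ℕ} (w : TrivSqZeroExt k (Fin d → k)) :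
    TrivSqZeroExt.inl w.fst + ∑ j, TrivSqZeroExt.inr (Pi.single j (w.snd j)) = w := by
  rw [← TrivSqZeroExt.inr_sum, Finset.univ_sum_single]
  exact TrivSqZeroExt.inl_fst_add_inr_snd_eq w

variable [IsNoetherianRing Λ] [Module.Finite Λ k]

/-- Schlessinger: a versal family with prescribed tangent generators. -/
theorem exists_versal_data (h0 : H0 F) (h1 : S1 F) (h2 : Heps F) {d : ℕ} (θ : Fin d → TangentSpace F)
    (hθ : ∀ x : TangentSpace F, ∃ (σ : Art.base Λ k ⟶ Art.dual Λ k) (a : Fin d → k),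
      x = TangentSpace.mk (F.map σ h0.1.some) + ∑ j, a j • θ j) :
    ∃ (R : CRing Λ k) (ξ : Family R.carrier R.res F), IsVersal ξ ∧
      ((∀ (σ σ' : Art.base Λ k ⟶ Art.dual Λ k) (a a' : Fin d → k),
          TangentSpace.mk (F.map σ h0.1.some) + ∑ j, a j • θ j =
            TangentSpace.mk (F.map σ' h0.1.some) + ∑ j, a' j • θ j → σ = σ' ∧ a = a') →
        Function.Injective (ξ.app (Art.dual Λ k))) := by
  classical
  obtain ⟨gs, hgs⟩ := (‹Module.Finite Λ k›).fg_top
  let c : Fin gs.card → k := fun i => (gs.equivFin.symm i : k)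
  have hc : Function.Surjective (MvPolynomial.aeval (R := Λ) c) := fun a => by
    have hle : Submodule.span Λ (gs : Set k) ≤ LinearMap.range (MvPolynomial.aeval (R := Λ) c).toLinearMap :=
      Submodule.span_le.2 fun g hg => ⟨MvPolynomial.X (gs.equivFin ⟨g, hg⟩), by simp [c]⟩
    exact hle (hgs ▸ Submodule.mem_top)
  obtain ⟨S, x, y, hx, hy, hsm, hext, hex, hder⟩ := exists_smoothRing c hc d
  let b : Fin d → dualN Λ k d := fun j => (TrivSqZeroExt.inr (Pi.single j 1) : TrivSqZeroExt k (Fin d → k))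
  obtain ⟨τ, hτx, hτy⟩ := hex (dualN Λ k d) (baseToDualN d) b fun j => rfl
  have hι : ∀ a : k, ∃ s, τ.1 s = baseToDualN d a := fun a => by
    obtain ⟨g, rfl⟩ := hc a
    refine ⟨MvPolynomial.aeval x g, ?_⟩
    rw [← AlgHom.comp_apply, MvPolynomial.comp_aeval, show (fun i => τ.1 (x i)) = fun i => baseToDualN d (c i) from
      funext hτx]
    exact (DFunLike.congr_fun (MvPolynomial.comp_aeval c (baseToDualN (Λ := Λ) d).toAlgHom) g).symm
  have hτ : Function.Surjective τ.1 := fun w => by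
    choose s hs using hι
    refine ⟨s (TrivSqZeroExt.fst w) + ∑ j, s (TrivSqZeroExt.snd w j) * y j, ?_⟩
    rw [map_add, map_sum, hs]
    have hterm : ∀ j, τ.1 (s (TrivSqZeroExt.snd w j) * y j) =
        ((TrivSqZeroExt.inr (Pi.single j (TrivSqZeroExt.snd w j)) : TrivSqZeroExt k (Fin d → k)) : dualN Λ k d) :=
      fun j => by
        rw [map_mul, hs, hτy]
        exact inl_mul_inr_single _ j
    refine Eq.trans ?_ (inl_add_sum_inr_single w)
    exact congrArg (baseToDualN d (TrivSqZeroExt.fst w) + ·) (Finset.sum_congr rfl fun j _ => hterm j)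
  obtain ⟨ξ₁, hξ₁⟩ := exists_dualN_elt h0 h2 d θ
  have hlin : ∀ a : Fin d → k, evalForms ξ₁ (formOf a) = ∑ j, a j • θ j := fun a => by
    rw [formOf, map_sum]
    refine Finset.sum_congr rfl fun j _ => ?_
    rw [map_smul]
    exact congrArg (a j • ·) (hξ₁ j)
  have hmk : ∀ (σ : Art.base Λ k ⟶ Art.dual Λ k) (a : Fin d → k), ∃ m : dualN Λ k d ⟶ Art.dual Λ k,
      (∀ i, m (τ.1 (x i)) = σ (c i)) ∧
      (∀ j, m (τ.1 (y j)) = ((TrivSqZeroExt.inr (a j) : DualNumber k) : Art.dual Λ k)) ∧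
      TangentSpace.mk (F.map m ξ₁) = TangentSpace.mk (F.map σ h0.1.some) + ∑ j, a j • θ j := fun σ a => by
    obtain ⟨δ, hδ₁, hδ₂⟩ := exists_lift (Art.isFibreProd_dual2 (Λ := Λ) (k := k))
      (Art.toBase (dualN Λ k d) ≫ σ) (dualNHom (formOf a)) ((Art.eq_toBase _).trans (Art.eq_toBase _).symm)
    have hval : ∀ w, δ ≫ Art.plus = δ ≫ Art.plus ∧ TrivSqZeroExt.snd ((δ ≫ Art.plus) w) =
        TrivSqZeroExt.snd (σ (TrivSqZeroExt.fst w)) + formOf a (TrivSqZeroExt.snd w) := fun w => ⟨rfl, by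
      have e1 := congrArg TrivSqZeroExt.snd (congrArg (fun f : dualN Λ k d ⟶ Art.dual Λ k => f w) hδ₁)
      have e2 := congrArg TrivSqZeroExt.snd (congrArg (fun f : dualN Λ k d ⟶ Art.dual Λ k => f w) hδ₂)
      show (TrivSqZeroExt.snd (δ w)).1 + (TrivSqZeroExt.snd (δ w)).2 = _
      exact congrArg₂ (· + ·) e1 e2⟩
    have hσι : ∀ t : k, (δ ≫ Art.plus) (baseToDualN d t) = σ t := fun t =>
      TrivSqZeroExt.ext ((Art.res_app (δ ≫ Art.plus) _).trans (Art.res_app σ t).symm) (by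
        rw [(hval _).2, show TrivSqZeroExt.snd (baseToDualN (Λ := Λ) d t) = 0 from rfl, map_zero, add_zero]
        rfl)
    have hinr : ∀ v : Fin d → k, TrivSqZeroExt.snd ((δ ≫ Art.plus)
        ((TrivSqZeroExt.inr v : TrivSqZeroExt k (Fin d → k)) : dualN Λ k d)) = formOf a v := fun v => by
      refine ((hval _).2).trans ?_
      show TrivSqZeroExt.snd (σ.toAlgHom 0) + formOf a v = _
      rw [map_zero]
      exact zero_add _
    refine ⟨δ ≫ Art.plus, fun i => by rw [hτx, hσι], fun j => ?_, ?_⟩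
    · refine TrivSqZeroExt.ext ((Art.res_app (δ ≫ Art.plus) _).trans (by rw [hτy]; rfl)) ?_
      rw [hτy]
      refine (hinr _).trans ?_
      rw [formOf_apply, Finset.sum_eq_single j (fun i _ hij => by rw [Pi.single_eq_of_ne hij, mul_zero]) (by simp),
        Pi.single_eq_same, mul_one]
      rfl
    · rw [map_dualN_eq _ σ (formOf a) hσι hinr _ h0, hlin]
  obtain ⟨R, ξ, π, η, hπ, hv, hπs, hη, hητ⟩ := exists_versal_of_smooth h1 h2 S hsm τ hτ ξ₁ fun t => by
    obtain ⟨σ, a, e⟩ := hθ (TangentSpace.mk t)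
    obtain ⟨m, -, -, hm⟩ := hmk σ a
    exact ⟨m, hm.trans e.symm⟩
  refine ⟨R, ξ, hv, fun hinj u u' huu => ?_⟩
  have key : ∀ u : HomSet R.carrier R.res (Art.dual Λ k), ∃ (σ : Art.base Λ k ⟶ Art.dual Λ k) (a : Fin d → k),
      (∀ i, u.1 (π (x i)) = σ (c i)) ∧
      (∀ j, u.1 (π (y j)) = ((TrivSqZeroExt.inr (a j) : DualNumber k) : Art.dual Λ k)) ∧
      TangentSpace.mk (ξ.app _ u) = TangentSpace.mk (F.map σ h0.1.some) + ∑ j, a j • θ j := fun u => by
    let us : HomSet S.carrier S.res (Art.dual Λ k) := ⟨u.1.comp π, by rw [← AlgHom.comp_assoc, u.2, hπ]⟩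
    obtain ⟨σ, hσ⟩ := hder us
    have hy' : ∀ j, us.1 (y j) =
        ((TrivSqZeroExt.inr (TrivSqZeroExt.snd (us.1 (y j))) : DualNumber k) : Art.dual Λ k) := fun j =>
      TrivSqZeroExt.ext ((homSet_res_app us _).trans (hy j)) rfl
    refine ⟨σ, fun j => TrivSqZeroExt.snd (us.1 (y j)), fun i => (hσ i).symm, hy', ?_⟩
    obtain ⟨m, hm1, hm2, hm⟩ := hmk σ fun j => TrivSqZeroExt.snd (us.1 (y j))
    have hum : HomSet.map m η = u := Subtype.ext (AlgHom.ext fun w => by
      obtain ⟨w, rfl⟩ := hπs w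
      have : HomSet.map m τ = us := hext _ _ (fun i => (hm1 i).trans (hσ i)) fun j => (hm2 j).trans (hy' j).symm
      exact (congrArg m.toAlgHom (DFunLike.congr_fun hητ w)).trans
        (DFunLike.congr_fun (congrArg Subtype.val this) w))
    rw [← hm, ← hum, ξ.natural, hη]
  obtain ⟨σ, a, h1x, h1y, e1⟩ := key u
  obtain ⟨σ', a', h2x, h2y, e2⟩ := key u'
  obtain ⟨rfl, rfl⟩ := hinj σ σ' a a' (e1.symm.trans ((congrArg TangentSpace.mk huu).trans e2))
  have : (⟨u.1.comp π, by rw [← AlgHom.comp_assoc, u.2, hπ]⟩ : HomSet S.carrier S.res (Art.dual Λ k)) =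
      ⟨u'.1.comp π, by rw [← AlgHom.comp_assoc, u'.2, hπ]⟩ :=
    hext _ _ (fun i => (h1x i).trans (h2x i).symm) fun j => (h1y j).trans (h2y j).symm
  refine Subtype.ext (AlgHom.ext fun w => ?_)
  obtain ⟨w, rfl⟩ := hπs w
  exact DFunLike.congr_fun (congrArg Subtype.val this) w

theorem hasVersal_of_hfin (h0 : H0 F) (h1 : S1 F) (h2 : Heps F) (h3 : Hfin F) : HasVersal F := by
  have : Module.Finite k (TangentSpace F) := h3
  let b := Module.finBasis k (TangentSpace F)
  obtain ⟨R, ξ, hξ, -⟩ := exists_versal_data h0 h1 h2 (fun j => b j) fun x =>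
    ⟨Art.baseToDual, fun j => b.repr x j, by rw [tangent_zero h0, zero_add, b.sum_repr]⟩
  exact ⟨⟨R, ξ, hξ⟩⟩

/-- A hull exists as soon as derivations of `k` act freely on the tangent space. -/
theorem hasHull_of_free (h0 : H0 F) (h1 : S1 F) (h2 : Heps F) (h3 : Hfin F)
    (hfree : Function.Injective fun σ : Art.base Λ k ⟶ Art.dual Λ k => F.map σ h0.1.some) : HasHull F := by
  classical
  have : Module.Finite k (TangentSpace F) := h3
  let hom : Derivation Λ k k → (Art.base Λ k ⟶ Art.dual Λ k) := fun D => Art.homMk (homOfDer D).1 (homOfDer D).2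
  let T : Derivation Λ k k →ₗ[k] TangentSpace F :=
    { toFun := fun D => TangentSpace.mk (F.map (hom D) h0.1.some)
      map_add' := fun D D' => map_add_hom (f₁ := hom D) (f₂ := hom D') (f := hom (D + D')) (Art.homMk (homOfDer2 D D').1 (homOfDer2 D D').2)
        (dual_hom_ext fun _ => rfl) (dual_hom_ext fun _ => rfl) (dual_hom_ext fun _ => rfl) _
      map_smul' := fun c D => by
        rw [RingHom.id_apply, ← map_scale_hom]
        exact congrArg (fun g => TangentSpace.mk (F.map g h0.1.some)) (dual_hom_ext fun _ => rfl) }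
  have hhom : ∀ σ, ∃ D, hom D = σ := fun σ => by
    obtain ⟨D, hD⟩ := exists_der (R := k) (⟨σ.toAlgHom, σ.res_comp⟩ : HomSet k _ (Art.dual Λ k))
    exact ⟨D, Art.hom_ext (congrArg Subtype.val hD)⟩
  obtain ⟨C, hC⟩ := Submodule.exists_isCompl (LinearMap.range T)
  let b := Module.finBasis k C
  obtain ⟨R, ξ, hξ, hinj⟩ := exists_versal_data h0 h1 h2 (fun j => (b j : TangentSpace F)) fun x => by
    obtain ⟨p, ⟨D, rfl⟩, w, hw, rfl⟩ := Submodule.mem_sup.1 (hC.sup_eq_top ▸ Submodule.mem_top :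
      x ∈ LinearMap.range T ⊔ C)
    refine ⟨hom D, fun j => b.repr ⟨w, hw⟩ j, congrArg (T D + ·) ?_⟩
    have hs := congrArg Subtype.val (b.sum_repr ⟨w, hw⟩)
    simp only [Submodule.coe_sum, Submodule.coe_smul] at hs
    exact hs.symm
  refine ⟨⟨R, ξ, hξ, hinj fun σ σ' a a' e => ?_, surjective_app hξ h0 _⟩⟩
  obtain ⟨D, rfl⟩ := hhom σ
  obtain ⟨D', rfl⟩ := hhom σ'
  let w : C := ∑ j, a j • b j
  let w' : C := ∑ j, a' j • b j
  have e' : T D - T D' = (w' - w : TangentSpace F) := by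
    rw [sub_eq_sub_iff_add_eq_add, add_comm (w' : TangentSpace F)]
    simp only [w, w', Submodule.coe_sum, Submodule.coe_smul]
    exact e.trans (add_comm _ _) |>.trans (add_comm _ _)
  have h0' : T D - T D' = 0 := (Submodule.disjoint_def.1 hC.disjoint) _
    (sub_mem (LinearMap.mem_range_self T D) (LinearMap.mem_range_self T D')) (e' ▸ sub_mem w'.2 w.2)
  have hww : w = w' := Subtype.ext (sub_eq_zero.1 (e'.symm.trans h0')).symm
  have hTT : T D = T D' := sub_eq_zero.1 h0'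
  refine ⟨hfree hTT, funext fun j => ?_⟩
  have hj := congrArg (fun v => b.repr v j) hww
  simp only [w, w', b.repr_sum_self] at hj
  exact hj

end Groth.Agent.ArtKit
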