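import Groth.Agent.ArtKit.Formal
import Groth.Agent.ArtKit.HomDer
import Groth.Prelude.Def_W4sfdMinVersal

/-!
# Minimal versal families
-/

set_option autoImplicit false
universe u v

open CategoryTheory ArtFun IsLocalRing

namespace Groth.Agent.ArtKit

variable {Λ : Type u} {k : Type u} [CommRing Λ] [Field k] [Algebra Λ k] {F : Art Λ k ⥤ Type v}

theorem toFormalElt_push {R' R : CRing Λ k} (ξ : Family R'.carrier R'.res F) (g : R'.carrier →ₐ[Λ] R.carrier)
    (hg : R.res.comp g = R'.res) : ξ.toFormalElt.push g hg = (ξ.along g hg).toFormalElt :=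
  FormalElt.ext' fun _ => ((ξ.natural _ _).symm.trans (congrArg (ξ.app _) (Subtype.ext (AlgHom.ext fun _ => rfl))))

theorem surjective_of_push_eq_hull (h0 : H0 F) {R : CRing Λ k} {ξ : Family R.carrier R.res F}
    (hξ : IsVersal ξ) (hinj : Function.Injective (ξ.app (Art.dual Λ k))) (R' : CRing Λ k) (u : FormalElt F R')
    (f : R'.carrier →ₐ[Λ] R.carrier) (hf : R.res.comp f = R'.res) (h : u.push f hf = ξ.toFormalElt) :
    Function.Surjective f := by
  obtain ⟨g, hg, hgu⟩ := exists_along_eq h0 hξ R' u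
  have hfg : R.res.comp (f.comp g) = R.res := by rw [← AlgHom.comp_assoc, hf, hg]
  have heq : (ξ.along (f.comp g) hfg).toFormalElt = ξ.toFormalElt := by
    rw [← h, ← hgu, toFormalElt_push]
    exact FormalElt.ext' fun n => congrArg (ξ.app _) (Subtype.ext (AlgHom.ext fun _ => rfl))
  exact Function.Surjective.of_comp
    (bijective_endo_of_tangent_injective ξ hinj (f.comp g) hfg fun v => family_app_eq heq _ v).2

/-- Two minimal versal families are isomorphic. -/
theorem exists_equiv_of_minimal (h0 : H0 F) {R₁ R₂ : CRing Λ k} (ξ₁ : Family R₁.carrier R₁.res F)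
    (ξ₂ : Family R₂.carrier R₂.res F) (h₁ : ξ₁.IsMinimalVersal) (h₂ : ξ₂.IsMinimalVersal) :
    ∃ (e : R₁.carrier ≃ₐ[Λ] R₂.carrier) (he : R₂.res.comp (e : R₁.carrier →ₐ[Λ] R₂.carrier) = R₁.res),
      (ξ₁.along (e : R₁.carrier →ₐ[Λ] R₂.carrier) he).toFormalElt = ξ₂.toFormalElt := by
  obtain ⟨a, ha, ha'⟩ := exists_along_eq h0 h₁.1 R₂ ξ₂.toFormalElt
  obtain ⟨b, hb, hb'⟩ := exists_along_eq h0 h₂.1 R₁ ξ₁.toFormalElt
  have sa : Function.Surjective a := h₂.2 R₁ _ a ha ((toFormalElt_push ξ₁ a ha).trans ha')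
  have sb : Function.Surjective b := h₁.2 R₂ _ b hb ((toFormalElt_push ξ₂ b hb).trans hb')
  have hi : Function.Injective a := Function.Injective.of_comp (f := b)
    (bijective_of_surjective_endo (b.comp a).toRingHom (sb.comp sa)).1
  exact ⟨AlgEquiv.ofBijective a ⟨hi, sa⟩, ha, ha'⟩

/-- A derivation trivial on the maximal ideal comes from one of `k`. -/
lemma exists_mem_maximalIdeal_ne_zero {R : Type u} [CommRing R] [IsLocalRing R] [Algebra Λ R] [Algebra R k]
    [IsScalarTower Λ R k] (hres : Function.Surjective (algebraMap R k)) (hk : Subsingleton (Derivation Λ k k))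
    {D : Derivation Λ R k} (hD : D ≠ 0) : ∃ r ∈ maximalIdeal R, D r ≠ 0 := by
  by_contra hall
  push Not at hall
  choose w hw using id hres
  have hwell : ∀ r, D r = D (w (algebraMap R k r)) := fun r => by
    have := hall (r - w (algebraMap R k r)) (by
      rw [maximalIdeal_eq_ker (resR := IsScalarTower.toAlgHom Λ R k) hres, RingHom.mem_ker, map_sub]
      show algebraMap R k r - algebraMap R k (w (algebraMap R k r)) = 0
      rw [hw, sub_self])
    rwa [map_sub, sub_eq_zero] at this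
  let L : k →ₗ[Λ] k :=
    { toFun := fun c => D (w c)
      map_add' := fun a b => by
        rw [← map_add, hwell (w a + w b), map_add, hw, hw]
      map_smul' := fun l a => by
        have := hwell (l • w a)
        rw [Derivation.map_smul_of_tower, Algebra.smul_def l (w a), map_mul, hw,
          ← IsScalarTower.algebraMap_apply, ← Algebra.smul_def] at this
        exact this.symm }
  let D' : Derivation Λ k k := Derivation.mk' L fun a b => by
    show D (w (a * b)) = a • D (w b) + b • D (w a)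
    have := hwell (w a * w b)
    rw [D.leibniz, map_mul (algebraMap R k), hw, hw, ← algebraMap_smul k (w a), ← algebraMap_smul k (w b), hw, hw] at this
    exact this.symm
  refine hD (Derivation.ext fun r => (hwell r).trans ?_)
  exact DFunLike.congr_fun (hk.elim D' 0) (algebraMap R k r)

lemma maximalIdeal_dual_sq : maximalIdeal (Art.dual Λ k) ^ (1 + 1) = ⊥ := by
  rw [← le_bot_iff, pow_succ, pow_one, Ideal.mul_le]
  intro a ha b hb
  rw [Ideal.mem_bot]
  have h1 : a.fst = 0 := (Art.mem_maximalIdeal_iff _ a).1 ha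
  have h2 : b.fst = 0 := (Art.mem_maximalIdeal_iff _ b).1 hb
  refine TrivSqZeroExt.ext (show a.fst * b.fst = 0 by rw [h1, zero_mul]) ?_
  show a.fst • b.snd + MulOpposite.op b.fst • a.snd = 0
  rw [h1, h2, op_smul_eq_smul, zero_smul, zero_smul, add_zero]

/-- Without derivations of `k`, minimal versal families are hulls. -/
theorem tangent_injective_of_minimal (hk : Subsingleton (Derivation Λ k k)) (h0 : H0 F) (h2 : Heps F)
    {R : CRing Λ k} (ξ : Family R.carrier R.res F) (hξ : ξ.IsMinimalVersal) :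
    Function.Injective (ξ.app (Art.dual Λ k)) := by
  let : Algebra R.carrier k := R.res.toRingHom.toAlgebra
  have : IsScalarTower Λ R.carrier k := IsScalarTower.of_algebraMap_eq fun l => (R.res.commutes l).symm
  intro u₁ u₂ hu
  obtain ⟨D₁, hD₁⟩ := exists_der (R := R.carrier) u₁
  obtain ⟨D₂, hD₂⟩ := exists_der (R := R.carrier) u₂
  subst hD₁ hD₂
  by_contra hne
  let pt : F.obj (Art.dual Λ k) := F.map Art.baseToDual h0.1.some
  let D := D₁ - D₂
  have hD0 : D ≠ 0 := fun e => hne (by rw [sub_eq_zero.1 e])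
  let uD : HomSet R.carrier R.res (Art.dual Λ k) := homOfDer D
  have hpt : ξ.app _ uD = pt := by
    let δ : Art.dual Λ k ⟶ Art.dual2 Λ k :=
      ⟨Art.tszeMap (LinearMap.prod LinearMap.id LinearMap.id), AlgHom.ext fun _ => rfl⟩
    let ν : Art.dual2 Λ k ⟶ Art.dual Λ k :=
      ⟨Art.tszeMap (LinearMap.fst k k k - LinearMap.snd k k k), AlgHom.ext fun _ => rfl⟩
    let z : F.obj (Art.dual2 Λ k) := ξ.app _ (homOfDer2 D₁ D₂ : HomSet R.carrier R.res _)
    have h1 : F.map Art.pr₁ z = ξ.app _ (homOfDer D₁) := (ξ.natural _ _).symm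
    have h2' : F.map Art.pr₂ z = ξ.app _ (homOfDer D₂) := (ξ.natural _ _).symm
    have hz : z = F.map δ (ξ.app _ (homOfDer D₁)) := pair_unique h2
      (by rw [h1, ← map_comp_app F δ, show δ ≫ Art.pr₁ = 𝟙 _ from dual_hom_ext fun _ => rfl, map_id_app])
      (by rw [h2', ← map_comp_app F δ, show δ ≫ Art.pr₂ = 𝟙 _ from dual_hom_ext fun _ => rfl, map_id_app, hu])
    have : ξ.app _ uD = F.map ν z := by
      refine Eq.trans ?_ (ξ.natural ν _)
      exact congrArg (ξ.app _) (Subtype.ext (AlgHom.ext fun _ => rfl))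
    rw [this, hz, ← map_comp_app, show δ ≫ ν = Art.toBase _ ≫ Art.baseToDual from dual_hom_ext fun x => sub_self _,
      map_comp_app]
    exact congrArg _ (h0.2.elim _ _)
  obtain ⟨m, hm⟩ := exists_factor_trunc R uD 1 maximalIdeal_dual_sq
  obtain ⟨r₀, hr₀, hDr⟩ := exists_mem_maximalIdeal_ne_zero R.res_surjective hk hD0
  let E := R.trunc 1
  let t : E := (R.truncHom 1).1 r₀
  have hmt : TrivSqZeroExt.snd (m t) = D r₀ := congrArg TrivSqZeroExt.snd (DFunLike.congr_fun (congrArg Subtype.val hm) r₀)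
  have ht0 : E.res t = 0 := (homSet_res_app (R.truncHom 1) r₀).trans ((CRing.mem_maximalIdeal_iff R r₀).1 hr₀)
  have hsq : ∀ x y : E, E.res x = 0 → E.res y = 0 → x * y = 0 := by
    intro x y hx hy
    obtain ⟨a, rfl⟩ := truncHom_surjective R 1 x
    obtain ⟨b, rfl⟩ := truncHom_surjective R 1 y
    rw [homSet_res_app, ← CRing.mem_maximalIdeal_iff] at hx hy
    rw [← map_mul]
    refine Ideal.Quotient.eq_zero_iff_mem.2 ?_
    show a * b ∈ maximalIdeal R.carrier ^ (1 + 1)
    rw [pow_succ, pow_one]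
    exact Ideal.mul_mem_mul hx hy
  have hK : Ideal.span {t} ≤ maximalIdeal E := by
    rw [Ideal.span_singleton_le_iff_mem, Art.mem_maximalIdeal_iff, ht0]
  let q := Art.quotMk E (Ideal.span {t}) hK
  have hmb : ∀ b : E, TrivSqZeroExt.snd (m (b * t)) = E.res b * D r₀ := fun b => by
    rw [map_mul]
    show (m b).fst • (m t).snd + MulOpposite.op (m t).fst • (m b).snd = _
    rw [op_smul_eq_smul, show (m t).fst = 0 from (Art.res_app m t).trans ht0, zero_smul, add_zero, hmt,
      show (m b).fst = E.res b from Art.res_app m b, smul_eq_mul]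
  have hfp : Art.IsFibreProd q m (Art.toBase _) (Art.toBase _) := by
    refine ⟨by rw [Art.eq_toBase (q ≫ Art.toBase _), Art.eq_toBase (m ≫ Art.toBase _)], fun x y e₁ e₂ => ?_, fun a d e => ?_⟩
    · obtain ⟨b, hb⟩ := Ideal.mem_span_singleton'.1 (Ideal.Quotient.eq.1 e₁)
      have h' : E.res b * D r₀ = 0 := (hmb b).symm.trans (by rw [hb, map_sub, e₂, sub_self]; rfl)
      rw [← sub_eq_zero, ← hb]
      exact hsq b t ((mul_eq_zero.1 h').resolve_right hDr) ht0
    · obtain ⟨x, rfl⟩ := Art.quotMk_surjective E (Ideal.span {t}) hK a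
      obtain ⟨b, hb⟩ := E.res_surjective ((TrivSqZeroExt.snd d - TrivSqZeroExt.snd (m x)) / D r₀)
      have hqt : q (b * t) = 0 := Ideal.Quotient.eq_zero_iff_mem.2 (Ideal.mem_span_singleton'.2 ⟨b, rfl⟩)
      refine ⟨x + b * t, by rw [map_add, hqt, add_zero], TrivSqZeroExt.ext ?_ ?_⟩
      · refine (Art.res_app m _).trans ?_
        rw [map_add, map_mul, ht0, mul_zero, add_zero]
        exact (Art.res_app q x).symm.trans e
      · rw [map_add]
        show (m x).snd + (m (b * t)).snd = _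
        rw [hmb, hb, div_mul_cancel₀ _ hDr, add_sub_cancel]
  obtain ⟨σ, hσq, hσm⟩ := exists_lift hfp (𝟙 _) (Art.toBase _ ≫ Art.baseToDual)
    ((Art.eq_toBase _).trans (Art.eq_toBase _).symm)
  have hξ1 : ξ.app E (HomSet.map (q ≫ σ) (R.truncHom 1)) = ξ.app E (R.truncHom 1) := by
    rw [ξ.natural]
    refine (injective_cmp_iff hfp).1 (h2 _ _ hfp).1 _ _ ?_ ?_
    · rw [← map_comp_app F (q ≫ σ) q, Category.assoc, hσq, Category.comp_id]
    · rw [← map_comp_app F (q ≫ σ) m, Category.assoc, hσm, map_comp_app, map_comp_app, ← ξ.natural m, hm, hpt]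
      exact congrArg _ (h0.2.elim _ _)
  let base : {φ : HomSet R.carrier R.res (R.trunc 1) // ξ.app _ φ = ξ.app _ (R.truncHom 1)} := ⟨_, hξ1⟩
  have hstep : ∀ n (φ : {φ : HomSet R.carrier R.res (R.trunc (n + 1)) // ξ.app _ φ = ξ.app _ (R.truncHom (n + 1))}),
      ∃ ψ : {φ : HomSet R.carrier R.res (R.trunc (n + 1 + 1)) // ξ.app _ φ = ξ.app _ (R.truncHom (n + 1 + 1))},
        HomSet.map (R.truncMap (n + 1)) ψ.1 = φ.1 := fun n φ => by
    obtain ⟨ψ, h1, h2⟩ := hξ.1 (R.truncMap (n + 1)) (truncMap_surjective R _) φ.1 (ξ.app _ (R.truncHom (n + 1 + 1)))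
      (by rw [← ξ.natural, CRing.truncMap_truncHom, φ.2])
    exact ⟨⟨ψ, h2⟩, h1⟩
  choose step hstep using hstep
  let h' : ∀ n, {φ : HomSet R.carrier R.res (R.trunc (n + 1)) // ξ.app _ φ = ξ.app _ (R.truncHom (n + 1))} :=
    fun n => Nat.rec base step n
  obtain ⟨g, hg, hgn⟩ := exists_algHom_of_truncs R (fun n => HomSet.map (R.truncMap n) (h' n).1)
    fun n => congrArg (HomSet.map (R.truncMap n)) (hstep n (h' n))
  have hpush : (ξ.toFormalElt).push g hg = ξ.toFormalElt := by
    rw [toFormalElt_push]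
    refine FormalElt.ext' fun n => ?_
    show ξ.app _ ⟨(R.truncHom n).1.comp g, _⟩ = ξ.app _ (R.truncHom n)
    rw [show (⟨(R.truncHom n).1.comp g, _⟩ : HomSet R.carrier R.res (R.trunc n)) = HomSet.map (R.truncMap n) (h' n).1 from
      Subtype.ext (hgn n), ξ.natural, (h' n).2, ← ξ.natural, CRing.truncMap_truncHom]
  obtain ⟨r, hr⟩ := hξ.2 R _ g hg hpush r₀
  refine hDr (hmt.symm.trans ?_)
  have hsurj1 : (R.truncHom 1).1 (g r) = σ (q ((R.truncHom 1).1 r)) :=
    DFunLike.congr_fun ((hgn 1).trans (congrArg Subtype.val (hstep 0 (h' 0)))) r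
  show TrivSqZeroExt.snd (m ((R.truncHom 1).1 r₀)) = 0
  rw [← hr, hsurj1, ← Art.comp_apply σ m, hσm]
  rfl

end Groth.Agent.ArtKit
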