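import Groth.Prelude.Def_ArtFun2
import Groth.Prelude.Def_ArtFun3
import Groth.Agent.ArtFib.Basic
import Mathlib.RingTheory.Nakayama

/-!
# Surjections of Artinian local algebras: isomorphisms, fibre products, small extensions

Morphisms into a fibre product, factoring surjections into small extensions (as an induction principle),
and the consequence that smoothness may be tested on small extensions.
-/

set_option autoImplicit false
universe u v

open CategoryTheory ArtFun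

namespace Groth.Agent.ArtKit

variable {Λ : Type u} {k : Type u} [CommRing Λ] [Field k] [Algebra Λ k]

/-- A bijective morphism is an isomorphism. -/
theorem isIso_of_bijective {A B : Art Λ k} (f : A ⟶ B) (hf : Function.Bijective f) : IsIso f := by
  let e : A ≃ₐ[Λ] B := AlgEquiv.ofBijective f.toAlgHom hf
  have he : ∀ a : A, e a = f a := fun _ => rfl
  let g : B ⟶ A := Art.homMk e.symm.toAlgHom (AlgHom.ext fun b => by
    show A.res (e.symm b) = B.res b
    conv_rhs => rw [← e.apply_symm_apply b, he, Art.res_app])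
  exact ⟨g, Art.hom_ext (AlgHom.ext fun a => e.symm_apply_apply a),
    Art.hom_ext (AlgHom.ext fun b => e.apply_symm_apply b)⟩

theorem bijective_of_isIso {A B : Art Λ k} (f : A ⟶ B) [IsIso f] : Function.Bijective f := by
  refine Function.bijective_iff_has_inverse.2 ⟨inv f, fun a => ?_, fun b => ?_⟩
  · exact congrArg (fun e : A ⟶ A => e a) (IsIso.hom_inv_id f)
  · exact congrArg (fun e : B ⟶ B => e b) (IsIso.inv_hom_id f)

lemma ker_le_maximalIdeal {A B : Art Λ k} (f : A ⟶ B) :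
    RingHom.ker f.toAlgHom ≤ IsLocalRing.maximalIdeal A := fun x hx => by
  rw [Art.mem_maximalIdeal_iff, ← Art.res_app f]
  exact (congrArg B.res (RingHom.mem_ker.1 hx)).trans (map_zero _)

lemma injective_iff {A B : Art Λ k} (f : A ⟶ B) :
    Function.Injective f ↔ RingHom.ker f.toAlgHom = ⊥ :=
  RingHom.injective_iff_ker_eq_bot f.toAlgHom

/-- Morphisms into a fibre product. -/
theorem exists_lift {B A A' A'' : Art Λ k} {p' : B ⟶ A'} {p'' : B ⟶ A''} {f' : A' ⟶ A} {f'' : A'' ⟶ A}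
    (h : Art.IsFibreProd p' p'' f' f'') {C : Art Λ k} (g' : C ⟶ A') (g'' : C ⟶ A'')
    (hg : g' ≫ f' = g'' ≫ f'') : ∃ l : C ⟶ B, l ≫ p' = g' ∧ l ≫ p'' = g'' := by
  have hw : ∀ c : C, f' (g' c) = f'' (g'' c) := fun c => congrArg (fun e : C ⟶ A => e c) hg
  choose l hl' hl'' using fun c => h.surj (g' c) (g'' c) (hw c)
  let L : C →ₐ[Λ] B :=
    { toFun := l
      map_one' := h.inj _ _ (by rw [hl', map_one, map_one]) (by rw [hl'', map_one, map_one])
      map_mul' := fun x y => h.inj _ _ (by simp only [hl', map_mul]) (by simp only [hl'', map_mul])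
      map_zero' := h.inj _ _ (by rw [hl', map_zero, map_zero]) (by rw [hl'', map_zero, map_zero])
      map_add' := fun x y => h.inj _ _ (by simp only [hl', map_add]) (by simp only [hl'', map_add])
      commutes' := fun r => h.inj _ _ (by rw [hl', AlgHom.commutes, AlgHom.commutes])
        (by rw [hl'', AlgHom.commutes, AlgHom.commutes]) }
  refine ⟨Art.homMk L (AlgHom.ext fun c => ?_), Art.hom_ext (AlgHom.ext hl'), Art.hom_ext (AlgHom.ext hl'')⟩
  show B.res (l c) = C.res c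
  rw [← Art.res_app p', hl', Art.res_app]

theorem hom_ext_of_isFibreProd {B A A' A'' : Art Λ k} {p' : B ⟶ A'} {p'' : B ⟶ A''} {f' : A' ⟶ A} {f'' : A'' ⟶ A}
    (h : Art.IsFibreProd p' p'' f' f'') {C : Art Λ k} {l₁ l₂ : C ⟶ B}
    (h' : l₁ ≫ p' = l₂ ≫ p') (h'' : l₁ ≫ p'' = l₂ ≫ p'') : l₁ = l₂ :=
  Art.hom_ext (AlgHom.ext fun c => h.inj _ _ (congrArg (fun e : C ⟶ A' => e c) h')
    (congrArg (fun e : C ⟶ A'' => e c) h''))

lemma isFibreProd_symm {B A A' A'' : Art Λ k} {p' : B ⟶ A'} {p'' : B ⟶ A''} {f' : A' ⟶ A} {f'' : A'' ⟶ A}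
    (h : Art.IsFibreProd p' p'' f' f'') : Art.IsFibreProd p'' p' f'' f' :=
  ⟨h.w.symm, fun b₁ b₂ e₁ e₂ => h.inj b₁ b₂ e₂ e₁, fun a b e => by
    obtain ⟨c, hc, hc'⟩ := h.surj b a e.symm
    exact ⟨c, hc', hc⟩⟩

lemma surjective_fst_of_isFibreProd {B A A' A'' : Art Λ k} {p' : B ⟶ A'} {p'' : B ⟶ A''} {f' : A' ⟶ A}
    {f'' : A'' ⟶ A} (h : Art.IsFibreProd p' p'' f' f'') (hf : Function.Surjective f'') :
    Function.Surjective p' := fun a => by
  obtain ⟨c, hc⟩ := hf (f' a)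
  obtain ⟨b, hb, -⟩ := h.surj a c hc.symm
  exact ⟨b, hb⟩

/-- One step between two quotients: a non-zero ideal `K` contains an ideal `K'` with `K/K'` simple. -/
theorem exists_small_step (B : Art Λ k) (K : Ideal B) (hK : K ≤ IsLocalRing.maximalIdeal B) (hne : K ≠ ⊥) :
    ∃ K', K' < K ∧ IsLocalRing.maximalIdeal B * K ≤ K' ∧ ∃ x, x ∈ K ∧ x ∉ K' ∧ K = K' ⊔ Ideal.span {x} := by
  have hlt : IsLocalRing.maximalIdeal B * K < K := by
    refine lt_of_le_of_ne Ideal.mul_le_right fun h => hne ?_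
    exact Submodule.eq_bot_of_le_smul_of_le_jacobson_bot _ K (IsNoetherian.noetherian K) h.ge
      (IsLocalRing.jacobson_eq_maximalIdeal (⊥ : Ideal B) bot_ne_top).ge
  obtain ⟨K', ⟨hmK, hK'⟩, hmax⟩ := set_has_maximal_iff_noetherian.2 (inferInstance : IsNoetherianRing B)
    {J : Ideal B | IsLocalRing.maximalIdeal B * K ≤ J ∧ J < K} ⟨_, le_refl _, hlt⟩
  obtain ⟨x, hx, hx'⟩ := SetLike.exists_of_lt hK'
  refine ⟨K', hK', hmK, x, hx, hx', ?_⟩
  by_contra hneq
  have hle : K' ⊔ Ideal.span {x} ≤ K := sup_le hK'.le ((Ideal.span_singleton_le_iff_mem _).2 hx)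
  refine hmax (K' ⊔ Ideal.span {x}) ⟨hmK.trans le_sup_left, lt_of_le_of_ne hle (Ne.symm hneq)⟩
    (lt_of_le_of_ne le_sup_left fun h => hx' ?_)
  rw [h]
  exact Ideal.mem_sup_right (Ideal.mem_span_singleton_self x)

/-- A step `B/K' → B/K` with `K/K'` simple is a small extension. -/
theorem isSmallExt_quotFactor {A B : Art Λ k} (f : B ⟶ A) (hf : Function.Surjective f) (K' : Ideal B)
    (hK'm : K' ≤ IsLocalRing.maximalIdeal B) (hle : K' ≤ RingHom.ker f.toAlgHom) (x : B)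
    (hxK : x ∈ RingHom.ker f.toAlgHom) (hx' : x ∉ K')
    (hmK : IsLocalRing.maximalIdeal B * RingHom.ker f.toAlgHom ≤ K')
    (hsup : RingHom.ker f.toAlgHom = K' ⊔ Ideal.span {x}) :
    Art.IsSmallExt (Art.quotFactor hK'm f hle) := by
  have happ : ∀ a : B, Art.quotFactor hK'm f hle (Art.quotMk B K' hK'm a) = f a := fun a => by
    rw [← Art.comp_apply, Art.quotMk_quotFactor]
  have hxq : Art.quotMk B K' hK'm x ∈ RingHom.ker (Art.quotFactor hK'm f hle).toAlgHom :=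
    RingHom.mem_ker.2 ((happ x).trans (RingHom.mem_ker.1 hxK))
  refine ⟨?_, ?_, ⟨⟨Art.quotMk B K' hK'm x, ?_⟩⟩, ?_⟩
  · intro a
    obtain ⟨b, hb⟩ := hf a
    exact ⟨Art.quotMk B K' hK'm b, (happ b).trans hb⟩
  · intro h
    rw [h, Ideal.mem_bot, Art.quotMk_apply] at hxq
    exact hx' (Ideal.Quotient.eq_zero_iff_mem.1 hxq)
  · refine le_antisymm (fun y hy => ?_) ((Submodule.span_singleton_le_iff_mem _ _).2 hxq)
    obtain ⟨a, rfl⟩ := Art.quotMk_surjective B K' hK'm y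
    have ha : a ∈ RingHom.ker f.toAlgHom := RingHom.mem_ker.2 ((happ a).symm.trans (RingHom.mem_ker.1 hy))
    rw [hsup] at ha
    obtain ⟨z, hz, w, hw, rfl⟩ := Submodule.mem_sup.1 ha
    obtain ⟨c, rfl⟩ := Ideal.mem_span_singleton'.1 hw
    refine Submodule.mem_span_singleton.2 ⟨Art.quotMk B K' hK'm c, ?_⟩
    have hz0 : Art.quotMk B K' hK'm z = 0 :=
      (Art.quotMk_apply B K' hK'm z).trans (Ideal.Quotient.eq_zero_iff_mem.2 hz)
    rw [smul_eq_mul, map_add, map_mul, hz0, zero_add]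
  · refine le_bot_iff.1 (Ideal.mul_le.2 fun m hm y hy => ?_)
    obtain ⟨a, rfl⟩ := Art.quotMk_surjective B K' hK'm y
    obtain ⟨c, rfl⟩ := Art.quotMk_surjective B K' hK'm m
    have ha : a ∈ RingHom.ker f.toAlgHom := RingHom.mem_ker.2 ((happ a).symm.trans (RingHom.mem_ker.1 hy))
    have hc : c ∈ IsLocalRing.maximalIdeal B := by
      rw [Art.mem_maximalIdeal_iff, ← Art.res_app (Art.quotMk B K' hK'm)]
      exact (Art.mem_maximalIdeal_iff _ _).1 hm
    rw [← map_mul, Ideal.mem_bot, Art.quotMk_apply]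
    exact Ideal.Quotient.eq_zero_iff_mem.2 (hmK (Ideal.mul_mem_mul hc ha))

lemma ker_quotMk (B : Art Λ k) (K : Ideal B) (hK : K ≤ IsLocalRing.maximalIdeal B) :
    RingHom.ker (Art.quotMk B K hK).toAlgHom = K := by
  ext a
  exact RingHom.mem_ker.trans Ideal.Quotient.eq_zero_iff_mem

/-- Every surjection is a composite of small extensions, as an induction principle. -/
theorem surjective_induction (P : ∀ ⦃A B : Art Λ k⦄, (B ⟶ A) → Prop)
    (hiso : ∀ ⦃A B : Art Λ k⦄ (e : B ⟶ A), IsIso e → P e)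
    (hsmall : ∀ ⦃A B : Art Λ k⦄ (p : B ⟶ A), Art.IsSmallExt p → P p)
    (hcomp : ∀ ⦃A B C : Art Λ k⦄ (p : C ⟶ B) (q : B ⟶ A), P p → P q → P (p ≫ q))
    ⦃A B : Art Λ k⦄ (f : B ⟶ A) (hf : Function.Surjective f) : P f := by
  suffices key : ∀ (K : Ideal B) (hK : K ≤ IsLocalRing.maximalIdeal B) ⦃A : Art Λ k⦄ (f : B ⟶ A),
      Function.Surjective f → RingHom.ker f.toAlgHom = K → P f from key _ (ker_le_maximalIdeal f) f hf rfl
  clear hf f A
  intro K
  induction K using WellFoundedLT.induction with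
  | _ K ih =>
    intro hK A f hf hker
    by_cases hne : K = ⊥
    · exact hiso f (isIso_of_bijective f ⟨(injective_iff f).2 (hker.trans hne), hf⟩)
    obtain ⟨K', hK', hmK, x, hx, hx', hsup⟩ := exists_small_step B K hK hne
    subst hker
    have hK'm : K' ≤ IsLocalRing.maximalIdeal B := hK'.le.trans hK
    rw [← Art.quotMk_quotFactor hK'm f hK'.le]
    exact hcomp _ _ (ih K' hK' hK'm _ (Art.quotMk_surjective B K' hK'm) (ker_quotMk B K' hK'm))
      (hsmall _ (isSmallExt_quotFactor f hf K' hK'm hK'.le x hx hx' hmK hsup))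

section Functor

variable (F : Art Λ k ⥤ Type v)

lemma map_id_app {A : Art Λ k} (x : F.obj A) : F.map (𝟙 A) x = x := by rw [F.map_id]; rfl

lemma map_comp_app {A B C : Art Λ k} (p : A ⟶ B) (q : B ⟶ C) (x : F.obj A) :
    F.map (p ≫ q) x = F.map q (F.map p x) := by rw [F.map_comp]; rfl

lemma map_congr {A B C D : Art Λ k} {p : A ⟶ B} {q : B ⟶ D} {p' : A ⟶ C} {q' : C ⟶ D}
    (h : p ≫ q = p' ≫ q') (x : F.obj A) : F.map q (F.map p x) = F.map q' (F.map p' x) := by
  rw [← map_comp_app, ← map_comp_app, h]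

lemma map_inv_app {A B : Art Λ k} (e : A ⟶ B) [IsIso e] (x : F.obj A) :
    F.map (inv e) (F.map e x) = x := by
  rw [← map_comp_app, IsIso.hom_inv_id, map_id_app]

lemma map_app_inv {A B : Art Λ k} (e : A ⟶ B) [IsIso e] (x : F.obj B) :
    F.map e (F.map (inv e) x) = x := by
  rw [← map_comp_app, IsIso.inv_hom_id, map_id_app]

variable {F}

lemma cmp_fst {B A A' A'' : Art Λ k} {p' : B ⟶ A'} {p'' : B ⟶ A''} {f' : A' ⟶ A} {f'' : A'' ⟶ A}
    (h : Art.IsFibreProd p' p'' f' f'') (z : F.obj B) : (cmp F h z).1.1 = F.map p' z := rfl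

lemma surjective_cmp_iff {B A A' A'' : Art Λ k} {p' : B ⟶ A'} {p'' : B ⟶ A''} {f' : A' ⟶ A} {f'' : A'' ⟶ A}
    (h : Art.IsFibreProd p' p'' f' f'') : Function.Surjective (cmp F h) ↔
      ∀ x' x'', F.map f' x' = F.map f'' x'' → ∃ z, F.map p' z = x' ∧ F.map p'' z = x'' := by
  constructor
  · intro hs x' x'' e
    obtain ⟨z, hz⟩ := hs ⟨(x', x''), e⟩
    exact ⟨z, congrArg (fun t => t.1.1) hz, congrArg (fun t => t.1.2) hz⟩
  · rintro hs ⟨⟨x', x''⟩, e⟩
    obtain ⟨z, h', h''⟩ := hs x' x'' e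
    exact ⟨z, FibProd.ext h' h''⟩

lemma injective_cmp_iff {B A A' A'' : Art Λ k} {p' : B ⟶ A'} {p'' : B ⟶ A''} {f' : A' ⟶ A} {f'' : A'' ⟶ A}
    (h : Art.IsFibreProd p' p'' f' f'') : Function.Injective (cmp F h) ↔
      ∀ z₁ z₂, F.map p' z₁ = F.map p' z₂ → F.map p'' z₁ = F.map p'' z₂ → z₁ = z₂ :=
  ⟨fun hi _ _ e e' => hi (FibProd.ext e e'), fun hi _ _ e =>
    hi _ _ (congrArg (fun t => t.1.1) e) (congrArg (fun t => t.1.2) e)⟩

variable {G : Art Λ k ⥤ Type v}

/-- Smoothness may be tested on small extensions. -/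
theorem isSmooth_of_smallExt (η : F ⟶ G)
    (h : ∀ ⦃B A : Art Λ k⦄ (μ : B ⟶ A), Art.IsSmallExt μ → Function.Surjective (relCmp η μ)) :
    IsSmooth η := by
  refine fun B A μ hμ => surjective_induction (fun A B μ => Function.Surjective (relCmp η μ)) ?_
    (fun A B p hp => h p hp) ?_ μ hμ
  · rintro A B e he ⟨⟨a, b⟩, hab⟩
    refine ⟨F.map (inv e) a, Subtype.ext (Prod.ext (map_app_inv F e a) ?_)⟩
    show η.app B (F.map (inv e) a) = b
    rw [NatTrans.naturality_apply, hab]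
    exact map_inv_app G e b
  · rintro A B C p q hp hq ⟨⟨a, b⟩, hab⟩
    obtain ⟨y, hy⟩ := hq ⟨(a, G.map p b), hab.trans (map_comp_app G p q b)⟩
    obtain ⟨z, hz⟩ := hp ⟨(y, b), (Prod.mk.inj (Subtype.ext_iff.1 hy)).2⟩
    obtain ⟨hz1, hz2⟩ := Prod.mk.inj (Subtype.ext_iff.1 hz)
    refine ⟨z, Subtype.ext (Prod.ext ?_ hz2)⟩
    show F.map (p ≫ q) z = a
    refine ((map_comp_app F p q z).trans (congrArg (F.map q) hz1)).trans ?_
    exact (Prod.mk.inj (Subtype.ext_iff.1 hy)).1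

/-- Versality may be tested on small extensions. -/
theorem isVersal_of_smallExt {R : Type u} [CommRing R] [Algebra Λ R] {resR : R →ₐ[Λ] k}
    (ξ : Family R resR F)
    (h : ∀ ⦃B A : Art Λ k⦄ (μ : B ⟶ A), Art.IsSmallExt μ → ∀ (φ : HomSet R resR A) (y : F.obj B),
      F.map μ y = ξ.app A φ → ∃ ψ : HomSet R resR B, HomSet.map μ ψ = φ ∧ ξ.app B ψ = y) :
    IsVersal ξ := by
  refine fun B A μ hμ => surjective_induction (fun A B μ => ∀ (φ : HomSet R resR A) (y : F.obj B),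
    F.map μ y = ξ.app A φ → ∃ ψ : HomSet R resR B, HomSet.map μ ψ = φ ∧ ξ.app B ψ = y) ?_
    (fun A B p hp => h p hp) ?_ μ hμ
  · intro A B e he φ y hy
    refine ⟨HomSet.map (inv e) φ, Subtype.ext (AlgHom.ext fun r => ?_), ?_⟩
    · exact congrArg (fun g : A ⟶ A => g (φ.1 r)) (IsIso.inv_hom_id e)
    · rw [ξ.natural, ← hy, map_inv_app]
  · intro A B C p q hp hq φ y hy
    obtain ⟨ψ, hψ1, hψ2⟩ := hq φ (F.map p y) ((map_comp_app F p q y).symm.trans hy)
    obtain ⟨χ, hχ1, hχ2⟩ := hp ψ y hψ2.symm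
    exact ⟨χ, by rw [← hψ1, ← hχ1]; exact Subtype.ext (AlgHom.ext fun _ => rfl), hχ2⟩

end Functor

end Groth.Agent.ArtKit
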