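import Groth.Agent.ArtKit.Basic

/-!
# Comparison maps along composites

The comparison conditions on a functor of Artin rings pass from small extensions to all surjections.
-/

set_option autoImplicit false
universe u v

open CategoryTheory ArtFun

namespace Groth.Agent.ArtKit

variable {Λ : Type u} {k : Type u} [CommRing Λ] [Field k] [Algebra Λ k]
  {F : Art Λ k ⥤ Type v}

/-- The comparison map of a square along an isomorphism is bijective. -/
theorem bijective_cmp_of_isIso {B A A' A'' : Art Λ k} {p' : B ⟶ A'} {p'' : B ⟶ A''} {f' : A' ⟶ A}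
    {f'' : A'' ⟶ A} (h : Art.IsFibreProd p' p'' f' f'') [IsIso f''] : Function.Bijective (cmp F h) := by
  have hf := bijective_of_isIso f''
  have : IsIso p' := isIso_of_bijective p' ⟨fun b₁ b₂ e => h.inj b₁ b₂ e (hf.1 (by
      rw [← h.w_apply, ← h.w_apply]; exact congrArg f'.toAlgHom e)), surjective_fst_of_isFibreProd h hf.2⟩
  refine ⟨(injective_cmp_iff h).2 fun z₁ z₂ e _ => ?_, (surjective_cmp_iff h).2 fun x' x'' e => ?_⟩
  · rw [← map_inv_app F p' z₁, ← map_inv_app F p' z₂, e]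
  · refine ⟨F.map (inv p') x', map_app_inv F p' x', ?_⟩
    have hw : p'' = p' ≫ f' ≫ inv f'' := by
      rw [← Category.assoc, IsIso.eq_comp_inv, h.w]
    rw [hw, map_comp_app, map_app_inv, map_comp_app, e, map_inv_app]

/-- Intermediate square and the two squares it gives. -/
theorem exists_split [IsNoetherianRing Λ] [Module.Finite Λ k] {B A A' C D : Art Λ k} {p' : B ⟶ A'}
    {p'' : B ⟶ D} {f' : A' ⟶ A} {p : D ⟶ C} {q : C ⟶ A} (h : Art.IsFibreProd p' p'' f' (p ≫ q))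
    (hq : Function.Surjective q) :
    ∃ (E : Art Λ k) (e' : E ⟶ A') (e'' : E ⟶ C) (r : B ⟶ E),
      Art.IsFibreProd e' e'' f' q ∧ Art.IsFibreProd r p'' e'' p ∧ r ≫ e' = p' := by
  obtain ⟨E, e', e'', hE⟩ := ArtFib.exists_isFibreProd_of_surjective f' q hq
  obtain ⟨r, hr', hr''⟩ := exists_lift hE p' (p'' ≫ p) (by rw [h.w, Category.assoc])
  refine ⟨E, e', e'', r, hE, ⟨hr'', fun b₁ b₂ e₁ e₂ => h.inj b₁ b₂ ?_ e₂, fun a d e => ?_⟩, hr'⟩
  · rw [← hr']; exact congrArg e'.toAlgHom e₁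
  · obtain ⟨b, hb', hb''⟩ := h.surj (e' a) d ((hE.w_apply a).trans (congrArg q.toAlgHom e))
    refine ⟨b, hE.inj _ _ ?_ ?_, hb''⟩
    · rw [← Art.comp_apply, hr']; exact hb'
    · rw [← Art.comp_apply, hr'', Art.comp_apply, hb'']; exact e.symm

theorem surjective_cmp_comp [IsNoetherianRing Λ] [Module.Finite Λ k] {A C D : Art Λ k} {p : D ⟶ C} {q : C ⟶ A}
    (hq : Function.Surjective q)
    (hP : ∀ ⦃B A' : Art Λ k⦄ (p' : B ⟶ A') (p'' : B ⟶ D) (f' : A' ⟶ C) (h : Art.IsFibreProd p' p'' f' p),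
      Function.Surjective (cmp F h))
    (hQ : ∀ ⦃B A' : Art Λ k⦄ (p' : B ⟶ A') (p'' : B ⟶ C) (f' : A' ⟶ A) (h : Art.IsFibreProd p' p'' f' q),
      Function.Surjective (cmp F h))
    ⦃B A' : Art Λ k⦄ (p' : B ⟶ A') (p'' : B ⟶ D) (f' : A' ⟶ A) (h : Art.IsFibreProd p' p'' f' (p ≫ q)) :
    Function.Surjective (cmp F h) := by
  obtain ⟨E, e', e'', r, hE, hr, hr'⟩ := exists_split h hq
  refine (surjective_cmp_iff h).2 fun x' x'' e => ?_
  obtain ⟨z, hz', hz''⟩ := (surjective_cmp_iff hE).1 (hQ _ _ _ hE) x' (F.map p x'')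
    (e.trans (map_comp_app F p q x''))
  obtain ⟨w, hw', hw''⟩ := (surjective_cmp_iff hr).1 (hP _ _ _ hr) z x'' hz''
  exact ⟨w, by rw [← hr', map_comp_app, hw', hz'], hw''⟩

theorem injective_cmp_comp [IsNoetherianRing Λ] [Module.Finite Λ k] {A C D : Art Λ k} {p : D ⟶ C} {q : C ⟶ A}
    (hq : Function.Surjective q)
    (hP : ∀ ⦃B A' : Art Λ k⦄ (p' : B ⟶ A') (p'' : B ⟶ D) (f' : A' ⟶ C) (h : Art.IsFibreProd p' p'' f' p),
      Function.Injective (cmp F h))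
    (hQ : ∀ ⦃B A' : Art Λ k⦄ (p' : B ⟶ A') (p'' : B ⟶ C) (f' : A' ⟶ A) (h : Art.IsFibreProd p' p'' f' q),
      Function.Injective (cmp F h))
    ⦃B A' : Art Λ k⦄ (p' : B ⟶ A') (p'' : B ⟶ D) (f' : A' ⟶ A) (h : Art.IsFibreProd p' p'' f' (p ≫ q)) :
    Function.Injective (cmp F h) := by
  obtain ⟨E, e', e'', r, hE, hr, hr'⟩ := exists_split h hq
  refine (injective_cmp_iff h).2 fun z₁ z₂ e₁ e₂ =>
    (injective_cmp_iff hr).1 (hP _ _ _ hr) z₁ z₂ ?_ e₂
  refine (injective_cmp_iff hE).1 (hQ _ _ _ hE) _ _ ?_ ?_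
  · rw [← map_comp_app, ← map_comp_app, hr', e₁]
  · rw [map_congr F hr.w, map_congr F hr.w, e₂]

variable (F) [IsNoetherianRing Λ] [Module.Finite Λ k]

theorem s1_iff_hbar : S1 F ↔ Hbar F := by
  refine ⟨fun hS B A A' A'' p' p'' f' f'' h hs => hS p' p'' f' f'' h hs.1,
    fun hH B A A' A'' p' p'' f' f'' h hs => ?_⟩
  refine (surjective_induction (fun A D (f : D ⟶ A) => Function.Surjective f ∧
    ∀ ⦃B A' : Art Λ k⦄ (p' : B ⟶ A') (p'' : B ⟶ D) (f' : A' ⟶ A) (h : Art.IsFibreProd p' p'' f' f),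
      Function.Surjective (cmp F h)) ?_ ?_ ?_ f'' hs).2 p' p'' f' h
  · intro A D e he
    exact ⟨(bijective_of_isIso e).2, fun B A' p' p'' f' h => (bijective_cmp_of_isIso h).2⟩
  · intro A D e he
    exact ⟨he.1, fun B A' p' p'' f' h => hH p' p'' f' e h he⟩
  · intro A C D p q hp hq
    exact ⟨hq.1.comp hp.1, surjective_cmp_comp hq.1 hp.2 hq.2⟩

theorem rs_of_smallExt
    (hS : ∀ ⦃B A A' A'' : Art Λ k⦄ (p' : B ⟶ A') (p'' : B ⟶ A'') (f' : A' ⟶ A) (f'' : A'' ⟶ A)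
      (h : Art.IsFibreProd p' p'' f' f''), Art.IsSmallExt f'' → Function.Bijective (cmp F h))
    ⦃B A A' A'' : Art Λ k⦄ (p' : B ⟶ A') (p'' : B ⟶ A'') (f' : A' ⟶ A) (f'' : A'' ⟶ A)
    (h : Art.IsFibreProd p' p'' f' f'') (hs : Function.Surjective f'') : Function.Bijective (cmp F h) := by
  refine (surjective_induction (fun A D (f : D ⟶ A) => Function.Surjective f ∧
    ∀ ⦃B A' : Art Λ k⦄ (p' : B ⟶ A') (p'' : B ⟶ D) (f' : A' ⟶ A) (h : Art.IsFibreProd p' p'' f' f),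
      Function.Bijective (cmp F h)) ?_ ?_ ?_ f'' hs).2 p' p'' f' h
  · intro A D e he
    exact ⟨(bijective_of_isIso e).2, fun B A' p' p'' f' h => bijective_cmp_of_isIso h⟩
  · intro A D e he
    exact ⟨he.1, fun B A' p' p'' f' h => hS p' p'' f' e h he⟩
  · intro A C D p q hp hq
    exact ⟨hq.1.comp hp.1, fun B A' p' p'' f' h =>
      ⟨injective_cmp_comp hq.1 (fun _ _ a b c d => (hp.2 a b c d).1) (fun _ _ a b c d => (hq.2 a b c d).1) p' p'' f' h,
       surjective_cmp_comp hq.1 (fun _ _ a b c d => (hp.2 a b c d).2) (fun _ _ a b c d => (hq.2 a b c d).2) p' p'' f' h⟩⟩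

end Groth.Agent.ArtKit
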