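import Groth.Agent.ArtKit.PolyRing
import Groth.Agent.ArtKit.Cotangent

/-!
# Presentations, coproducts and pushouts of coefficient rings
-/

set_option autoImplicit false
universe u v

open CategoryTheory ArtFun IsLocalRing

namespace Groth.Agent.ArtKit

variable {Λ : Type u} {k : Type u} [CommRing Λ] [Field k] [Algebra Λ k] [IsNoetherianRing Λ] [Module.Finite Λ k]

variable (Λ k) in
/-- Finitely many values generating `k`. -/
theorem exists_generators : ∃ (r : ℕ) (c : Fin r → k), Function.Surjective (MvPolynomial.aeval (R := Λ) c) := by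
  obtain ⟨gs, hgs⟩ := (‹Module.Finite Λ k›).fg_top
  let c : Fin gs.card → k := fun i => (gs.equivFin.symm i : k)
  refine ⟨gs.card, c, fun a => ?_⟩
  have hle : Submodule.span Λ (gs : Set k) ≤ LinearMap.range (MvPolynomial.aeval (R := Λ) c).toLinearMap :=
    Submodule.span_le.2 fun g hg => ⟨MvPolynomial.X (gs.equivFin ⟨g, hg⟩), by simp [c]⟩
  exact hle (hgs ▸ Submodule.mem_top)

/-- Every coefficient ring is a quotient of a completed polynomial algebra, which is formally smooth. -/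
theorem exists_presentation' (R : CRing Λ k) :
    ∃ (n : ℕ) (c : Fin n → k) (_ : Function.Surjective (MvPolynomial.aeval (R := Λ) c)) (S : CRing Λ k)
      (x : Fin n → S.carrier) (_ : IsPolyRing c S x) (π : S.carrier →ₐ[Λ] R.carrier),
      R.res.comp π = S.res ∧ Function.Surjective π ∧
        CAlgX.IsAdicFormallySmooth Λ S.carrier (maximalIdeal S.carrier) := by
  classical
  obtain ⟨r, c₀, hc₀⟩ := exists_generators Λ k
  obtain ⟨d, g, hg⟩ := Submodule.fg_iff_exists_fin_generating_family.1 (IsNoetherian.noetherian (maximalIdeal R.carrier))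
  choose l hl using fun i => R.res_surjective (c₀ i)
  let t : Fin (r + d) → R.carrier := Fin.append l g
  let c : Fin (r + d) → k := fun i => R.res (t i)
  have hc : Function.Surjective (MvPolynomial.aeval (R := Λ) c) := fun a => by
    obtain ⟨f, rfl⟩ := hc₀ a
    refine ⟨MvPolynomial.rename (Fin.castAdd d) f, ?_⟩
    rw [MvPolynomial.aeval_rename]
    congr 1
    ext i
    simp [c, t, hl]
  obtain ⟨S, x, hS, hfs⟩ := exists_polyRing' c hc
  obtain ⟨π, ⟨hπ, hπx⟩, -⟩ := hS.existsUnique_toCRing R t fun i => rfl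
  refine ⟨_, c, hc, S, x, hS, π, hπ, ?_, hfs⟩
  have := S.isAdicComplete
  refine ((surjective_tfae_cotangent S.res_surjective R.res_surjective π hπ).out 1 0).1 ?_
  refine le_antisymm (sup_le (map_maximalIdeal_le S.res_surjective R.res_surjective π hπ) (Ideal.pow_le_self two_ne_zero))
    (le_sup_of_le_left ?_)
  have hgm : Ideal.span (Set.range g) = maximalIdeal R.carrier := hg
  conv_lhs => rw [← hgm]
  rw [Ideal.span_le]
  rintro _ ⟨j, rfl⟩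
  have he : g j = π (x (Fin.natAdd r j)) := by rw [hπx]; simp [t]
  rw [SetLike.mem_coe, he]
  refine Ideal.mem_map_of_mem _ ?_
  rw [CRing.mem_maximalIdeal_iff, ← DFunLike.congr_fun hπ, AlgHom.comp_apply, ← he, ← CRing.mem_maximalIdeal_iff,
    ← hgm]
  exact Ideal.subset_span ⟨j, rfl⟩

/-- Every coefficient ring is a quotient of a completed polynomial algebra. -/
theorem exists_presentation (R : CRing Λ k) :
    ∃ (n : ℕ) (c : Fin n → k) (_ : Function.Surjective (MvPolynomial.aeval (R := Λ) c)) (S : CRing Λ k)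
      (x : Fin n → S.carrier) (_ : IsPolyRing c S x) (π : S.carrier →ₐ[Λ] R.carrier),
      R.res.comp π = S.res ∧ Function.Surjective π :=
  let ⟨n, c, hc, S, x, hS, π, hπ, hs, _⟩ := exists_presentation' R
  ⟨n, c, hc, S, x, hS, π, hπ, hs⟩

/-- A coproduct of two coefficient rings subject to prescribed identifications. -/
theorem exists_coprod_rel (S₁ S₂ : CRing Λ k) (Rel : Set (S₁.carrier × S₂.carrier))
    (hRel : ∀ p ∈ Rel, S₁.res p.1 = S₂.res p.2) :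
    ∃ (P : CRing Λ k) (i₁ : S₁.carrier →ₐ[Λ] P.carrier) (i₂ : S₂.carrier →ₐ[Λ] P.carrier),
      P.res.comp i₁ = S₁.res ∧ P.res.comp i₂ = S₂.res ∧ (∀ p ∈ Rel, i₁ p.1 = i₂ p.2) ∧
      ∀ (T : CRing Λ k) (g₁ : S₁.carrier →ₐ[Λ] T.carrier) (g₂ : S₂.carrier →ₐ[Λ] T.carrier),
        T.res.comp g₁ = S₁.res → T.res.comp g₂ = S₂.res → (∀ p ∈ Rel, g₁ p.1 = g₂ p.2) →
          ∃! h : P.carrier →ₐ[Λ] T.carrier, T.res.comp h = P.res ∧ h.comp i₁ = g₁ ∧ h.comp i₂ = g₂ := by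
  classical
  obtain ⟨n₁, c₁, hc₁, A₁, x₁, hA₁, π₁, hπ₁, hπ₁s⟩ := exists_presentation S₁
  obtain ⟨n₂, c₂, hc₂, A₂, x₂, hA₂, π₂, hπ₂, hπ₂s⟩ := exists_presentation S₂
  have hc : Function.Surjective (MvPolynomial.aeval (R := Λ) (Sum.elim c₁ c₂)) := fun a => by
    obtain ⟨f, rfl⟩ := hc₁ a
    exact ⟨MvPolynomial.rename Sum.inl f, by rw [MvPolynomial.aeval_rename]; rfl⟩
  obtain ⟨U, z, hU⟩ := exists_polyRing (Sum.elim c₁ c₂) hc
  obtain ⟨j₁, ⟨hj₁, hj₁x⟩, -⟩ := hA₁.existsUnique_toCRing U (fun i => z (Sum.inl i)) fun i => hU.1 _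
  obtain ⟨j₂, ⟨hj₂, hj₂x⟩, -⟩ := hA₂.existsUnique_toCRing U (fun i => z (Sum.inr i)) fun i => hU.1 _
  let rel : Set U.carrier := (j₁ '' (RingHom.ker π₁ : Set A₁.carrier)) ∪ (j₂ '' (RingHom.ker π₂ : Set A₂.carrier)) ∪
    {w | ∃ a b, (π₁ a, π₂ b) ∈ Rel ∧ j₁ a - j₂ b = w}
  have hres₁ : ∀ a, U.res (j₁ a) = S₁.res (π₁ a) := fun a =>
    (DFunLike.congr_fun hj₁ a).trans (DFunLike.congr_fun hπ₁ a).symm
  have hres₂ : ∀ a, U.res (j₂ a) = S₂.res (π₂ a) := fun a =>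
    (DFunLike.congr_fun hj₂ a).trans (DFunLike.congr_fun hπ₂ a).symm
  have hJ : Ideal.span rel ≤ maximalIdeal U.carrier := Ideal.span_le.2 (by
    rintro w ((⟨a, ha, rfl⟩ | ⟨a, ha, rfl⟩) | ⟨a, b, hab, rfl⟩) <;> rw [SetLike.mem_coe, CRing.mem_maximalIdeal_iff]
    · rw [hres₁, RingHom.mem_ker.1 ha, map_zero]
    · rw [hres₂, RingHom.mem_ker.1 ha, map_zero]
    · rw [map_sub, hres₁, hres₂, sub_eq_zero]; exact hRel _ hab)
  obtain ⟨P, q, hq, hqs, hqk⟩ := exists_quotient U _ hJ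
  have hz : ∀ w ∈ rel, q w = 0 := fun w hw => RingHom.mem_ker.1 (hqk.ge (Ideal.subset_span hw) : w ∈ RingHom.ker q)
  let i₁ := AlgHom.liftOfSurjective π₁ hπ₁s (q.comp j₁)
    fun a ha => RingHom.mem_ker.2 (hz (j₁ a) (Or.inl (Or.inl ⟨a, ha, rfl⟩)))
  let i₂ := AlgHom.liftOfSurjective π₂ hπ₂s (q.comp j₂)
    fun a ha => RingHom.mem_ker.2 (hz (j₂ a) (Or.inl (Or.inr ⟨a, ha, rfl⟩)))
  have hi₁ : ∀ a, i₁ (π₁ a) = q (j₁ a) := AlgHom.liftOfSurjective_apply π₁ hπ₁s _ _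
  have hi₂ : ∀ a, i₂ (π₂ a) = q (j₂ a) := AlgHom.liftOfSurjective_apply π₂ hπ₂s _ _
  refine ⟨P, i₁, i₂, AlgHom.ext fun s => ?_, AlgHom.ext fun s => ?_, ?_, fun T g₁ g₂ hg₁ hg₂ hgR => ?_⟩
  · obtain ⟨a, rfl⟩ := hπ₁s s
    rw [AlgHom.comp_apply, hi₁, ← AlgHom.comp_apply, hq, hres₁]
  · obtain ⟨a, rfl⟩ := hπ₂s s
    rw [AlgHom.comp_apply, hi₂, ← AlgHom.comp_apply, hq, hres₂]
  · rintro ⟨s₁, s₂⟩ hs
    obtain ⟨a, rfl⟩ := hπ₁s s₁
    obtain ⟨b, rfl⟩ := hπ₂s s₂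
    rw [hi₁, hi₂, ← sub_eq_zero, ← map_sub]
    exact hz _ (Or.inr ⟨a, b, hs, rfl⟩)
  have hv : ∀ i, T.res (Sum.elim (fun i => g₁ (π₁ (x₁ i))) (fun i => g₂ (π₂ (x₂ i))) i) = Sum.elim c₁ c₂ i := by
    rintro (i | i)
    · exact (DFunLike.congr_fun hg₁ _).trans ((DFunLike.congr_fun hπ₁ _).trans (hA₁.1 i))
    · exact (DFunLike.congr_fun hg₂ _).trans ((DFunLike.congr_fun hπ₂ _).trans (hA₂.1 i))
  obtain ⟨G, ⟨hG, hGz⟩, hGu⟩ := hU.existsUnique_toCRing T _ hv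
  have hGj₁ : G.comp j₁ = g₁.comp π₁ := (hA₁.existsUnique_toCRing T (fun i => g₁ (π₁ (x₁ i))) fun i => hv (Sum.inl i)).unique
    ⟨by rw [← AlgHom.comp_assoc, hG, hj₁], fun i => by rw [AlgHom.comp_apply, hj₁x, hGz]; rfl⟩
    ⟨by rw [← AlgHom.comp_assoc, hg₁, hπ₁], fun i => rfl⟩
  have hGj₂ : G.comp j₂ = g₂.comp π₂ := (hA₂.existsUnique_toCRing T (fun i => g₂ (π₂ (x₂ i))) fun i => hv (Sum.inr i)).unique
    ⟨by rw [← AlgHom.comp_assoc, hG, hj₂], fun i => by rw [AlgHom.comp_apply, hj₂x, hGz]; rfl⟩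
    ⟨by rw [← AlgHom.comp_assoc, hg₂, hπ₂], fun i => rfl⟩
  have hle : RingHom.ker q ≤ RingHom.ker G := by
    rw [hqk, Ideal.span_le]
    rintro w ((⟨a, ha, rfl⟩ | ⟨a, ha, rfl⟩) | ⟨a, b, hab, rfl⟩) <;> rw [SetLike.mem_coe, RingHom.mem_ker]
    · rw [← AlgHom.comp_apply, hGj₁, AlgHom.comp_apply, RingHom.mem_ker.1 ha, map_zero]
    · rw [← AlgHom.comp_apply, hGj₂, AlgHom.comp_apply, RingHom.mem_ker.1 ha, map_zero]
    · rw [map_sub, ← AlgHom.comp_apply, ← AlgHom.comp_apply, hGj₁, hGj₂, sub_eq_zero]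
      exact hgR _ hab
  let h := AlgHom.liftOfSurjective q hqs G hle
  have hh : ∀ w, h (q w) = G w := AlgHom.liftOfSurjective_apply q hqs _ _
  refine ⟨h, ⟨AlgHom.ext fun p => ?_, AlgHom.ext fun s => ?_, AlgHom.ext fun s => ?_⟩, fun h' ⟨hh', h1, h2⟩ => ?_⟩
  · obtain ⟨w, rfl⟩ := hqs p
    rw [AlgHom.comp_apply, hh, ← AlgHom.comp_apply, hG, ← AlgHom.comp_apply, hq]
  · obtain ⟨a, rfl⟩ := hπ₁s s
    rw [AlgHom.comp_apply, hi₁, hh]
    exact DFunLike.congr_fun hGj₁ a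
  · obtain ⟨a, rfl⟩ := hπ₂s s
    rw [AlgHom.comp_apply, hi₂, hh]
    exact DFunLike.congr_fun hGj₂ a
  · refine AlgHom.ext fun p => ?_
    obtain ⟨w, rfl⟩ := hqs p
    rw [hh, ← AlgHom.comp_apply]
    refine DFunLike.congr_fun (hGu _ ⟨by rw [← AlgHom.comp_assoc, hh', hq], ?_⟩) w
    rintro (i | i)
    · rw [AlgHom.comp_apply, ← hj₁x, ← hi₁, ← AlgHom.comp_apply h', h1]; rfl
    · rw [AlgHom.comp_apply, ← hj₂x, ← hi₂, ← AlgHom.comp_apply h', h2]; rfl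

end Groth.Agent.ArtKit
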