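import Groth.Agent.ArtKit.Basic

/-!
# Versal families: `H0`, (S1) and `Heps`; lifts of maps into fibre products
-/

set_option autoImplicit false
universe u v

open CategoryTheory ArtFun

namespace Groth.Agent.ArtKit

variable {Λ : Type u} {k : Type u} [CommRing Λ] [Field k] [Algebra Λ k]
  {R : Type u} [CommRing R] [Algebra Λ R] {resR : R →ₐ[Λ] k} {F : Art Λ k ⥤ Type v}

lemma homSet_map_apply {A B : Art Λ k} (f : A ⟶ B) (φ : HomSet R resR A) (r : R) :
    (HomSet.map f φ).1 r = f (φ.1 r) := rfl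

lemma homSet_map_comp {A B C : Art Λ k} (f : A ⟶ B) (g : B ⟶ C) (φ : HomSet R resR A) :
    HomSet.map (f ≫ g) φ = HomSet.map g (HomSet.map f φ) := Subtype.ext (AlgHom.ext fun _ => rfl)

lemma homSet_res_app {A : Art Λ k} (φ : HomSet R resR A) (r : R) : A.res (φ.1 r) = resR r :=
  DFunLike.congr_fun φ.2 r

/-- The point of `h_R(k)`. -/
def homSetBase : HomSet R resR (Art.base Λ k) := ⟨resR, AlgHom.id_comp _⟩

lemma subsingleton_homSet_base : Subsingleton (HomSet R resR (Art.base Λ k)) :=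
  ⟨fun φ ψ => Subtype.ext (AlgHom.ext fun r => (homSet_res_app φ r).trans (homSet_res_app ψ r).symm)⟩

/-- `h_R` is left exact. -/
theorem homSet_exists_lift {B A A' A'' : Art Λ k} {p' : B ⟶ A'} {p'' : B ⟶ A''} {f' : A' ⟶ A} {f'' : A'' ⟶ A}
    (h : Art.IsFibreProd p' p'' f' f'') (φ' : HomSet R resR A') (φ'' : HomSet R resR A'')
    (e : HomSet.map f' φ' = HomSet.map f'' φ'') :
    ∃ ψ : HomSet R resR B, HomSet.map p' ψ = φ' ∧ HomSet.map p'' ψ = φ'' := by
  choose l hl' hl'' using fun r => h.surj (φ'.1 r) (φ''.1 r) (DFunLike.congr_fun (congrArg Subtype.val e) r)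
  let L : R →ₐ[Λ] B :=
    { toFun := l
      map_one' := h.inj _ _ (by rw [hl', map_one, map_one]) (by rw [hl'', map_one, map_one])
      map_mul' := fun x y => h.inj _ _ (by simp only [hl', map_mul]) (by simp only [hl'', map_mul])
      map_zero' := h.inj _ _ (by rw [hl', map_zero, map_zero]) (by rw [hl'', map_zero, map_zero])
      map_add' := fun x y => h.inj _ _ (by simp only [hl', map_add]) (by simp only [hl'', map_add])
      commutes' := fun r => h.inj _ _ (by rw [hl', AlgHom.commutes, AlgHom.commutes])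
        (by rw [hl'', AlgHom.commutes, AlgHom.commutes]) }
  refine ⟨⟨L, AlgHom.ext fun r => ?_⟩, Subtype.ext (AlgHom.ext hl'), Subtype.ext (AlgHom.ext hl'')⟩
  show B.res (l r) = resR r
  rw [← Art.res_app p', hl', homSet_res_app]

theorem homSet_ext {B A A' A'' : Art Λ k} {p' : B ⟶ A'} {p'' : B ⟶ A''} {f' : A' ⟶ A} {f'' : A'' ⟶ A}
    (h : Art.IsFibreProd p' p'' f' f'') {ψ₁ ψ₂ : HomSet R resR B}
    (h' : HomSet.map p' ψ₁ = HomSet.map p' ψ₂) (h'' : HomSet.map p'' ψ₁ = HomSet.map p'' ψ₂) : ψ₁ = ψ₂ :=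
  Subtype.ext (AlgHom.ext fun r => h.inj _ _ (DFunLike.congr_fun (congrArg Subtype.val h') r)
    (DFunLike.congr_fun (congrArg Subtype.val h'') r))

variable {ξ : Family R resR F}

theorem h0_of_surjective (hs : Function.Surjective (ξ.app (Art.base Λ k))) : H0 F := by
  refine ⟨⟨ξ.app _ homSetBase⟩, ⟨fun x y => ?_⟩⟩
  obtain ⟨φ, rfl⟩ := hs x
  obtain ⟨ψ, rfl⟩ := hs y
  rw [subsingleton_homSet_base.elim φ ψ]

theorem surjective_app (hξ : IsVersal ξ) (h0 : H0 F) (A : Art Λ k) : Function.Surjective (ξ.app A) := fun y => by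
  obtain ⟨ψ, -, h⟩ := hξ (Art.toBase A) A.res_surjective homSetBase y (h0.2.elim _ _)
  exact ⟨ψ, h⟩

theorem s1_of_isVersal (hξ : IsVersal ξ) (hs : ∀ A, Function.Surjective (ξ.app A)) : S1 F := by
  intro B A A' A'' p' p'' f' f'' h hf
  refine (surjective_cmp_iff h).2 fun x' x'' e => ?_
  obtain ⟨φ', rfl⟩ := hs A' x'
  obtain ⟨φ'', h1, h2⟩ := hξ f'' hf (HomSet.map f' φ') x'' (by rw [ξ.natural, e])
  obtain ⟨ψ, hψ', hψ''⟩ := homSet_exists_lift h φ' φ'' h1.symm
  exact ⟨ξ.app B ψ, by rw [← ξ.natural, hψ'], by rw [← ξ.natural, hψ'', h2]⟩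

theorem heps_of_isMiniversal (hξ : IsMiniversal ξ) (hs : ∀ A, Function.Surjective (ξ.app A)) : Heps F := by
  intro B A' p' p'' h
  refine ⟨(injective_cmp_iff h).2 fun z₁ z₂ e₁ e₂ => ?_,
    s1_of_isVersal hξ.1 hs p' p'' _ _ h (Art.dual Λ k).res_surjective⟩
  obtain ⟨ψ₁, rfl⟩ := hs B z₁
  obtain ⟨ψ₂, h1, rfl⟩ := hξ.1 p' (surjective_fst_of_isFibreProd h (Art.dual Λ k).res_surjective)
    (HomSet.map p' ψ₁) z₂ (by rw [ξ.natural, e₁])
  congr 1
  refine homSet_ext h h1.symm (hξ.2.1 ?_)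
  rw [ξ.natural, ξ.natural, e₂]

end Groth.Agent.ArtKit
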