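import Groth.Prelude.Def_ArtFun5
import Groth.Agent.ArtKit.Versal
import Mathlib.RingTheory.AdicCompletion.RingHom

/-!
# Formal elements

Maps into a complete ring from compatible maps into its truncations; families are determined by, and come from,
their formal elements; versality produces maps of coefficient rings.
-/

set_option autoImplicit false
universe u v

open CategoryTheory ArtFun IsLocalRing

namespace Groth.Agent.ArtKit

variable {Λ : Type u} {k : Type u} [CommRing Λ] [Field k] [Algebra Λ k]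
  {R : Type u} [CommRing R] [Algebra Λ R] {resR : R →ₐ[Λ] k}

lemma truncMap_surjective (S : CRing Λ k) (n : ℕ) : Function.Surjective (S.truncMap n) := fun y => by
  obtain ⟨a, rfl⟩ := Ideal.Quotient.mk_surjective (I := CRing.mpow S n) y
  exact ⟨Ideal.Quotient.mk _ a, rfl⟩

theorem exists_algHom_of_truncs (S : CRing Λ k) (h : ∀ n, HomSet R resR (S.trunc n))
    (hh : ∀ n, HomSet.map (S.truncMap n) (h (n + 1)) = h n) :
    ∃ g : R →ₐ[Λ] S.carrier, S.res.comp g = resR ∧ ∀ n, (S.truncHom n).1.comp g = (h n).1 := by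
  have := S.isAdicComplete
  let f : (n : ℕ) → R →+* S.carrier ⧸ maximalIdeal S.carrier ^ (n + 1) := fun n => (h n).1.toRingHom
  let g := IsAdicComplete.StrictMono.liftRingHom (maximalIdeal S.carrier) (a := fun n => n + 1)
    (fun _ _ h => Nat.succ_lt_succ h) f (fun {n} => RingHom.ext fun r => by
      show S.truncMap n ((h (n + 1)).1 r) = (h n).1 r
      exact DFunLike.congr_fun (congrArg Subtype.val (hh n)) r)
  have hg : ∀ n r, Ideal.Quotient.mk (maximalIdeal S.carrier ^ (n + 1)) (g r) = (h n).1 r := fun n r =>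
    IsAdicComplete.StrictMono.mk_liftRingHom _ _ f _ r
  refine ⟨{ g with commutes' := fun l => ?_ }, AlgHom.ext fun r => ?_, fun n => AlgHom.ext (hg n)⟩
  · show g (algebraMap Λ R l) = algebraMap Λ S.carrier l
    refine sub_eq_zero.1 (IsHausdorff.haus (I := maximalIdeal S.carrier) inferInstance _ fun n => ?_)
    rw [SModEq.sub_mem, sub_zero, smul_eq_mul, Ideal.mul_top]
    refine Ideal.pow_le_pow_right (Nat.le_succ n) ((Ideal.Quotient.eq).1 ((hg n _).trans ?_))
    rw [AlgHom.commutes]
    rfl
  · show S.res (g r) = resR r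
    rw [← homSet_res_app (h 0) r, ← hg 0 r]
    rfl

theorem algHom_ext_truncs {S : CRing Λ k} {g₁ g₂ : R →ₐ[Λ] S.carrier}
    (h : ∀ n, (S.truncHom n).1.comp g₁ = (S.truncHom n).1.comp g₂) : g₁ = g₂ := by
  have := S.isAdicComplete
  refine AlgHom.ext fun r => sub_eq_zero.1 (IsHausdorff.haus (I := maximalIdeal S.carrier) inferInstance _ fun n => ?_)
  rw [SModEq.sub_mem, sub_zero, smul_eq_mul, Ideal.mul_top]
  exact Ideal.pow_le_pow_right (Nat.le_succ n) (Ideal.Quotient.eq.1 (DFunLike.congr_fun (h n) r))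

theorem exists_factor_trunc (S : CRing Λ k) {A : Art Λ k} (φ : HomSet S.carrier S.res A) (N : ℕ)
    (hN : maximalIdeal A ^ (N + 1) = ⊥) :
    ∃ m : S.trunc N ⟶ A, HomSet.map m (S.truncHom N) = φ := by
  have hle : CRing.mpow S N ≤ RingHom.ker φ.1 := by
    intro x hx
    have h1 : maximalIdeal S.carrier ≤ (maximalIdeal A).comap φ.1 := fun y hy => by
      rw [Ideal.mem_comap, Art.mem_maximalIdeal_iff, homSet_res_app]
      exact (CRing.mem_maximalIdeal_iff S y).1 hy
    have := Ideal.le_comap_pow (φ.1) (N + 1) (Ideal.pow_right_mono h1 (N + 1) hx)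
    rwa [hN] at this
  refine ⟨⟨Ideal.Quotient.liftₐ (CRing.mpow S N) φ.1 (fun a ha => hle ha), ?_⟩, Subtype.ext (AlgHom.ext fun _ => rfl)⟩
  refine AlgHom.ext fun x => ?_
  obtain ⟨a, rfl⟩ := Ideal.Quotient.mk_surjective (I := CRing.mpow S N) x
  exact homSet_res_app φ a

lemma exists_pow_succ (A : Art Λ k) : ∃ N, maximalIdeal A ^ (N + 1) = ⊥ := by
  obtain ⟨n, hn⟩ := (isArtinianRing_iff_isNilpotent_maximalIdeal A).1 inferInstance
  exact ⟨n, by rw [pow_succ, hn]; exact zero_mul _⟩

variable {F : Art Λ k ⥤ Type v}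

/-- Families are determined by their formal elements. -/
theorem family_app_eq {S : CRing Λ k} {ξ ξ' : Family S.carrier S.res F} (h : ξ.toFormalElt = ξ'.toFormalElt)
    (A : Art Λ k) (φ : HomSet S.carrier S.res A) : ξ.app A φ = ξ'.app A φ := by
  obtain ⟨N, hN⟩ := exists_pow_succ A
  obtain ⟨m, rfl⟩ := exists_factor_trunc S φ N hN
  rw [ξ.natural, ξ'.natural]
  exact congrArg (F.map m) (congrArg (fun u : FormalElt F S => u.elt N) h)

lemma truncHom_surjective (S : CRing Λ k) (n : ℕ) : Function.Surjective (S.truncHom n).1 :=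
  Ideal.Quotient.mk_surjective

lemma map_elt_eq {S : CRing Λ k} (η : FormalElt F S) {A : Art Λ k} {n : ℕ} : ∀ (d : ℕ)
    (m : S.trunc n ⟶ A) (m' : S.trunc (n + d) ⟶ A),
    HomSet.map m' (S.truncHom (n + d)) = HomSet.map m (S.truncHom n) →
      F.map m' (η.elt (n + d)) = F.map m (η.elt n) := by
  intro d
  induction d with
  | zero =>
    intro m m' e
    have hmm : (m' : S.trunc n ⟶ A) = m := Art.hom_ext (AlgHom.ext fun (y : S.trunc n) => by
      obtain ⟨a, rfl⟩ := truncHom_surjective S n y
      exact DFunLike.congr_fun (congrArg Subtype.val e) a)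
    exact congrArg (fun j : S.trunc n ⟶ A => F.map j (η.elt n)) hmm
  | succ d ih =>
    intro m m' e
    have hle : ∀ y, S.truncMap (n + d) y = 0 → m' y = 0 := fun y hy => by
      obtain ⟨a, rfl⟩ := truncHom_surjective S (n + (d + 1)) y
      refine (DFunLike.congr_fun (congrArg Subtype.val e) a).trans ?_
      have ha : a ∈ CRing.mpow S (n + d) := Ideal.Quotient.eq_zero_iff_mem.1 hy
      show m (Ideal.Quotient.mk (CRing.mpow S n) a) = 0
      rw [Ideal.Quotient.eq_zero_iff_mem.2 (Ideal.pow_le_pow_right (by omega) ha)]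
      exact map_zero m.toAlgHom
    let t := AlgHom.liftOfSurjective (S.truncMap (n + d)).toAlgHom (truncMap_surjective S _) m'.toAlgHom
      (fun y hy => RingHom.mem_ker.2 (hle y (RingHom.mem_ker.1 hy)))
    have ht : ∀ y, t (S.truncMap (n + d) y) = m' y := fun y => AlgHom.liftOfSurjective_apply _ _ _ _ y
    let t' : S.trunc (n + d) ⟶ A := Art.homMk t (AlgHom.ext fun y => by
      obtain ⟨z, rfl⟩ := truncMap_surjective S (n + d) y
      exact (congrArg A.res (ht z)).trans ((Art.res_app m' z).trans (Art.res_app _ z).symm))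
    have hm : S.truncMap (n + d) ≫ t' = m' := Art.hom_ext (AlgHom.ext ht)
    rw [← hm]
    refine ((map_comp_app F _ _ _).trans (congrArg (F.map t') (η.compat (n + d)))).trans (ih m t' ?_)
    refine Eq.trans ?_ ((congrArg (fun j => HomSet.map j (S.truncHom (n + d + 1))) hm).trans e)
    exact ((homSet_map_comp _ _ _).trans (congrArg (HomSet.map t') (CRing.truncMap_truncHom S (n + d)))).symm

/-- Every formal element comes from a family. -/
theorem exists_family {S : CRing Λ k} (η : FormalElt F S) :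
    ∃ ξ : Family S.carrier S.res F, ξ.toFormalElt = η := by
  choose N hN using fun A : Art Λ k => exists_pow_succ A
  choose m hm using fun (A : Art Λ k) (φ : HomSet S.carrier S.res A) => exists_factor_trunc S φ (N A) (hN A)
  have key : ∀ {A : Art Λ k} (φ : HomSet S.carrier S.res A) (n : ℕ) (m' : S.trunc n ⟶ A),
      HomSet.map m' (S.truncHom n) = φ → F.map (m A φ) (η.elt (N A)) = F.map m' (η.elt n) := by
    intro A φ n m' e
    have aux : ∀ (M : ℕ) (j : S.trunc M ⟶ A), HomSet.map j (S.truncHom M) = φ →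
        F.map j (η.elt M) = F.map m' (η.elt n) := fun M j hj => by
      rcases le_total n M with h | h
      · obtain ⟨d, rfl⟩ := Nat.exists_eq_add_of_le h
        exact map_elt_eq η d m' j (hj.trans e.symm)
      · obtain ⟨d, rfl⟩ := Nat.exists_eq_add_of_le h
        exact (map_elt_eq η d j m' (e.trans hj.symm)).symm
    exact aux _ _ (hm A φ)
  refine ⟨{ app := fun A φ => F.map (m A φ) (η.elt (N A)), natural := fun {A B} f φ => ?_ },
    FormalElt.ext' fun n => ?_⟩
  · rw [key (HomSet.map f φ) (N A) (m A φ ≫ f) (by rw [homSet_map_comp, hm]), map_comp_app]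
  · refine (key (S.truncHom n) n (𝟙 _) (Subtype.ext (AlgHom.ext fun _ => rfl))).trans ?_
    exact map_id_app F _

/-- A formal element over `S` is pulled back from a versal family. -/
theorem exists_along_eq (h0 : H0 F) {ξ : Family R resR F} (hξ : IsVersal ξ) (S : CRing Λ k) (η : FormalElt F S) :
    ∃ (g : R →ₐ[Λ] S.carrier) (hg : S.res.comp g = resR), (ξ.along g hg).toFormalElt = η := by
  let base : {φ : HomSet R resR (S.trunc 0) // ξ.app _ φ = η.elt 0} :=
    ⟨_, (surjective_app hξ h0 _ (η.elt 0)).choose_spec⟩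
  let step : ∀ n, {φ : HomSet R resR (S.trunc n) // ξ.app _ φ = η.elt n} →
      {φ : HomSet R resR (S.trunc (n + 1)) // ξ.app _ φ = η.elt (n + 1)} := fun n φ =>
    ⟨_, (hξ (S.truncMap n) (truncMap_surjective S n) φ.1 (η.elt (n + 1))
      ((η.compat n).trans φ.2.symm)).choose_spec.2⟩
  let h : ∀ n, {φ : HomSet R resR (S.trunc n) // ξ.app _ φ = η.elt n} := fun n => Nat.rec base step n
  obtain ⟨g, hg, hgn⟩ := exists_algHom_of_truncs S (fun n => (h n).1) fun n =>
    (hξ (S.truncMap n) (truncMap_surjective S n) (h n).1 (η.elt (n + 1))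
      ((η.compat n).trans (h n).2.symm)).choose_spec.1
  refine ⟨g, hg, FormalElt.ext' fun n => ?_⟩
  refine Eq.trans ?_ (h n).2
  exact congrArg (ξ.app _) (Subtype.ext (hgn n))

end Groth.Agent.ArtKit
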