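import Groth.Agent.ArtKit.Cotangent
import Groth.Agent.ArtKit.HomDer
import Groth.Agent.ArtKit.Formal
import Groth.Agent.ArtFib.Basic
import Mathlib.RingTheory.Kaehler.Basic
import Mathlib.LinearAlgebra.Dual.Lemmas

/-!
# Essential surjections
-/

set_option autoImplicit false
universe u

noncomputable section
open CategoryTheory IsLocalRing ArtFun
open scoped TensorProduct

namespace Groth.Agent.ArtKit

variable {Λ : Type u} {k : Type u} [CommRing Λ] [Field k] [Algebra Λ k]

/-- Essential surjections are the surjections through which every derivation into `k` factors. -/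
theorem essential_iff [IsNoetherianRing Λ] [Module.Finite Λ k] {A B : Art Λ k} (f : B ⟶ A) :
    letI : Algebra B k := B.res.toRingHom.toAlgebra
    (Function.Surjective f ∧ ∀ (C : Art Λ k) (g : C ⟶ B), Function.Surjective (g ≫ f) → Function.Surjective g) ↔
      (Function.Surjective f ∧ ∀ D : Derivation Λ B k, ∀ x, f x = 0 → D x = 0) := by
  let _ : Algebra B k := B.res.toRingHom.toAlgebra
  have : IsScalarTower Λ B k := IsScalarTower.of_algebraMap_eq fun l => (B.res.commutes l).symm
  have hsm : ∀ (b : B) (c : k), b • c = B.res b * c := fun b c => rfl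
  constructor
  · rintro ⟨hf, hess⟩
    refine ⟨hf, fun D x hx => ?_⟩
    by_contra hne
    let g : B ⟶ Art.dual Λ k := Art.homMk (homOfDer D).1 (homOfDer D).2
    have hgD : ∀ b, TrivSqZeroExt.snd (g b) = D b := fun b => rfl
    have hgf : ∀ b, TrivSqZeroExt.fst (g b) = B.res b := fun b => rfl
    have hxm : B.res x = 0 := by rw [← Art.res_app f, hx, map_zero]
    have hfix : ∀ b : B, ∃ b', f b' = f b ∧ D b' = 0 := fun b => by
      obtain ⟨c, hc⟩ := B.res_surjective (D b / D x)
      refine ⟨b - c * x, by rw [map_sub, map_mul, hx, mul_zero, sub_zero], ?_⟩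
      rw [map_sub, Derivation.leibniz, hsm, hsm, hxm, zero_mul, add_zero, hc, div_mul_cancel₀ _ hne, sub_self]
    obtain ⟨C, p₁, p₂, hC⟩ := ArtFib.exists_isFibreProd_of g (Art.baseToDual : Art.base Λ k ⟶ Art.dual Λ k) fun α => by
      obtain ⟨b, hb⟩ := B.res_surjective α
      obtain ⟨b', hb₁, hb₂⟩ := hfix b
      refine ⟨b', α, by rw [← Art.res_app f, hb₁, Art.res_app, hb], TrivSqZeroExt.ext ?_ ((hgD b').trans hb₂)⟩
      rw [hgf, ← Art.res_app f b', hb₁, Art.res_app, hb]
      rfl
    have hp : ∀ b, D b = 0 → ∃ z, p₁ z = b := fun b hb => by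
      obtain ⟨z, hz, -⟩ := hC.surj b (B.res b) (TrivSqZeroExt.ext (hgf b) ((hgD b).trans hb))
      exact ⟨z, hz⟩
    have hs := hess C p₁ fun a => by
      obtain ⟨b, rfl⟩ := hf a
      obtain ⟨b', hb₁, hb₂⟩ := hfix b
      obtain ⟨z, hz⟩ := hp b' hb₂
      exact ⟨z, (congrArg f.toAlgHom hz).trans hb₁⟩
    obtain ⟨z, rfl⟩ := hs x
    exact hne ((hgD _).symm.trans (congrArg TrivSqZeroExt.snd (hC.w_apply z)))
  · rintro ⟨hf, hD⟩
    refine ⟨hf, fun C g hg => ?_⟩
    obtain ⟨N, hN⟩ := exists_pow_succ C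
    have := isPrecomplete_of_pow_eq_bot hN
    refine surjective_of_derivation_comp_injective C.res_surjective B.res_surjective g.toAlgHom
      (AlgHom.ext fun c => Art.res_app g c) fun D₁ D₂ h => ?_
    refine sub_eq_zero.1 (Derivation.ext fun b => ?_)
    obtain ⟨c, hc⟩ := hg (f b)
    have h1 : (D₁ - D₂) (b - g c) = 0 := hD _ _ (by rw [map_sub, sub_eq_zero]; exact hc.symm)
    have h2 : (D₁ - D₂) (g c) = 0 := by
      show D₁ (g c) - D₂ (g c) = 0
      rw [h, sub_self]
    rw [map_sub, h2, sub_zero] at h1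
    exact h1

end Groth.Agent.ArtKit
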