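import Groth.Agent.ArtKit.Formal
import Groth.Agent.ArtFib.Basic
import Mathlib.RingTheory.HopkinsLevitzki

/-!
# Idempotent limits of endomorphisms of objects
-/

set_option autoImplicit false
universe u v

noncomputable section
open CategoryTheory IsLocalRing ArtFun

namespace Groth.Agent.ArtKit

variable {Λ : Type u} {k : Type u} [CommRing Λ] [Field k] [Algebra Λ k]

/-- Objects have finite length over the base. -/
theorem isArtinian_base [IsNoetherianRing Λ] [Module.Finite Λ k] (A : Art Λ k) : IsArtinian Λ A := by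
  have hk : (RingHom.ker (algebraMap Λ k)).IsMaximal := by
    have : (RingHom.ker (algebraMap Λ k)).IsPrime := RingHom.ker_isPrime _
    refine Ideal.Quotient.maximal_of_isField _ ?_
    let : Algebra (Λ ⧸ RingHom.ker (algebraMap Λ k)) k := (RingHom.kerLift (algebraMap Λ k)).toAlgebra
    have : IsScalarTower Λ (Λ ⧸ RingHom.ker (algebraMap Λ k)) k := IsScalarTower.of_algebraMap_eq fun _ => rfl
    have : Module.Finite (Λ ⧸ RingHom.ker (algebraMap Λ k)) k :=
      Module.Finite.of_restrictScalars_finite Λ (Λ ⧸ RingHom.ker (algebraMap Λ k)) k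
    exact isField_of_isIntegral_of_isField (R := Λ ⧸ RingHom.ker (algebraMap Λ k))
      (RingHom.kerLift_injective (algebraMap Λ k)) (Field.toIsField k)
  have := ArtFib.module_finite A
  let I := RingHom.ker (algebraMap Λ A)
  let : Algebra (Λ ⧸ I) A := (RingHom.kerLift (algebraMap Λ A)).toAlgebra
  have : IsScalarTower Λ (Λ ⧸ I) A := IsScalarTower.of_algebraMap_eq fun _ => rfl
  have : Module.Finite (Λ ⧸ I) A := Module.Finite.of_restrictScalars_finite Λ (Λ ⧸ I) A
  have : Ring.KrullDimLE 0 (Λ ⧸ I) := Ring.KrullDimLE.mk₀ fun P hP => by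
    let q := P.comap (Ideal.Quotient.mk I)
    have hqp : q.IsPrime := Ideal.comap_isPrime (Ideal.Quotient.mk I) P
    have hq : RingHom.ker (algebraMap Λ k) ≤ q := fun a ha => by
      obtain ⟨n, hn⟩ := ArtFib.isNilpotent_of_res_eq_zero A (a := algebraMap Λ A a)
        ((A.res.commutes a).trans ha)
      refine hqp.mem_of_pow_mem n ?_
      have h' : a ^ n ∈ I := by rw [RingHom.mem_ker, map_pow, hn]
      show Ideal.Quotient.mk I (a ^ n) ∈ P
      rw [Ideal.Quotient.eq_zero_iff_mem.2 h']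
      exact zero_mem _
    have hmax : q.IsMaximal := (hk.eq_of_le hqp.ne_top hq) ▸ hk
    rw [← Ideal.map_comap_of_surjective _ Ideal.Quotient.mk_surjective P]
    exact (Ideal.map_eq_top_or_isMaximal_of_surjective _ Ideal.Quotient.mk_surjective hmax).resolve_left fun h =>
      hP.ne_top (by rw [← Ideal.map_comap_of_surjective _ Ideal.Quotient.mk_surjective P]; exact h)
  have : IsArtinianRing (Λ ⧸ I) := isArtinianRing_iff_krullDimLE_zero.2 inferInstance
  exact isArtinian_of_surjective_algebraMap (R := Λ ⧸ I) (S := Λ) Ideal.Quotient.mk_surjective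

/-- The iterates of an endomorphism. -/
def iter {A : Art Λ k} (g : A ⟶ A) : ℕ → (A ⟶ A) := fun n => Nat.rec (𝟙 A) (fun _ h => h ≫ g) n

lemma iter_add {A : Art Λ k} (g : A ⟶ A) (m n : ℕ) : iter g (m + n) = iter g m ≫ iter g n := by
  induction n with
  | zero => exact (Category.comp_id _).symm
  | succ n ih =>
    show iter g (m + n) ≫ g = iter g m ≫ iter g n ≫ g
    rw [ih, Category.assoc]

/-- The idempotent projection onto the eventual image. -/
theorem exists_idem [IsNoetherianRing Λ] [Module.Finite Λ k] {A : Art Λ k} (g : A ⟶ A) :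
    ∃ (N : ℕ) (e : A ⟶ A), ∀ m, N ≤ m → iter g m ≫ e = iter g m ∧ (∀ a, e a ∈ Set.range (iter g m)) ∧
      e ≫ iter g m = iter g m ∧
      ∀ b c, iter g m (iter g m b) = iter g m (iter g m c) → iter g m b = iter g m c := by
  have := isArtinian_base A
  let L := (iter g 1).toAlgHom.toLinearMap
  have hL : ∀ m (a : A), (L ^ m) a = iter g m a := fun m => by
    induction m with
    | zero => exact fun a => rfl
    | succ m ih =>
      intro a
      rw [pow_succ']
      exact (congrArg L (ih a)).trans rfl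
  have := ArtFib.module_finite A
  have : IsNoetherian Λ A := isNoetherian_of_isNoetherianRing_of_finite Λ A
  obtain ⟨N, hN'⟩ := Filter.eventually_atTop.1
    ((LinearMap.eventually_isCompl_ker_pow_range_pow L).and L.eventually_iInf_range_pow_eq)
  have hN := fun m hm => (hN' m hm).1
  have hNr := fun m hm => (hN' m hm).2
  have hbij : ∀ m, N ≤ m → ∀ a, ∃! b : A, b ∈ LinearMap.range (L ^ m) ∧ iter g m b = iter g m a := by
    intro m hm a
    obtain ⟨x, hx, y, hy, rfl⟩ := Submodule.mem_sup.1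
      ((hN m hm).sup_eq_top.ge (Submodule.mem_top (x := a)))
    refine ⟨y, ⟨hy, ?_⟩, fun b ⟨hb, hb'⟩ => ?_⟩
    · rw [map_add, ← hL m x, (LinearMap.mem_ker.1 hx), zero_add]
    · rw [map_add, ← hL m x, LinearMap.mem_ker.1 hx, zero_add] at hb'
      refine sub_eq_zero.1 (Submodule.disjoint_def.1 (hN m hm).disjoint _ ?_ (sub_mem hb hy))
      rw [LinearMap.mem_ker, hL, map_sub, hb', sub_self]
  choose p hp hpu using hbij N le_rfl
  have hr : ∀ {b : A}, b ∈ Set.range (iter g N) → b ∈ LinearMap.range (L ^ N) := by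
    rintro b ⟨a, rfl⟩; exact ⟨a, hL N a⟩
  have hr' : ∀ a, ∃ c, iter g N c = p a := fun a => by
    obtain ⟨c, hc⟩ := (hp a).1
    exact ⟨c, (hL N c).symm.trans hc⟩
  let S := (iter g N).toAlgHom.range
  have hS : ∀ a, p a ∈ S := fun a => hr' a
  let e₀ : A →ₐ[Λ] A :=
    { toFun := p
      map_one' := (hpu 1 1 ⟨hr (one_mem S), rfl⟩).symm
      map_mul' := fun a b => (hpu (a * b) _ ⟨hr (mul_mem (hS a) (hS b)), by
        rw [map_mul, map_mul, (hp a).2, (hp b).2]⟩).symm
      map_zero' := (hpu 0 0 ⟨zero_mem _, rfl⟩).symm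
      map_add' := fun a b => (hpu (a + b) _ ⟨add_mem (hp a).1 (hp b).1, by
        rw [map_add, map_add, (hp a).2, (hp b).2]⟩).symm
      commutes' := fun l => (hpu _ _ ⟨hr (S.algebraMap_mem l), rfl⟩).symm }
  let e : A ⟶ A := ⟨e₀, AlgHom.ext fun a => by
    show A.res (p a) = A.res a
    rw [← Art.res_app (iter g N) (p a), (hp a).2, Art.res_app]⟩
  refine ⟨N, e, fun m hm => ⟨?_, fun a => ?_, ?_, fun b c hbc => ?_⟩⟩
  · refine Art.hom_ext (AlgHom.ext fun a => ?_)
    show p (iter g m a) = iter g m a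
    obtain ⟨d, rfl⟩ := Nat.exists_eq_add_of_le hm
    refine (hpu _ _ ⟨hr ?_, rfl⟩).symm
    rw [Nat.add_comm, iter_add]
    exact ⟨_, rfl⟩
  · -- the ranges are stable
    show p a ∈ _
    obtain ⟨c, hc⟩ := (((hNr m hm).symm.trans (hNr N le_rfl)).symm ▸ (hp a).1 : p a ∈ LinearMap.range (L ^ m))
    exact ⟨c, (hL m c).symm.trans hc⟩
  · obtain ⟨d, rfl⟩ := Nat.exists_eq_add_of_le hm
    refine Art.hom_ext (AlgHom.ext fun a => ?_)
    show iter g (N + d) (p a) = iter g (N + d) a
    rw [iter_add, Art.comp_apply, Art.comp_apply, (hp a).2]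
  · refine sub_eq_zero.1 (Submodule.disjoint_def.1 (hN m hm).disjoint _ ?_
      (sub_mem ⟨b, hL m b⟩ ⟨c, hL m c⟩))
    rw [LinearMap.mem_ker, hL, map_sub, hbc, sub_self]

end Groth.Agent.ArtKit
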