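import Groth.Agent.ArtKit.Cmp

/-!
# The least ideal with a lift
-/

set_option autoImplicit false
universe u v

open CategoryTheory ArtFun

namespace Groth.Agent.ArtKit

variable {Λ : Type u} {k : Type u} [CommRing Λ] [Field k] [Algebra Λ k]

lemma hom_ext_of_surjective {A B C : Art Λ k} {p : A ⟶ B} (hp : Function.Surjective p) {g h : B ⟶ C}
    (e : p ≫ g = p ≫ h) : g = h :=
  Art.hom_ext (AlgHom.ext fun b => by
    obtain ⟨a, rfl⟩ := hp b
    exact congrArg (fun f : A ⟶ C => f a) e)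

lemma quotFactor_mk {B A : Art Λ k} {K : Ideal B} (hK : K ≤ IsLocalRing.maximalIdeal B) (p : B ⟶ A)
    (hp : K ≤ RingHom.ker p.toAlgHom) (b : B) : Art.quotFactor hK p hp (Art.quotMk B K hK b) = p b :=
  congrArg (fun f : B ⟶ A => f b) (Art.quotMk_quotFactor hK p hp)

variable {F : Art Λ k ⥤ Type v}

/-- The least ideal `J₀ ⊆ ker p` such that `x` lifts to `B/J₀`. -/
theorem exists_least_ideal (h1 : S1 F) {B A : Art Λ k} (p : B ⟶ A) (hp : Art.IsSemismallExt p) (x : F.obj A) :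
    ∃ (J₀ : Ideal B) (hJ₀ : J₀ ≤ RingHom.ker p.toAlgHom) (hJ₀' : J₀ ≤ IsLocalRing.maximalIdeal B),
      (∃ y : F.obj (Art.quot B J₀ hJ₀'), F.map (Art.quotFactor hJ₀' p hJ₀) y = x) ∧
      ∀ (J : Ideal B) (hJ : J ≤ RingHom.ker p.toAlgHom) (hJ' : J ≤ IsLocalRing.maximalIdeal B),
        (∃ y : F.obj (Art.quot B J hJ'), F.map (Art.quotFactor hJ' p hJ) y = x) → J₀ ≤ J := by
  classical
  let P : Ideal B → Prop := fun J => ∃ (hJ : J ≤ RingHom.ker p.toAlgHom) (hJ' : J ≤ IsLocalRing.maximalIdeal B),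
      ∃ y : F.obj (Art.quot B J hJ'), F.map (Art.quotFactor hJ' p hJ) y = x
  have hker := ker_le_maximalIdeal p
  have htop : P (RingHom.ker p.toAlgHom) := by
    refine ⟨le_rfl, hker, ?_⟩
    have : IsIso (Art.quotFactor hker p le_rfl) := isIso_of_bijective _ ⟨(injective_iff_map_eq_zero
      (Art.quotFactor hker p le_rfl).toAlgHom).2 fun a ha => ?_, fun a => ?_⟩
    · exact ⟨F.map (inv (Art.quotFactor hker p le_rfl)) x, map_app_inv F _ x⟩
    · obtain ⟨b, rfl⟩ := Art.quotMk_surjective B _ hker a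
      exact Ideal.Quotient.eq_zero_iff_mem.2 (RingHom.mem_ker.2 ((quotFactor_mk hker p le_rfl b).symm.trans ha))
    · obtain ⟨b, hb⟩ := hp.1 a
      exact ⟨Art.quotMk B _ hker b, (quotFactor_mk hker p le_rfl b).trans hb⟩
  obtain ⟨J₀, ⟨hJ₀, hJ₀', hy⟩, hmin⟩ := wellFounded_lt.has_min {J | P J} ⟨_, htop⟩
  refine ⟨J₀, hJ₀, hJ₀', hy, fun J hJ hJ' hJy => ?_⟩
  -- enlarge `J` to a complement of `J₀` in the kernel
  obtain ⟨J', ⟨hJJ', hJ'k, hcap⟩, hmax⟩ := set_has_maximal_iff_noetherian.2 (inferInstance : IsNoetherianRing B)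
    {I : Ideal B | J ≤ I ∧ I ≤ RingHom.ker p.toAlgHom ∧ I ⊓ J₀ ≤ J} ⟨J, le_rfl, hJ, inf_le_left⟩
  have hsum : RingHom.ker p.toAlgHom ≤ J' ⊔ J₀ := fun z hz => by
    by_contra hzn
    have hlt : J' < J' ⊔ Ideal.span {z} := lt_of_le_of_ne le_sup_left fun e => hzn (Ideal.mem_sup_left (by
      rw [e]
      exact Ideal.mem_sup_right (Ideal.mem_span_singleton_self z)))
    refine hmax (J' ⊔ Ideal.span {z}) ⟨hJJ'.trans le_sup_left,
      sup_le hJ'k ((Ideal.span_singleton_le_iff_mem _).2 hz), ?_⟩ hlt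
    rintro w ⟨hw, hw₀⟩
    obtain ⟨j, hj, s, hs, rfl⟩ := Submodule.mem_sup.1 hw
    obtain ⟨b, rfl⟩ := Ideal.mem_span_singleton'.1 hs
    by_cases hb : IsUnit b
    · refine absurd ?_ hzn
      have : b * z ∈ J' ⊔ J₀ := by
        have := Submodule.sub_mem (J' ⊔ J₀) (Ideal.mem_sup_right hw₀) (Ideal.mem_sup_left hj)
        rwa [add_sub_cancel_left] at this
      exact (Ideal.unit_mul_mem_iff_mem (J' ⊔ J₀) hb).1 this
    · have hz0 : b * z = 0 := Ideal.mem_bot.1 (hp.2 ▸ Ideal.mul_mem_mul ((IsLocalRing.mem_maximalIdeal b).2 hb) hz)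
      rw [hz0, add_zero] at hw₀ ⊢
      exact hcap ⟨hj, hw₀⟩
  obtain ⟨y, hy⟩ := hy
  obtain ⟨yJ, hyJ⟩ := hJy
  have hJ'm : J' ≤ IsLocalRing.maximalIdeal B := hJ'k.trans hker
  let K := J' ⊓ J₀
  have hKm : K ≤ IsLocalRing.maximalIdeal B := inf_le_right.trans hJ₀'
  have hK1 : K ≤ RingHom.ker (Art.quotMk B J' hJ'm).toAlgHom := by rw [ker_quotMk]; exact inf_le_left
  have hK2 : K ≤ RingHom.ker (Art.quotMk B J₀ hJ₀').toAlgHom := by rw [ker_quotMk]; exact inf_le_right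
  have hJ1 : J ≤ RingHom.ker (Art.quotMk B J' hJ'm).toAlgHom := by rw [ker_quotMk]; exact hJJ'
  let p1 := Art.quotFactor hKm (Art.quotMk B J' hJ'm) hK1
  let p2 := Art.quotFactor hKm (Art.quotMk B J₀ hJ₀') hK2
  have hfp : Art.IsFibreProd p1 p2 (Art.quotFactor hJ'm p hJ'k) (Art.quotFactor hJ₀' p hJ₀) := by
    refine ⟨hom_ext_of_surjective (Art.quotMk_surjective B K hKm) ?_, fun a b e₁ e₂ => ?_, fun a c e => ?_⟩
    · rw [← Category.assoc, ← Category.assoc, Art.quotMk_quotFactor, Art.quotMk_quotFactor, Art.quotMk_quotFactor,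
        Art.quotMk_quotFactor]
    · obtain ⟨a, rfl⟩ := Art.quotMk_surjective B K hKm a
      obtain ⟨b, rfl⟩ := Art.quotMk_surjective B K hKm b
      rw [quotFactor_mk, quotFactor_mk] at e₁ e₂
      exact Ideal.Quotient.eq.2 ⟨Ideal.Quotient.eq.1 e₁, Ideal.Quotient.eq.1 e₂⟩
    · obtain ⟨a, rfl⟩ := Art.quotMk_surjective B J' hJ'm a
      obtain ⟨c, rfl⟩ := Art.quotMk_surjective B J₀ hJ₀' c
      rw [quotFactor_mk, quotFactor_mk] at e
      have hac : a - c ∈ J' ⊔ J₀ := hsum (RingHom.mem_ker.2 (by rw [map_sub, e, sub_self]))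
      obtain ⟨j, hj, j₀, hj₀, hjj⟩ := Submodule.mem_sup.1 hac
      refine ⟨Art.quotMk B K hKm (a - j), (quotFactor_mk hKm _ hK1 _).trans ?_, (quotFactor_mk hKm _ hK2 _).trans ?_⟩
      · refine Ideal.Quotient.eq.2 ?_
        rw [sub_sub_cancel_left]
        exact neg_mem hj
      · refine Ideal.Quotient.eq.2 ?_
        rw [show a - j - c = j₀ by rw [sub_right_comm, ← hjj, add_sub_cancel_left]]
        exact hj₀
  have hsurj : Function.Surjective (Art.quotFactor hJ₀' p hJ₀) := fun a => by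
    obtain ⟨b, hb⟩ := hp.1 a
    exact ⟨Art.quotMk B _ hJ₀' b, (quotFactor_mk hJ₀' p hJ₀ b).trans hb⟩
  have hcompat : Art.quotFactor hJ' (Art.quotMk B J' hJ'm) hJ1 ≫ Art.quotFactor hJ'm p hJ'k =
      Art.quotFactor hJ' p hJ := hom_ext_of_surjective (Art.quotMk_surjective B J hJ') (by
    rw [← Category.assoc, Art.quotMk_quotFactor, Art.quotMk_quotFactor, Art.quotMk_quotFactor])
  obtain ⟨w, -, hw⟩ := (surjective_cmp_iff hfp).1 (h1 _ _ _ _ hfp hsurj)
    (F.map (Art.quotFactor hJ' (Art.quotMk B J' hJ'm) hJ1) yJ) y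
    (by rw [← map_comp_app, hcompat, hyJ, hy])
  have hPK : P K := by
    refine ⟨inf_le_right.trans hJ₀, hKm, w, ?_⟩
    rw [← hy, ← hw, ← map_comp_app]
    refine congrArg (fun f : Art.quot B K hKm ⟶ A => F.map f w) (hom_ext_of_surjective (Art.quotMk_surjective B K hKm) ?_)
    rw [← Category.assoc, Art.quotMk_quotFactor, Art.quotMk_quotFactor, Art.quotMk_quotFactor]
  by_contra hn
  exact hmin K hPK (lt_of_le_of_ne inf_le_right fun e => hn (e ▸ hcap))

end Groth.Agent.ArtKit
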