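import Groth.Agent.ArtKit.Action
import Groth.Agent.ArtKit.Versal

/-!
# Lifts along small extensions and the differential

Moving a lift by the tangent action: a natural map with surjective differential hits every lift of a liftable
image; one with injective differential is injective on lifts.
-/

set_option autoImplicit false
universe u v w

open CategoryTheory ArtFun

namespace Groth.Agent.ArtKit

variable {Λ : Type u} {k : Type u} [CommRing Λ] [Field k] [Algebra Λ k]

theorem h0_hR {R : Type u} [CommRing R] [Algebra Λ R] {resR : R →ₐ[Λ] k} : H0 (hR R resR) :=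
  ⟨⟨(homSetBase : HomSet R resR _)⟩, subsingleton_homSet_base⟩

theorem bijective_cmp_hR {R : Type u} [CommRing R] [Algebra Λ R] {resR : R →ₐ[Λ] k} {B A A' A'' : Art Λ k}
    {p' : B ⟶ A'} {p'' : B ⟶ A''} {f' : A' ⟶ A} {f'' : A'' ⟶ A} (h : Art.IsFibreProd p' p'' f' f'') :
    Function.Bijective (cmp (hR R resR) h) :=
  ⟨(injective_cmp_iff h).2 fun _ _ e₁ e₂ => homSet_ext h e₁ e₂,
    (surjective_cmp_iff h).2 fun x' x'' e => homSet_exists_lift h x' x'' e⟩

variable [IsNoetherianRing Λ] [Module.Finite Λ k] {F : Art Λ k ⥤ Type v} {G : Art Λ k ⥤ Type w}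
  (η : ∀ A, F.obj A → G.obj A) (hη : ∀ ⦃A B : Art Λ k⦄ (f : A ⟶ B) (x : F.obj A), η B (F.map f x) = G.map f (η A x))

include hη in
/-- Surjective differential: among the lifts of a liftable element one hits any prescribed lift of its image. -/
theorem exists_lift_of_tangent_surjective (hF0 : H0 F) (hF2 : Heps F) (hG1 : Hbar G) (hG2 : Heps G)
    (hT : Function.Surjective (η (Art.dual Λ k))) {B A : Art Λ k} (p : B ⟶ A) (hp : Art.IsSmallExt p)
    {a : F.obj A} {b : G.obj B} (hab : η A a = G.map p b) {y : F.obj B} (hy : F.map p y = a) :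
    ∃ z, F.map p z = a ∧ η B z = b := by
  obtain ⟨t, P, p₁, p₂, g, -, -, hP, hP', -⟩ := exists_action_data p hp
  obtain ⟨w, hw₁, hw₂⟩ := (surjective_cmp_iff hP).1 (hG1 p₁ p₂ p p hP hp) (η B y) b (by rw [← hη, hy, hab])
  obtain ⟨θ, hθ⟩ := hT (G.map g w)
  obtain ⟨z, hz₁, hz₂⟩ := (surjective_cmp_iff hP').1 (hF2 _ _ hP').2 y θ (hF0.2.elim _ _)
  have hzw : η P z = w := (injective_cmp_iff hP').1 (hG2 _ _ hP').1 _ _
    (by rw [← hη, hz₁, hw₁]) (by rw [← hη, hz₂, hθ])
  exact ⟨F.map p₂ z, by rw [map_congr F hP.w.symm, hz₁, hy], by rw [hη, hzw, hw₂]⟩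

include hη in
/-- Injective differential: injective on every object. -/
theorem injective_app_of_tangent_injective (hF0 : H0 F) (hF1 : Hbar F) (hF2 : Heps F)
    (hG4 : ∀ ⦃B A A' : Art Λ k⦄ (p₁ p₂ : B ⟶ A') (f : A' ⟶ A) (h : Art.IsFibreProd p₁ p₂ f f),
      Art.IsSmallExt f → Function.Injective (cmp G h))
    (hT : Function.Injective (η (Art.dual Λ k))) (A : Art Λ k) : Function.Injective (η A) := by
  refine (surjective_induction (fun C B f => Function.Injective (η C) → Function.Injective (η B)) ?_ ?_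
    (fun _ _ _ _ _ hp hq h => hp (hq h)) (Art.toBase A) A.res_surjective) fun x y _ => hF0.2.elim x y
  · intro C B e he hinj x y h
    exact Function.LeftInverse.injective (map_inv_app F e) (hinj (by rw [hη, hη, h]))
  · intro C B p hp hinj y y' h
    obtain ⟨t, P, p₁, p₂, g, -, -, hP, hP', -⟩ := exists_action_data p hp
    obtain ⟨w, rfl, rfl⟩ := (surjective_cmp_iff hP).1 (hF1 p₁ p₂ p p hP hp) y y'
      (hinj (by rw [hη, hη, h]))
    obtain ⟨d, hd₁, hd₂⟩ := exists_lift hP (𝟙 B) (𝟙 B) rfl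
    have hηw : η P w = η P (F.map d (F.map p₁ w)) := (injective_cmp_iff hP).1 (hG4 p₁ p₂ p hP hp) _ _
      (by rw [← hη, ← hη, ← map_comp_app F d p₁, hd₁, map_id_app])
      (by rw [← hη, ← hη, ← map_comp_app F d p₂, hd₂, map_id_app, h])
    have hwd : w = F.map d (F.map p₁ w) := (injective_cmp_iff hP').1 (hF2 _ _ hP').1 _ _
      (by rw [← map_comp_app F d p₁, hd₁, map_id_app]) (hT (by rw [hη, hη, hηw]))
    conv_rhs => rw [hwd, ← map_comp_app, hd₂, map_id_app]

omit η hη [IsNoetherianRing Λ] [Module.Finite Λ k] in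
theorem heps_of_rs (h : ∀ ⦃B A A' A'' : Art Λ k⦄ (p' : B ⟶ A') (p'' : B ⟶ A'') (f' : A' ⟶ A) (f'' : A'' ⟶ A)
    (h : Art.IsFibreProd p' p'' f' f''), Function.Surjective f'' → Function.Bijective (cmp F h)) : Heps F :=
  fun _ _ p' p'' hh => h p' p'' _ _ hh (Art.dual Λ k).res_surjective

omit η hη [IsNoetherianRing Λ] [Module.Finite Λ k] in
theorem hbar_of_rs (h : ∀ ⦃B A A' A'' : Art Λ k⦄ (p' : B ⟶ A') (p'' : B ⟶ A'') (f' : A' ⟶ A) (f'' : A'' ⟶ A)
    (h : Art.IsFibreProd p' p'' f' f''), Function.Surjective f'' → Function.Bijective (cmp F h)) : Hbar F :=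
  fun _ _ _ _ p' p'' f' f'' hh hs => (h p' p'' f' f'' hh hs.1).2

omit η hη in
/-- The smoothness criterion: tangent surjectivity and liftability along small extensions. -/
theorem isSmooth_of_tangent_surjective {G : Art Λ k ⥤ Type v} (φ : F ⟶ G) (hF0 : H0 F) (hF2 : Heps F) (hG1 : Hbar G)
    (hG2 : Heps G) (hT : Function.Surjective (TangentSpace.map φ))
    (hl : ∀ ⦃A' A : Art Λ k⦄ (μ : A' ⟶ A), Art.IsSmallExt μ → ∀ x : F.obj A,
      (∃ y' : G.obj A', G.map μ y' = φ.app A x) → ∃ x' : F.obj A', F.map μ x' = x) : IsSmooth φ := by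
  refine isSmooth_of_smallExt φ fun B A μ hμ => ?_
  rintro ⟨⟨a, b⟩, hab⟩
  obtain ⟨y, hy⟩ := hl μ hμ a ⟨b, hab.symm⟩
  obtain ⟨z, hz₁, hz₂⟩ := exists_lift_of_tangent_surjective (fun A => φ.app A)
    (fun _ _ f x => NatTrans.naturality_apply φ f x) hF0 hF2 hG1 hG2 hT μ hμ hab hy
  exact ⟨z, Subtype.ext (Prod.ext hz₁ hz₂)⟩

end Groth.Agent.ArtKit
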