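import Groth.Agent.ArtKit.PolyRing
import Groth.Agent.ArtKit.Least
import Groth.Agent.ArtKit.Lifts
import Groth.Agent.S12713

/-!
# Construction of versal families

Schlessinger's inductive construction inside a smooth coefficient ring.
-/

set_option autoImplicit false
universe u v

open CategoryTheory ArtFun IsLocalRing

namespace Groth.Agent.ArtKit

variable {Λ : Type u} {k : Type u} [CommRing Λ] [Field k] [Algebra Λ k]

lemma exists_hom_of_ker_le {R : Type u} [CommRing R] [Algebra Λ R] {resR : R →ₐ[Λ] k} {Q P : Art Λ k}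
    (π : HomSet R resR Q) (hπ : Function.Surjective π.1) (χ : HomSet R resR P)
    (h : RingHom.ker π.1 ≤ RingHom.ker χ.1) : ∃ r : Q ⟶ P, HomSet.map r π = χ := by
  let t := AlgHom.liftOfSurjective π.1 hπ χ.1 fun _ hr => h hr
  have ht : ∀ r, t (π.1 r) = χ.1 r := fun r => AlgHom.liftOfSurjective_apply _ _ _ _ r
  refine ⟨Art.homMk t (AlgHom.ext fun y => ?_), Subtype.ext (AlgHom.ext ht)⟩
  obtain ⟨r, rfl⟩ := hπ y
  exact (congrArg P.res (ht r)).trans ((homSet_res_app χ r).trans (homSet_res_app π r).symm)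

lemma hom_ext_of_homSet {R : Type u} [CommRing R] [Algebra Λ R] {resR : R →ₐ[Λ] k} {Q P : Art Λ k}
    (π : HomSet R resR Q) (hπ : Function.Surjective π.1) {g h : Q ⟶ P}
    (e : HomSet.map g π = HomSet.map h π) : g = h :=
  Art.hom_ext (AlgHom.ext fun y => by
    obtain ⟨r, rfl⟩ := hπ y
    exact DFunLike.congr_fun (congrArg Subtype.val e) r)

lemma exists_pow_le_ker (S : CRing Λ k) {A : Art Λ k} (φ : HomSet S.carrier S.res A) :
    ∃ a, maximalIdeal S.carrier ^ (a + 1) ≤ RingHom.ker φ.1 := by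
  obtain ⟨N, hN⟩ := exists_pow_succ A
  obtain ⟨m, rfl⟩ := exists_factor_trunc S φ N hN
  refine ⟨N, fun x hx => RingHom.mem_ker.2 ?_⟩
  rw [homSet_map_apply]
  exact (congrArg m.toAlgHom (Ideal.Quotient.eq_zero_iff_mem.2 hx)).trans (map_zero _)

/-- Artinian quotients of a coefficient ring. -/
theorem exists_artQuot (S : CRing Λ k) (I : Ideal S.carrier) (hI : I ≤ maximalIdeal S.carrier) (n : ℕ)
    (hn : maximalIdeal S.carrier ^ (n + 1) ≤ I) :
    ∃ (B : Art Λ k) (χ : HomSet S.carrier S.res B), Function.Surjective χ.1 ∧ RingHom.ker χ.1 = I := by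
  let K : Ideal (S.trunc n) := I.map (S.truncHom n).1
  have hK : K ≤ maximalIdeal (S.trunc n) := Ideal.map_le_iff_le_comap.2 fun a ha => by
    rw [Ideal.mem_comap, Art.mem_maximalIdeal_iff, homSet_res_app]
    exact (CRing.mem_maximalIdeal_iff S a).1 (hI ha)
  refine ⟨Art.quot _ K hK, HomSet.map (Art.quotMk _ K hK) (S.truncHom n),
    (Art.quotMk_surjective _ K hK).comp (truncHom_surjective S n), le_antisymm (fun a ha => ?_) fun a ha => ?_⟩
  · have h1 : (S.truncHom n).1 a ∈ K := Ideal.Quotient.eq_zero_iff_mem.1 (RingHom.mem_ker.1 ha)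
    obtain ⟨b, hb, hab⟩ := (Ideal.mem_map_iff_of_surjective _ (truncHom_surjective S n)).1 h1
    rw [← sub_add_cancel a b]
    exact add_mem (hn ((Ideal.Quotient.eq).1 hab.symm)) hb
  · exact RingHom.mem_ker.2 (Ideal.Quotient.eq_zero_iff_mem.2 (Ideal.mem_map_of_mem _ ha))

/-- Chevalley's lemma for a decreasing sequence of open ideals. -/
theorem chevalley (S : CRing Λ k) (K : ℕ → Ideal S.carrier) (hK : Antitone K)
    (hopen : ∀ n, ∃ a, maximalIdeal S.carrier ^ (a + 1) ≤ K n) (a : ℕ) :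
    ∃ N, K N ≤ (⨅ n, K n) ⊔ maximalIdeal S.carrier ^ (a + 1) := by
  have := S.isAdicComplete
  -- stable values
  have hst : ∀ b, ∃ N, ∀ M, N ≤ M → K N ⊔ maximalIdeal S.carrier ^ b = K M ⊔ maximalIdeal S.carrier ^ b := by
    intro b
    rcases Nat.eq_zero_or_eq_succ_pred b with hb | hb
    · exact ⟨0, fun M _ => by rw [hb, pow_zero, Ideal.one_eq_top, sup_top_eq, sup_top_eq]⟩
    · rw [hb]
      generalize b.pred = c
      have hmono : Antitone fun n => (K n).map (S.truncHom c).1 := fun i j hij => Ideal.map_mono (hK hij)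
      obtain ⟨N, hN⟩ := IsArtinian.monotone_stabilizes
        ⟨fun n => OrderDual.toDual ((K n).map (S.truncHom c).1), fun i j hij => hmono hij⟩
      refine ⟨N, fun M hM => ?_⟩
      have hker : RingHom.ker (S.truncHom c).1 = maximalIdeal S.carrier ^ (c + 1) := Ideal.mk_ker
      have h0 : (K N).map (S.truncHom c).1 = (K M).map (S.truncHom c).1 := hN M hM
      have := congrArg (Ideal.comap (S.truncHom c).1) h0
      rwa [Ideal.comap_map_of_surjective _ (truncHom_surjective S c), Ideal.comap_map_of_surjective _ (truncHom_surjective S c),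
        ← RingHom.ker_eq_comap_bot, hker] at this
  choose N hN using hst
  refine ⟨N (a + 1), fun x hx => ?_⟩
  have hstep : ∀ b, ∀ y : ↥(K (N (a + 1 + b)) ⊔ maximalIdeal S.carrier ^ (a + 1 + b)),
      ∃ z : ↥(K (N (a + 1 + (b + 1))) ⊔ maximalIdeal S.carrier ^ (a + 1 + (b + 1))),
        (z : S.carrier) - y ∈ maximalIdeal S.carrier ^ (a + 1 + b) := by
    rintro b ⟨y, hy⟩
    let M := max (N (a + 1 + b)) (N (a + 1 + (b + 1)))
    rw [hN _ M (le_max_left _ _)] at hy
    obtain ⟨p, hp, q, hq, rfl⟩ := Submodule.mem_sup.1 hy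
    refine ⟨⟨p, ?_⟩, ?_⟩
    · rw [hN _ M (le_max_right _ _)]
      exact Ideal.mem_sup_left hp
    · show p - (p + q) ∈ _
      rw [sub_add_cancel_left]
      exact neg_mem hq
  choose next hnext using hstep
  let seq : ∀ b, ↥(K (N (a + 1 + b)) ⊔ maximalIdeal S.carrier ^ (a + 1 + b)) :=
    fun b => Nat.rec ⟨x, Ideal.mem_sup_left hx⟩ next b
  have hcauchy : ∀ {i j : ℕ}, i ≤ j → (seq j).1 - (seq i).1 ∈ maximalIdeal S.carrier ^ (a + 1 + i) := by
    intro i j hij
    induction hij with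
    | refl => simp
    | @step j hij ih =>
      rw [← sub_add_sub_cancel _ (seq j).1]
      exact add_mem (Ideal.pow_le_pow_right (Nat.add_le_add_left hij (a + 1)) (hnext j (seq j))) ih
  obtain ⟨z, hz⟩ := IsPrecomplete.prec inferInstance (I := maximalIdeal S.carrier) (f := fun i => (seq i).1)
    fun {i j} hij => by
      rw [SModEq.sub_mem, smul_eq_mul, Ideal.mul_top, ← neg_sub]
      exact neg_mem (Ideal.pow_le_pow_right (by omega) (hcauchy hij))
  have hz' : ∀ i, (seq i).1 - z ∈ maximalIdeal S.carrier ^ i := fun i => by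
    have := hz i
    rwa [SModEq.sub_mem, smul_eq_mul, Ideal.mul_top] at this
  have hzK : z ∈ ⨅ n, K n := Submodule.mem_iInf _ |>.2 fun n => by
    obtain ⟨c, hc⟩ := hopen n
    let i := c + 1
    let M := max (N (a + 1 + i)) n
    have h1 := (hN _ M (le_max_left _ _)).le (seq i).2
    have h2 : (seq i).1 ∈ K n :=
      (sup_le (hK (le_max_right _ _)) ((Ideal.pow_le_pow_right (by omega)).trans hc) :
        K M ⊔ maximalIdeal S.carrier ^ (a + 1 + i) ≤ K n) h1
    have := sub_mem h2 (hc (hz' i))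
    rwa [sub_sub_cancel] at this
  have hxz : x - z ∈ maximalIdeal S.carrier ^ (a + 1) := by
    have h1 : (seq (a + 1)).1 - x ∈ maximalIdeal S.carrier ^ (a + 1) := by
      have h2 := hcauchy (Nat.zero_le (a + 1))
      exact h2
    have := sub_mem (hz' (a + 1)) h1
    rwa [sub_sub_sub_cancel_left] at this
  rw [show x = z + (x - z) by ring]
  exact add_mem (Ideal.mem_sup_left hzK) (Ideal.mem_sup_right hxz)

variable {F : Art Λ k ⥤ Type v}

/-- A stage of the construction: an Artinian quotient of `S` with an element of `F`. -/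
structure Stage (S : CRing Λ k) (F : Art Λ k ⥤ Type v) where
  /-- the quotient -/
  Q : Art Λ k
  /-- the projection -/
  π : HomSet S.carrier S.res Q
  surj : Function.Surjective π.1
  /-- the element -/
  y : F.obj Q

theorem exists_step (h1 : S1 F) {S : CRing Λ k} (st : Stage S F) :
    ∃ (st' : Stage S F) (t : st'.Q ⟶ st.Q), HomSet.map t st'.π = st.π ∧ F.map t st'.y = st.y ∧
      ∀ (P : Art Λ k) (χ : HomSet S.carrier S.res P) (_ : Function.Surjective χ.1) (q : P ⟶ st.Q),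
        HomSet.map q χ = st.π → maximalIdeal S.carrier * RingHom.ker st.π.1 ≤ RingHom.ker χ.1 →
          (∃ z, F.map q z = st.y) → ∃ r : st'.Q ⟶ P, HomSet.map r st'.π = χ := by
  obtain ⟨a, ha⟩ := exists_pow_le_ker S st.π
  have hIn : maximalIdeal S.carrier ^ (a + 1 + 1) ≤ maximalIdeal S.carrier * RingHom.ker st.π.1 := by
    rw [pow_succ']
    exact mul_le_mul_right ha _
  obtain ⟨B, χB, hχB, hker⟩ := exists_artQuot S _ Ideal.mul_le_left (a + 1) hIn
  obtain ⟨p, hp⟩ := exists_hom_of_ker_le χB hχB st.π (by rw [hker]; exact Ideal.mul_le_right)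
  have hps : Function.Surjective p := fun y => by
    obtain ⟨s, rfl⟩ := st.surj y
    exact ⟨χB.1 s, DFunLike.congr_fun (congrArg Subtype.val hp) s⟩
  have hsemi : Art.IsSemismallExt p := ⟨hps, le_bot_iff.1 (Ideal.mul_le.2 fun m hm j hj => by
    obtain ⟨s, rfl⟩ := hχB m
    obtain ⟨s', rfl⟩ := hχB j
    rw [Art.mem_maximalIdeal_iff, homSet_res_app, ← CRing.mem_maximalIdeal_iff] at hm
    have hs' : s' ∈ RingHom.ker st.π.1 := RingHom.mem_ker.2
      ((DFunLike.congr_fun (congrArg Subtype.val hp) s').symm.trans (RingHom.mem_ker.1 hj))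
    rw [Ideal.mem_bot, ← map_mul, ← RingHom.mem_ker, hker]
    exact Ideal.mul_mem_mul hm hs')⟩
  obtain ⟨J₀, hJ₀, hJ₀', ⟨y₀, hy₀⟩, hmin⟩ := exists_least_ideal h1 p hsemi st.y
  refine ⟨⟨Art.quot B J₀ hJ₀', HomSet.map (Art.quotMk B J₀ hJ₀') χB,
    (Art.quotMk_surjective B J₀ hJ₀').comp hχB, y₀⟩, Art.quotFactor hJ₀' p hJ₀, ?_, hy₀, ?_⟩
  · show HomSet.map _ (HomSet.map _ χB) = _
    rw [← homSet_map_comp, Art.quotMk_quotFactor, hp]
  · intro P χ hχ q hq hmker hz
    obtain ⟨r₀, hr₀⟩ := exists_hom_of_ker_le χB hχB χ (hker.le.trans hmker)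
    have hr₀q : r₀ ≫ q = p := hom_ext_of_homSet χB hχB (by rw [homSet_map_comp, hr₀, hq, hp])
    have hJ : RingHom.ker r₀.toAlgHom ≤ RingHom.ker p.toAlgHom := fun b hb => RingHom.mem_ker.2 (by
      rw [← hr₀q, Art.comp_toAlgHom, AlgHom.comp_apply, RingHom.mem_ker.1 hb, map_zero])
    have hJ' := ker_le_maximalIdeal r₀
    let e := Art.quotFactor hJ' r₀ le_rfl
    have : IsIso e := isIso_of_bijective e ⟨(injective_iff_map_eq_zero e.toAlgHom).2 fun y hy => by
        obtain ⟨b, rfl⟩ := Art.quotMk_surjective B _ hJ' y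
        exact Ideal.Quotient.eq_zero_iff_mem.2 (RingHom.mem_ker.2 ((quotFactor_mk hJ' r₀ le_rfl b).symm.trans hy)),
      fun y => by
        obtain ⟨s, rfl⟩ := hχ y
        exact ⟨Art.quotMk B _ hJ' (χB.1 s), (quotFactor_mk hJ' r₀ le_rfl _).trans
          (DFunLike.congr_fun (congrArg Subtype.val hr₀) s)⟩⟩
    obtain ⟨z, hz⟩ := hz
    have hle := hmin _ hJ hJ' ⟨F.map (inv e) z, by
      rw [show Art.quotFactor hJ' p hJ = e ≫ q from hom_ext_of_surjective (Art.quotMk_surjective B _ hJ') (by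
        rw [← Category.assoc, Art.quotMk_quotFactor, Art.quotMk_quotFactor, hr₀q]), map_comp_app, map_app_inv, hz]⟩
    refine ⟨Art.quotFactor hJ₀' r₀ hle, ?_⟩
    show HomSet.map _ (HomSet.map _ χB) = _
    rw [← homSet_map_comp, Art.quotMk_quotFactor, hr₀]

/-- A versal family inside a smooth coefficient ring. -/
theorem exists_versal_of_smooth [IsNoetherianRing Λ] [Module.Finite Λ k] (h1 : S1 F) (h2 : Heps F)
    (S : CRing Λ k) (hS : IsSmoothFunctor (hR S.carrier S.res)) {E : Art Λ k} (τ : HomSet S.carrier S.res E)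
    (hτ : Function.Surjective τ.1) (ξ₁ : F.obj E)
    (htan : ∀ θ : F.obj (Art.dual Λ k), ∃ m : E ⟶ Art.dual Λ k, F.map m ξ₁ = θ) :
    ∃ (R : CRing Λ k) (ξ : Family R.carrier R.res F) (π : S.carrier →ₐ[Λ] R.carrier)
      (η : HomSet R.carrier R.res E), R.res.comp π = S.res ∧ IsVersal ξ ∧ Function.Surjective π ∧
        ξ.app E η = ξ₁ ∧ η.1.comp π = τ.1 := by
  choose next t ht hty hmin using fun st : Stage S F => exists_step h1 st
  let st : ℕ → Stage S F := fun n => Nat.rec ⟨E, τ, hτ, ξ₁⟩ (fun _ s => next s) n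
  have hanti : Antitone fun n => RingHom.ker (st n).π.1 := antitone_nat_of_succ_le fun n x hx =>
    RingHom.mem_ker.2 ((DFunLike.congr_fun (congrArg Subtype.val (ht (st n))) x).symm.trans
      ((congrArg (t (st n)).toAlgHom (RingHom.mem_ker.1 hx)).trans (map_zero _)))
  have htrans : ∀ {i j : ℕ}, i ≤ j → ∃ T : (st j).Q ⟶ (st i).Q,
      HomSet.map T (st j).π = (st i).π ∧ F.map T (st j).y = (st i).y := by
    intro i j hij
    induction hij with
    | refl => exact ⟨𝟙 _, Subtype.ext (AlgHom.ext fun _ => rfl), map_id_app F _⟩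
    | @step j hij ih =>
      obtain ⟨T, hT, hTy⟩ := ih
      refine ⟨t (st j) ≫ T, ?_, ?_⟩
      · show HomSet.map (t (st j) ≫ T) (next (st j)).π = _
        rw [homSet_map_comp, ht, hT]
      · show F.map (t (st j) ≫ T) (next (st j)).y = _
        rw [map_comp_app, hty, hTy]
  let J : Ideal S.carrier := ⨅ n, RingHom.ker (st n).π.1
  have hJm : J ≤ maximalIdeal S.carrier := iInf_le_of_le 0 fun s hs => by
    rw [CRing.mem_maximalIdeal_iff, ← homSet_res_app (st 0).π, RingHom.mem_ker.1 hs, map_zero]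
  obtain ⟨R, π, hπ, hπs, hπker⟩ := exists_quotient S J hJm
  have hbar : ∀ n, ∃ φ : HomSet R.carrier R.res (st n).Q, φ.1.comp π = (st n).π.1 := fun n => by
    let f := AlgHom.liftOfSurjective π hπs (st n).π.1 (hπker.le.trans (iInf_le _ n))
    have hf : ∀ s, f (π s) = (st n).π.1 s := AlgHom.liftOfSurjective_apply π hπs _ _
    refine ⟨⟨f, AlgHom.ext fun r => ?_⟩, AlgHom.ext hf⟩
    obtain ⟨s, rfl⟩ := hπs r
    show (st n).Q.res (f (π s)) = R.res (π s)
    rw [hf, homSet_res_app, ← DFunLike.congr_fun hπ s]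
    rfl
  choose pn hpn using hbar
  have hpns : ∀ n, Function.Surjective (pn n).1 := fun n y => by
    obtain ⟨s, rfl⟩ := (st n).surj y
    exact ⟨π s, DFunLike.congr_fun (hpn n) s⟩
  have hext : ∀ {A : Art Λ k} (φ ψ : HomSet R.carrier R.res A), φ.1.comp π = ψ.1.comp π → φ = ψ :=
    fun φ ψ e => Subtype.ext (AlgHom.ext fun r => by
      obtain ⟨s, rfl⟩ := hπs r
      exact DFunLike.congr_fun e s)
  have hfac : ∀ {A : Art Λ k} (φ : HomSet R.carrier R.res A), ∃ (n : ℕ) (m : (st n).Q ⟶ A),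
      HomSet.map m (pn n) = φ := by
    intro A φ
    let φS : HomSet S.carrier S.res A := ⟨φ.1.comp π, by rw [← AlgHom.comp_assoc, φ.2, hπ]⟩
    obtain ⟨a, ha⟩ := exists_pow_le_ker S φS
    obtain ⟨N, hN⟩ := chevalley S (fun n => RingHom.ker (st n).π.1) hanti (fun n => exists_pow_le_ker S _) a
    obtain ⟨m, hm⟩ := exists_hom_of_ker_le (st N).π (st N).surj φS (hN.trans (sup_le (fun s hs => by
      rw [RingHom.mem_ker]
      show φ.1 (π s) = 0
      rw [RingHom.mem_ker.1 (hπker.ge hs : s ∈ RingHom.ker π), map_zero]) ha))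
    refine ⟨N, m, hext _ _ ?_⟩
    show (m.toAlgHom.comp (pn N).1).comp π = φ.1.comp π
    rw [AlgHom.comp_assoc, hpn]
    exact congrArg Subtype.val hm
  choose N m hm using @hfac
  have key : ∀ {A : Art Λ k} {i j : ℕ} (f : (st i).Q ⟶ A) (g : (st j).Q ⟶ A),
      HomSet.map f (pn i) = HomSet.map g (pn j) → F.map f (st i).y = F.map g (st j).y := by
    have aux : ∀ {A : Art Λ k} {i j : ℕ}, i ≤ j → ∀ (f : (st i).Q ⟶ A) (g : (st j).Q ⟶ A),
        HomSet.map f (pn i) = HomSet.map g (pn j) → F.map f (st i).y = F.map g (st j).y := by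
      intro A i j hij f g e
      obtain ⟨T, hT, hTy⟩ := htrans hij
      have hTp : HomSet.map T (pn j) = pn i := hext _ _ (by
        show (T.toAlgHom.comp (pn j).1).comp π = (pn i).1.comp π
        rw [AlgHom.comp_assoc, hpn, hpn]
        exact congrArg Subtype.val hT)
      have hgT : T ≫ f = g := hom_ext_of_homSet (pn j) (hpns j) (by rw [homSet_map_comp, hTp, e])
      rw [← hgT, map_comp_app, hTy]
    intro A i j f g e
    rcases le_total i j with h | h
    · exact aux h f g e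
    · exact (aux h g f e.symm).symm
  let ξ : Family R.carrier R.res F :=
    { app := fun A φ => F.map (m φ) (st (N φ)).y
      natural := fun {A B} f φ => by
        rw [← map_comp_app]
        exact key _ _ (by rw [hm, homSet_map_comp, hm]) }
  have hξ : ∀ {A : Art Λ k} (i : ℕ) (f : (st i).Q ⟶ A), ξ.app A (HomSet.map f (pn i)) = F.map f (st i).y :=
    fun i f => key _ _ (hm _)
  have hid : HomSet.map (𝟙 (st 0).Q) (pn 0) = pn 0 := Subtype.ext (AlgHom.ext fun _ => rfl)
  have hη : ξ.app E (pn 0) = ξ₁ :=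
    (congrArg (ξ.app (st 0).Q) hid).symm.trans ((hξ 0 (𝟙 _)).trans (map_id_app F _))
  refine ⟨R, ξ, π, pn 0, hπ, ?_, hπs, hη, hpn 0⟩
  have hT : Function.Surjective (ξ.app (Art.dual Λ k)) := fun θ => by
    obtain ⟨g, hg⟩ := htan θ
    exact ⟨HomSet.map g (pn 0), (ξ.natural g _).trans (by rw [hη, hg])⟩
  refine isVersal_of_smallExt ξ fun B A μ hμ φ y hy => ?_
  suffices ∃ ψ, HomSet.map μ ψ = φ by
    obtain ⟨ψ₀, hψ₀⟩ := this
    exact exists_lift_of_tangent_surjective (F := hR R.carrier R.res) (G := F) (fun A => ξ.app A)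
      (fun _ _ f x => ξ.natural f x) h0_hR (fun _ _ p' p'' h => bijective_cmp_hR h) ((s1_iff_hbar F).1 h1) h2 hT μ hμ
      hy.symm hψ₀
  obtain ⟨n, f, rfl⟩ : ∃ (n : ℕ) (f : (st n).Q ⟶ A), HomSet.map f (pn n) = φ := ⟨N φ, m φ, hm φ⟩
  rw [hξ] at hy
  obtain ⟨P, p₁, p₂, hP⟩ := ArtFib.exists_isFibreProd_of_surjective f μ hμ.1
  obtain ⟨z, hz₁, -⟩ := (surjective_cmp_iff hP).1 (h1 _ _ _ _ hP hμ.1) (st n).y y hy.symm
  have hp₁ : Art.IsSmallExt p₁ := Groth.Agent.S12711.result hP hμ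
  obtain ⟨ψS, hψS⟩ := hS μ hμ.1 (HomSet.map f (st n).π)
  obtain ⟨χ, hχ₁, hχ₂⟩ := homSet_exists_lift hP (st n).π ψS hψS.symm
  by_cases hχ : Function.Surjective χ.1
  · have hker : maximalIdeal S.carrier * RingHom.ker (st n).π.1 ≤ RingHom.ker χ.1 := Ideal.mul_le.2 fun a ha b hb => by
      have h1 : χ.1 a ∈ maximalIdeal P := by
        rw [Art.mem_maximalIdeal_iff, homSet_res_app, ← CRing.mem_maximalIdeal_iff]; exact ha
      have h2 : χ.1 b ∈ RingHom.ker p₁.toAlgHom :=
        RingHom.mem_ker.2 ((DFunLike.congr_fun (congrArg Subtype.val hχ₁) b).trans (RingHom.mem_ker.1 hb))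
      rw [RingHom.mem_ker, map_mul, ← Ideal.mem_bot, ← hp₁.2.2.2]
      exact Ideal.mul_mem_mul h1 h2
    obtain ⟨r, hr⟩ := hmin (st n) P χ hχ p₁ hχ₁ hker ⟨z, hz₁⟩
    refine ⟨HomSet.map (r ≫ p₂) (pn (n + 1)), hext _ _ ?_⟩
    show (μ.toAlgHom.comp ((r ≫ p₂).toAlgHom.comp (pn (n + 1)).1)).comp π = (f.toAlgHom.comp (pn n).1).comp π
    rw [AlgHom.comp_assoc, AlgHom.comp_assoc, AlgHom.comp_assoc, hpn, hpn, Art.comp_toAlgHom, AlgHom.comp_assoc,
      show r.toAlgHom.comp (st (n + 1)).π.1 = χ.1 from congrArg Subtype.val hr,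
      show p₂.toAlgHom.comp χ.1 = ψS.1 from congrArg Subtype.val hχ₂]
    exact congrArg Subtype.val hψS
  · obtain ⟨a, ha⟩ := exists_pow_succ P
    obtain ⟨g, hg⟩ := exists_factor_trunc S χ a ha
    have hsur : Function.Surjective (g ≫ p₁) := fun y => by
      obtain ⟨s, rfl⟩ := (st n).surj y
      exact ⟨(S.truncHom a).1 s, DFunLike.congr_fun (congrArg Subtype.val
        (by rw [homSet_map_comp, hg, hχ₁] : HomSet.map (g ≫ p₁) (S.truncHom a) = (st n).π)) s⟩
    have hns : ¬ Function.Surjective g := fun hgs => hχ fun y => by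
      obtain ⟨c, rfl⟩ := hgs y
      obtain ⟨s, rfl⟩ := truncHom_surjective S a c
      exact ⟨s, (DFunLike.congr_fun (congrArg Subtype.val hg) s).symm⟩
    obtain ⟨σ, hσ⟩ := (Groth.Agent.S12713.result p₁ hp₁).1 ⟨_, g, hsur, hns⟩
    refine ⟨HomSet.map (σ ≫ p₂) (pn n), ?_⟩
    rw [← homSet_map_comp, Category.assoc, ← hP.w, ← Category.assoc, hσ, Category.id_comp]

end Groth.Agent.ArtKit
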