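import Groth.Agent.ArtKit.Minimal
import Groth.Agent.ArtKit.Cmp

/-!
# The versal lifting property along surjections of coefficient rings
-/

set_option autoImplicit false
universe u v

open CategoryTheory ArtFun

namespace Groth.Agent.ArtKit

variable {Λ : Type u} {k : Type u} [CommRing Λ] [Field k] [Algebra Λ k] [IsNoetherianRing Λ] [Module.Finite Λ k]

theorem exists_lift_cring {F : Art Λ k ⥤ Type v}
    (hRS : ∀ ⦃B A A₁ A₂ : Art Λ k⦄ (p₁ : B ⟶ A₁) (p₂ : B ⟶ A₂) (f₁ : A₁ ⟶ A) (f₂ : A₂ ⟶ A)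
        (h : Art.IsFibreProd p₁ p₂ f₁ f₂), Function.Surjective f₂ → Function.Bijective (cmp F h))
    (R : CRing Λ k) (ξ : Family R.carrier R.res F) (hξ : IsVersal ξ)
    (A' A : CRing Λ k) (g : A'.carrier →ₐ[Λ] A.carrier) (hg : A.res.comp g = A'.res)
    (hgs : Function.Surjective g) (η' : FormalElt F A')
    (φ : R.carrier →ₐ[Λ] A.carrier) (hφ : A.res.comp φ = R.res)
    (hsq : (ξ.along φ hφ).toFormalElt = η'.push g hg) :
    ∃ (ψ : R.carrier →ₐ[Λ] A'.carrier) (hψ : A'.res.comp ψ = R.res),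
      g.comp ψ = φ ∧ (ξ.along ψ hψ).toFormalElt = η' := by
  have hT : ∀ n, Function.Surjective (CRing.truncMapOfHom g hg n) := fun n y => by
    obtain ⟨a, rfl⟩ := truncHom_surjective A n y
    obtain ⟨b, rfl⟩ := hgs a
    exact ⟨(A'.truncHom n).1 b, rfl⟩
  let φn : ∀ n, HomSet R.carrier R.res (A.trunc n) := fun n =>
    ⟨(A.truncHom n).1.comp φ, by rw [← AlgHom.comp_assoc, (A.truncHom n).2, hφ]⟩
  have hφn : ∀ n, ξ.app _ (φn n) = F.map (CRing.truncMapOfHom g hg n) (η'.elt n) := fun n =>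
    congrArg (fun u => u.elt n) hsq
  obtain ⟨ψ0, hψ0, hψ0'⟩ := hξ _ (hT 0) (φn 0) (η'.elt 0) (hφn 0).symm
  have hstep : ∀ n (ψ : {ψ : HomSet R.carrier R.res (A'.trunc n) //
      HomSet.map (CRing.truncMapOfHom g hg n) ψ = φn n ∧ ξ.app _ ψ = η'.elt n}),
      ∃ χ : {ψ : HomSet R.carrier R.res (A'.trunc (n + 1)) //
        HomSet.map (CRing.truncMapOfHom g hg (n + 1)) ψ = φn (n + 1) ∧ ξ.app _ ψ = η'.elt (n + 1)},
      HomSet.map (A'.truncMap n) χ.1 = ψ.1 := by
    rintro n ⟨ψ, hψ1, hψ2⟩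
    obtain ⟨P, p', p'', hP⟩ := ArtFib.exists_isFibreProd_of_surjective
      (CRing.truncMapOfHom g hg n) (A.truncMap n) (truncMap_surjective A n)
    obtain ⟨q, hq1, hq2⟩ := exists_lift hP (A'.truncMap n)
      (CRing.truncMapOfHom g hg (n + 1)) (CRing.truncMapOfHom_truncMap g hg n).symm
    have hqs : Function.Surjective q := fun z => by
      obtain ⟨a, ha⟩ := truncHom_surjective A' n (p' z)
      obtain ⟨b, hb⟩ := truncHom_surjective A (n + 1) (p'' z)
      have hw := hP.w_apply z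
      rw [← ha, ← hb] at hw
      have hmem : g a - b ∈ IsLocalRing.maximalIdeal A.carrier ^ (n + 1) := Ideal.Quotient.eq.1 hw
      have hmap : Ideal.map g (IsLocalRing.maximalIdeal A'.carrier) = IsLocalRing.maximalIdeal A.carrier := by
        refine le_antisymm (map_maximalIdeal_le A'.res_surjective A.res_surjective g hg) ?_
        intro y hy
        obtain ⟨x, rfl⟩ := hgs y
        refine Ideal.mem_map_of_mem _ ?_
        rw [CRing.mem_maximalIdeal_iff] at hy ⊢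
        rwa [← DFunLike.congr_fun hg x]
      rw [← hmap, ← Ideal.map_pow] at hmem
      obtain ⟨μ, hμ, hμ'⟩ := (Ideal.mem_map_iff_of_surjective g hgs).1 hmem
      refine ⟨(A'.truncHom (n + 1)).1 (a - μ), hP.inj _ _ ?_ ?_⟩
      · rw [← ha, ← Art.comp_apply q p', hq1]
        show Ideal.Quotient.mk _ (a - μ) = Ideal.Quotient.mk _ a
        rw [Ideal.Quotient.eq, sub_sub_cancel_left]
        exact neg_mem hμ
      · rw [← hb, ← Art.comp_apply q p'', hq2]
        show Ideal.Quotient.mk _ (g (a - μ)) = Ideal.Quotient.mk _ b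
        rw [map_sub, hμ', sub_sub_cancel]
    obtain ⟨χ, hχ1, hχ2⟩ := homSet_exists_lift hP ψ (φn (n + 1))
      (by rw [hψ1]; exact Subtype.ext (AlgHom.ext fun _ => rfl))
    have hy : F.map q (η'.elt (n + 1)) = ξ.app _ χ :=
      (injective_cmp_iff hP).1 (hRS _ _ _ _ hP (truncMap_surjective A n)).1 _ _
        (by rw [← map_comp_app F q p', hq1, η'.compat, ← ξ.natural, hχ1, hψ2])
        (by rw [← map_comp_app F q p'', hq2, ← hφn, ← ξ.natural, hχ2])
    obtain ⟨ω, hω1, hω2⟩ := hξ q hqs χ _ hy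
    refine ⟨⟨ω, ?_, hω2⟩, ?_⟩
    · rw [← hq2, homSet_map_comp, hω1, hχ2]
    · show HomSet.map (A'.truncMap n) ω = ψ
      rw [← hq1, homSet_map_comp, hω1, hχ1]
  choose step hstep using hstep
  let base : {ψ : HomSet R.carrier R.res (A'.trunc 0) //
      HomSet.map (CRing.truncMapOfHom g hg 0) ψ = φn 0 ∧ ξ.app _ ψ = η'.elt 0} := ⟨ψ0, hψ0, hψ0'⟩
  let ψn : ∀ n, {ψ : HomSet R.carrier R.res (A'.trunc n) //
      HomSet.map (CRing.truncMapOfHom g hg n) ψ = φn n ∧ ξ.app _ ψ = η'.elt n} :=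
    fun n => Nat.rec base step n
  obtain ⟨Ψ, hΨ, hΨn⟩ := exists_algHom_of_truncs A' (fun n => (ψn n).1) fun n => hstep n (ψn n)
  refine ⟨Ψ, hΨ, algHom_ext_truncs fun n => ?_, FormalElt.ext' fun n => ?_⟩
  · refine Eq.trans ?_ (congrArg Subtype.val (ψn n).2.1)
    show _ = (CRing.truncMapOfHom g hg n).toAlgHom.comp (ψn n).1.1
    rw [← hΨn n]
    rfl
  · exact (congrArg (ξ.app _) (Subtype.ext (hΨn n))).trans (ψn n).2.2


/-- If `h_R` is smooth, every surjection onto `R` has a section. -/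
theorem exists_section_of_smooth (R : CRing Λ k) (hR : IsSmoothFunctor (hR R.carrier R.res))
    (S : CRing Λ k) (π : S.carrier →ₐ[Λ] R.carrier) (hπ : R.res.comp π = S.res) (hs : Function.Surjective π) :
    ∃ σ : R.carrier →ₐ[Λ] S.carrier, π.comp σ = AlgHom.id Λ R.carrier := by
  let F : Art Λ k ⥤ Type u := (CategoryTheory.Functor.const _).obj PUnit
  let ξ : Family R.carrier R.res F := { app := fun _ _ => PUnit.unit, natural := fun _ _ => rfl }
  have hsub : ∀ A, Subsingleton (F.obj A) := fun A => inferInstanceAs (Subsingleton PUnit)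
  have hv : IsVersal ξ := fun B A μ hμ φ y _ => by
    obtain ⟨ψ, hψ⟩ := hR μ hμ φ
    exact ⟨ψ, hψ, (hsub B).elim _ _⟩
  obtain ⟨σ, -, hσ, -⟩ := exists_lift_cring (F := F) (fun B A A₁ A₂ p₁ p₂ f₁ f₂ h _ =>
      ⟨fun a b _ => (hsub B).elim a b, fun x => ⟨PUnit.unit, FibProd.ext ((hsub _).elim _ _) ((hsub _).elim _ _)⟩⟩)
    R ξ hv S R π hπ hs ⟨fun _ => PUnit.unit, fun _ => rfl⟩ (AlgHom.id Λ R.carrier) (AlgHom.comp_id _) rfl
  exact ⟨σ, hσ⟩

end Groth.Agent.ArtKit
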