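import Groth.Agent.ArtKit.Coprod
import Groth.Agent.ArtKit.Hull
import Mathlib.Algebra.Module.SpanRankOperations

/-!
# Limits of systems of Artinian algebras with bounded embedding dimension
-/

set_option autoImplicit false
universe u v

open CategoryTheory ArtFun IsLocalRing

namespace Groth.Agent.ArtKit

variable {Λ : Type u} {k : Type u} [CommRing Λ] [Field k] [Algebra Λ k]

lemma map_maximalIdeal_eq {A B : Art Λ k} (f : B ⟶ A) (hf : Function.Surjective f) :
    (maximalIdeal B).map f.toAlgHom = maximalIdeal A := by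
  refine le_antisymm (map_maximalIdeal_le B.res_surjective A.res_surjective f.toAlgHom f.res_comp) fun y hy => ?_
  obtain ⟨x, rfl⟩ := hf y
  refine Ideal.mem_map_of_mem _ ?_
  rw [Art.mem_maximalIdeal_iff, Art.res_app] at hy
  exact (Art.mem_maximalIdeal_iff _ _).2 hy

lemma span_image_eq {A B : Art Λ k} (f : B ⟶ A) (hf : Function.Surjective f) {s : Set B}
    (hs : Ideal.span s = maximalIdeal B) : Ideal.span (f '' s) = maximalIdeal A := by
  rw [← map_maximalIdeal_eq f hf, ← hs, Ideal.map_span]

lemma spanFinrank_le_of_surjective {A B : Art Λ k} (f : B ⟶ A) (hf : Function.Surjective f) :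
    (maximalIdeal A).spanFinrank ≤ (maximalIdeal B).spanFinrank := by
  classical
  obtain ⟨s, hcard, hs⟩ := Submodule.FG.exists_span_finset_card_eq_spanFinrank (IsNoetherian.noetherian (maximalIdeal B))
  rw [← hcard, ← span_image_eq f hf hs]
  refine le_trans (Submodule.spanFinrank_span_le_ncard_of_finite (s.finite_toSet.image _)) ?_
  exact (Set.ncard_image_le s.finite_toSet).trans (Set.ncard_coe_finset s).le

/-- With equal embedding dimensions the kernel lies in `m²`. -/
lemma ker_le_sq {A B : Art Λ k} (f : B ⟶ A) (hf : Function.Surjective f)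
    (h : (maximalIdeal B).spanFinrank ≤ (maximalIdeal A).spanFinrank) :
    RingHom.ker f.toAlgHom ≤ maximalIdeal B ^ 2 := by
  classical
  intro x hx
  by_contra hx2
  obtain ⟨s, hcard, hs⟩ := Submodule.FG.exists_span_finset_card_eq_spanFinrank (IsNoetherian.noetherian (maximalIdeal B))
  have hxm : x ∈ maximalIdeal B := ker_le_maximalIdeal f hx
  obtain ⟨a, -, ha⟩ := Submodule.mem_span_finset.1 (hs ▸ hxm : x ∈ Submodule.span B (s : Set B))
  obtain ⟨g, hgs, hga⟩ : ∃ g ∈ s, IsUnit (a g) := by
    by_contra hall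
    push Not at hall
    refine hx2 (ha ▸ sum_mem fun g hg => ?_)
    rw [pow_two]
    exact Ideal.mul_mem_mul ((IsLocalRing.mem_maximalIdeal _).2 (hall g hg)) (hs ▸ Submodule.subset_span hg)
  have hfg : f g ∈ Submodule.span A (f '' (↑(s.erase g) : Set B)) := by
    have hsum : ∑ i ∈ s.erase g, f (a i) * f i + f (a g) * f g = 0 := by
      rw [Finset.sum_erase_add _ _ hgs, ← RingHom.mem_ker.1 hx, ← ha, map_sum]
      simp only [smul_eq_mul, map_mul]
    refine (Ideal.unit_mul_mem_iff_mem _ (hga.map f.toAlgHom)).1 ?_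
    rw [eq_neg_of_add_eq_zero_right hsum]
    exact neg_mem (sum_mem fun i hi => Ideal.mul_mem_left _ _ (Submodule.subset_span ⟨i, hi, rfl⟩))
  have hle : maximalIdeal A ≤ Submodule.span A (f '' (↑(s.erase g) : Set B)) := by
    rw [← span_image_eq f hf hs]
    refine Submodule.span_le.2 ?_
    rintro _ ⟨i, hi, rfl⟩
    by_cases hig : i = g
    · subst hig; exact hfg
    · exact Submodule.subset_span ⟨i, Finset.mem_erase.2 ⟨hig, hi⟩, rfl⟩
  have hspan : Submodule.span A (f '' (↑(s.erase g) : Set B)) = maximalIdeal A :=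
    le_antisymm (Submodule.span_le.2 (by
      rintro _ ⟨i, hi, rfl⟩
      rw [← map_maximalIdeal_eq f hf]
      exact Ideal.mem_map_of_mem _ (hs ▸ Submodule.subset_span (Finset.mem_of_mem_erase hi)))) hle
  have h2 : (maximalIdeal A).spanFinrank ≤ (s.erase g).card := by
    rw [← hspan]
    refine le_trans (Submodule.spanFinrank_span_le_ncard_of_finite ((s.erase g).finite_toSet.image _)) ?_
    exact (Set.ncard_image_le (s.erase g).finite_toSet).trans (Set.ncard_coe_finset _).le
  have h3 := Finset.card_erase_lt_of_mem hgs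
  omega

/-- Extending an element of one stage to a compatible sequence. -/
lemma exists_seq : ∀ (n₀ : ℕ) (A : ℕ → Art Λ k) (f : ∀ n, A (n + 1) ⟶ A n), (∀ n, Function.Surjective (f n)) →
    ∀ a : A n₀, ∃ s : ∀ n, A n, (∀ n, f n (s (n + 1)) = s n) ∧ s n₀ = a := by
  intro n₀
  induction n₀ with
  | zero =>
    intro A f hf a
    choose g hg using hf
    exact ⟨fun n => Nat.rec (motive := fun n => A n) a (fun n x => g n x) n, fun n => hg n _, rfl⟩
  | succ n₀ ih =>
    intro A f hf a
    obtain ⟨s, hs, hsa⟩ := ih (fun n => A (n + 1)) (fun n => f (n + 1)) (fun n => hf (n + 1)) a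
    refine ⟨fun n => Nat.casesOn (motive := fun n => A n) n (f 0 (s 0)) s, fun n => ?_, hsa⟩
    cases n with
    | zero => rfl
    | succ n => exact hs n

variable [IsNoetherianRing Λ] [Module.Finite Λ k]

/-- The limit of a system of surjections with bounded embedding dimension is a coefficient ring. -/
theorem exists_limit (A : ℕ → Art Λ k) (f : ∀ n, A (n + 1) ⟶ A n) (hf : ∀ n, Function.Surjective (f n))
    (d : ℕ) (hd : ∀ n, Module.finrank (ResidueField (A n)) (CotangentSpace (A n)) ≤ d) :
    ∃ (S : CRing Λ k) (π : ∀ n, HomSet S.carrier S.res (A n)),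
      (∀ n, HomSet.map (f n) (π (n + 1)) = π n) ∧
      (∀ n, Function.Surjective (π n).1) ∧
      (∀ a : ∀ n, A n, (∀ n, f n (a (n + 1)) = a n) → ∃! s : S.carrier, ∀ n, (π n).1 s = a n) ∧
      (∀ n, ∃ N, RingHom.ker (π N).1 ≤ maximalIdeal S.carrier ^ n) ∧
      (∀ n, ∃ N, maximalIdeal S.carrier ^ N ≤ RingHom.ker (π n).1) := by
  classical
  -- the embedding dimension is eventually constant
  let ν : ℕ → ℕ := fun n => (maximalIdeal (A n)).spanFinrank
  have hν : ∀ n, ν n ≤ d := fun n => (spanFinrank_maximalIdeal_eq_finrank_cotangentSpace (A n)).trans_le (hd n)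
  have hmono : Monotone ν := monotone_nat_of_le_succ fun n => spanFinrank_le_of_surjective (f n) (hf n)
  obtain ⟨n₀, hn₀⟩ : ∃ n₀, ∀ n, ν n ≤ ν n₀ := by
    have hbdd : BddAbove (Set.range ν) := ⟨d, by rintro _ ⟨n, rfl⟩; exact hν n⟩
    obtain ⟨n₀, hn₀⟩ := Nat.sSup_mem (Set.range_nonempty ν) hbdd
    exact ⟨n₀, fun n => hn₀ ▸ le_csSup hbdd ⟨n, rfl⟩⟩
  obtain ⟨e, g, hg⟩ := Submodule.fg_iff_exists_fin_generating_family.1 (IsNoetherian.noetherian (maximalIdeal (A n₀)))
  have hgm : Ideal.span (Set.range g) = maximalIdeal (A n₀) := hg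
  obtain ⟨r, c, hc⟩ := exists_generators Λ k
  choose l hl using fun i => (A 0).res_surjective (c i)
  choose sl hsl hsl0 using fun i => exists_seq 0 A f hf (l i)
  choose sg hsg hsgn using fun j => exists_seq n₀ A f hf (g j)
  have hres : ∀ {s : ∀ n, A n}, (∀ n, f n (s (n + 1)) = s n) → ∀ n m, (A n).res (s n) = (A m).res (s m) := by
    intro s hs n m
    have : ∀ n, (A n).res (s n) = (A 0).res (s 0) := fun n => by
      induction n with
      | zero => rfl
      | succ n ih => rw [← ih, ← hs n, Art.res_app]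
    rw [this, this m]
  let cc : Fin r ⊕ Fin e → k := Sum.elim c fun _ => 0
  have hcc : Function.Surjective (MvPolynomial.aeval (R := Λ) cc) := fun a => by
    obtain ⟨p, rfl⟩ := hc a
    exact ⟨MvPolynomial.rename Sum.inl p, by rw [MvPolynomial.aeval_rename]; rfl⟩
  obtain ⟨U, z, hU⟩ := exists_polyRing cc hcc
  let val : ∀ n, Fin r ⊕ Fin e → A n := fun n => Sum.elim (fun i => sl i n) fun j => sg j n
  have hval : ∀ n i, (A n).res (val n i) = cc i := by
    rintro n (i | j)
    · exact (hres (hsl i) n 0).trans ((congrArg (A 0).res (hsl0 i)).trans (hl i))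
    · refine (hres (hsg j) n n₀).trans ?_
      rw [hsgn]
      show (A n₀).res (g j) = 0
      rw [← Art.mem_maximalIdeal_iff, ← hgm]
      exact Ideal.subset_span ⟨j, rfl⟩
  choose φ hφ hφu using fun n => hU.2 (A n) (val n) (hval n)
  have hφc : ∀ n, HomSet.map (f n) (φ (n + 1)) = φ n := fun n => hφu n _ fun i => by
    rw [homSet_map_apply, hφ]
    cases i with
    | inl i => exact hsl i n
    | inr j => exact hsg j n
  have hgen : ∀ n, n₀ ≤ n → Ideal.span (Set.range fun j => sg j n) ⊔ maximalIdeal (A n) ^ 2 = maximalIdeal (A n) := by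
    intro n hn
    induction hn with
    | refl =>
      simp only [hsgn, hgm]
      exact sup_eq_left.2 (Ideal.pow_le_self two_ne_zero)
    | @step n hn ih =>
      have hK := ker_le_sq (f n) (hf n) ((hn₀ (n + 1)).trans (hmono hn))
      refine le_antisymm (sup_le (Ideal.span_le.2 ?_) (Ideal.pow_le_self two_ne_zero)) fun x hx => ?_
      · rintro _ ⟨j, rfl⟩
        rw [SetLike.mem_coe, Art.mem_maximalIdeal_iff]
        exact hval (n + 1) (Sum.inr j)
      · have h1 : f n x ∈ Ideal.map (f n).toAlgHom (Ideal.span (Set.range fun j => sg j (n + 1)) ⊔ maximalIdeal (A (n + 1)) ^ 2) := by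
          rw [Ideal.map_sup, Ideal.map_span, Ideal.map_pow, map_maximalIdeal_eq (f n) (hf n), ← Set.range_comp,
            show ((f n).toAlgHom ∘ fun j => sg j (n + 1)) = fun j => sg j n from funext fun j => hsg j n]
          rw [ih, ← map_maximalIdeal_eq (f n) (hf n)]
          exact Ideal.mem_map_of_mem _ hx
        obtain ⟨y, hy, hyx⟩ := (Ideal.mem_map_iff_of_surjective _ (hf n)).1 h1
        rw [← sub_add_cancel x y]
        exact add_mem (Ideal.mem_sup_right (hK (RingHom.mem_ker.2 (by rw [map_sub, hyx, sub_self])))) hy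
  have hsurj : ∀ n, Function.Surjective (φ n).1 := by
    have hhi : ∀ n, n₀ ≤ n → Function.Surjective (φ n).1 := fun n hn => by
      have := U.isAdicComplete
      refine ((surjective_tfae_cotangent U.res_surjective (A n).res_surjective (φ n).1 (φ n).2).out 1 0).1 ?_
      refine le_antisymm (sup_le (map_maximalIdeal_le U.res_surjective (A n).res_surjective (φ n).1 (φ n).2)
        (Ideal.pow_le_self two_ne_zero)) ?_
      conv_lhs => rw [← hgen n hn]
      refine sup_le_sup_right (Ideal.span_le.2 ?_) _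
      rintro _ ⟨j, rfl⟩
      show sg j n ∈ _
      rw [show sg j n = (φ n).1 (z (Sum.inr j)) from (hφ n (Sum.inr j)).symm]
      exact Ideal.mem_map_of_mem _ ((CRing.mem_maximalIdeal_iff U _).2 (hU.1 _))
    intro n
    rcases le_total n₀ n with h | h
    · exact hhi n h
    · obtain ⟨j, rfl⟩ := Nat.exists_eq_add_of_le h
      clear h hφc
      have hc' : ∀ m, HomSet.map (f m) (φ (m + 1)) = φ m := fun m => hφu m _ fun i => by
        rw [homSet_map_apply, hφ]
        cases i with
        | inl i => exact hsl i m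
        | inr j => exact hsg j m
      have key : ∀ j m, Function.Surjective (φ (m + j)).1 → Function.Surjective (φ m).1 := by
        intro j
        induction j with
        | zero => exact fun m hm => hm
        | succ j ih =>
          intro m hm
          refine ih m ?_
          rw [← hc' (m + j)]
          exact (hf (m + j)).comp hm
      exact key j n (hhi _ le_rfl)
  have hanti : Antitone fun n => RingHom.ker (φ n).1 := antitone_nat_of_succ_le fun n x hx => by
    rw [RingHom.mem_ker] at hx ⊢
    rw [← hφc n, homSet_map_apply, hx, map_zero]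
  let J : Ideal U.carrier := ⨅ n, RingHom.ker (φ n).1
  have hJm : J ≤ maximalIdeal U.carrier := iInf_le_of_le 0 fun s hs => by
    rw [CRing.mem_maximalIdeal_iff, ← homSet_res_app (φ 0), RingHom.mem_ker.1 hs, map_zero]
  obtain ⟨S, q, hq, hqs, hqk⟩ := exists_quotient U J hJm
  have hbar : ∀ n, ∃ p : HomSet S.carrier S.res (A n), ∀ u, p.1 (q u) = (φ n).1 u := fun n => by
    let g := AlgHom.liftOfSurjective q hqs (φ n).1 (hqk.le.trans (iInf_le _ n))
    have hg : ∀ u, g (q u) = (φ n).1 u := AlgHom.liftOfSurjective_apply q hqs _ _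
    refine ⟨⟨g, AlgHom.ext fun w => ?_⟩, hg⟩
    obtain ⟨u, rfl⟩ := hqs w
    rw [AlgHom.comp_apply, hg, homSet_res_app, ← DFunLike.congr_fun hq u]
    rfl
  choose π hπ using hbar
  have hπs : ∀ n, Function.Surjective (π n).1 := fun n y => by
    obtain ⟨u, rfl⟩ := hsurj n y
    exact ⟨q u, hπ n u⟩
  have hπc : ∀ n, HomSet.map (f n) (π (n + 1)) = π n := fun n => Subtype.ext (AlgHom.ext fun w => by
    obtain ⟨u, rfl⟩ := hqs w
    rw [homSet_map_apply, hπ, hπ, ← homSet_map_apply, hφc])
  have hπanti : Antitone fun n => RingHom.ker (π n).1 := antitone_nat_of_succ_le fun n x hx => by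
    rw [RingHom.mem_ker] at hx ⊢
    rw [← hπc n, homSet_map_apply, hx, map_zero]
  have hzero : ∀ w, (∀ n, (π n).1 w = 0) → w = 0 := fun w hw => by
    obtain ⟨u, rfl⟩ := hqs w
    exact RingHom.mem_ker.1 (hqk.ge ((Submodule.mem_iInf _).2 fun n => RingHom.mem_ker.2 ((hπ n u).symm.trans (hw n))))
  have hcof : ∀ n, ∃ N, RingHom.ker (π N).1 ≤ maximalIdeal S.carrier ^ n := fun n => by
    obtain ⟨N, hN⟩ := chevalley S (fun n => RingHom.ker (π n).1) hπanti (fun m => exists_pow_le_ker S (π m)) n
    refine ⟨N, hN.trans (sup_le (fun w hw => ?_) (Ideal.pow_le_pow_right (Nat.le_succ n)))⟩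
    rw [hzero w fun m => RingHom.mem_ker.1 ((Submodule.mem_iInf _).1 hw m)]
    exact zero_mem _
  refine ⟨S, π, hπc, hπs, fun a ha => ?_, hcof, fun n => (exists_pow_le_ker S (π n)).elim fun m hm => ⟨m + 1, hm⟩⟩
  choose N hN using hcof
  let M : ℕ → ℕ := fun i => Nat.rec (N 0) (fun i Mi => max (max Mi (N (i + 1))) (i + 1)) i
  have hMN : ∀ i, N i ≤ M i := fun i => by
    cases i with
    | zero => exact le_rfl
    | succ i => exact (le_max_right _ _).trans (le_max_left _ _)
  have hMi : ∀ i, i ≤ M i := fun i => by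
    cases i with
    | zero => exact Nat.zero_le _
    | succ i => exact le_max_right _ _
  have hMmono : Monotone M := monotone_nat_of_le_succ fun i => (le_max_left _ _).trans (le_max_left _ _)
  choose w hw using fun n => hπs n (a n)
  have hdown : ∀ {i j}, i ≤ j → (π i).1 (w j) = a i := by
    intro i j hij
    suffices H : ∀ (v : S.carrier), (π j).1 v = a j → (π i).1 v = a i from H _ (hw j)
    induction hij with
    | refl => exact fun v h => h
    | @step j hij ih =>
      intro v hv
      refine ih v ?_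
      rw [← hπc j, homSet_map_apply, hv, ha]
  have := S.isAdicComplete
  obtain ⟨s, hs⟩ := IsPrecomplete.prec inferInstance (I := maximalIdeal S.carrier) (f := fun i => w (M i))
    fun {i j} hij => by
      rw [SModEq.sub_mem, smul_eq_mul, Ideal.mul_top]
      refine hN i ((hπanti (hMN i)) ?_)
      rw [RingHom.mem_ker, map_sub, hw, hdown (hMmono hij), sub_self]
  refine ⟨s, fun n => ?_, fun s' hs' => ?_⟩
  · obtain ⟨c', hc'⟩ := exists_pow_le_ker S (π n)
    let i := max (c' + 1) n
    have h1 := hs i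
    rw [SModEq.sub_mem, smul_eq_mul, Ideal.mul_top] at h1
    have h2 := RingHom.mem_ker.1 (hc' (Ideal.pow_le_pow_right (le_max_left _ _) h1))
    rw [map_sub, sub_eq_zero, hdown ((le_max_right (c' + 1) n).trans (hMi i))] at h2
    exact h2.symm
  · refine sub_eq_zero.1 (hzero _ fun n => ?_)
    obtain ⟨c', hc'⟩ := exists_pow_le_ker S (π n)
    let i := max (c' + 1) n
    have h1 := hs i
    rw [SModEq.sub_mem, smul_eq_mul, Ideal.mul_top] at h1
    have h2 := RingHom.mem_ker.1 (hc' (Ideal.pow_le_pow_right (le_max_left _ _) h1))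
    rw [map_sub, sub_eq_zero, hdown ((le_max_right (c' + 1) n).trans (hMi i))] at h2
    rw [map_sub, hs', ← h2, sub_self]

end Groth.Agent.ArtKit
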