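import Groth.Agent.ArtKit.PSRing
import Groth.Agent.ArtKit.LiftCRing
import Groth.Agent.ArtKit.Lifts

/-!
# Formally smooth maps of coefficient rings are power series extensions
-/

set_option autoImplicit false
universe u v

noncomputable section
open CategoryTheory IsLocalRing MvPowerSeries ArtFun

namespace Groth.Agent.ArtKit

variable {Λ : Type u} {k : Type u} [CommRing Λ] [Field k] [Algebra Λ k]

/-- The ideal `m_R B + m_B²` of a map of coefficient rings. -/
abbrev relSq {R S : CRing Λ k} (ι : R.carrier →ₐ[Λ] S.carrier) : Ideal S.carrier :=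
  Ideal.map ι (maximalIdeal R.carrier) ⊔ maximalIdeal S.carrier ^ 2

/-- A power series presentation over `R` which is minimal modulo `m_R S + m_S²`. -/
theorem exists_minimal_psHom (R S : CRing Λ k) (ι : R.carrier →ₐ[Λ] S.carrier) (hι : S.res.comp ι = R.res) :
    ∃ (n : ℕ) (φ : (psRing n R).carrier →ₐ[Λ] S.carrier), S.res.comp φ = (psRing n R).res ∧
      φ.comp (psC n R) = ι ∧ Function.Surjective φ ∧ RingHom.ker φ ≤ relSq (psC n R) := by
  classical
  have hex : ∃ n : ℕ, ∃ x : Fin n → S.carrier,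
      Ideal.span (Set.range x) ⊔ relSq ι = maximalIdeal S.carrier := by
    obtain ⟨t, ht⟩ := (IsNoetherian.noetherian (maximalIdeal S.carrier) : (maximalIdeal S.carrier).FG)
    refine ⟨t.card, fun i => (t.equivFin.symm i : S.carrier), ?_⟩
    rw [show Set.range (fun i => (t.equivFin.symm i : S.carrier)) = ↑t by
      ext y; exact ⟨fun ⟨i, hi⟩ => hi ▸ (t.equivFin.symm i).2, fun hy => ⟨t.equivFin ⟨y, hy⟩, by simp⟩⟩]
    rw [Ideal.span, ht]
    exact sup_eq_left.2 (sup_le (map_maximalIdeal_le R.res_surjective S.res_surjective ι hι)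
      (Ideal.pow_le_self two_ne_zero))
  obtain ⟨x, hx⟩ := Nat.find_spec hex
  have hxm : ∀ i, x i ∈ maximalIdeal S.carrier := fun i =>
    hx.le (Ideal.mem_sup_left (Ideal.subset_span ⟨i, rfl⟩))
  obtain ⟨φ, ⟨hres, hC, hX⟩, -⟩ := existsUnique_psRing (Nat.find hex) R S ι hι x
    fun i => (CRing.mem_maximalIdeal_iff S _).1 (hxm i)
  have hC' : ∀ a, φ (C a) = ι a := fun a => by rw [← psC_apply]; exact DFunLike.congr_fun hC a
  refine ⟨_, φ, hres, hC, ?_, ?_⟩
  · have := (psRing (Nat.find hex) R).isAdicComplete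
    refine ((surjective_tfae_cotangent (psRing (Nat.find hex) R).res_surjective S.res_surjective φ hres).out 1 0).1
      (le_antisymm (sup_le (map_maximalIdeal_le (psRing _ R).res_surjective S.res_surjective φ hres)
        (Ideal.pow_le_self two_ne_zero)) ?_)
    refine hx.ge.trans (sup_le (Ideal.span_le.2 ?_) (sup_le_sup_right (Ideal.map_le_iff_le_comap.2 fun a ha => ?_) _))
    · rintro _ ⟨i, rfl⟩
      rw [← hX i]
      exact Ideal.mem_sup_left (Ideal.mem_map_of_mem _ ((CRing.mem_maximalIdeal_iff _ _).2 (psRing_res_X _ R i)))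
    · rw [Ideal.mem_comap, ← hC']
      exact Ideal.mem_map_of_mem _ ((CRing.mem_maximalIdeal_iff _ _).2
        ((psRing_res_C _ R a).trans ((CRing.mem_maximalIdeal_iff R a).1 ha)))
  · intro f hf
    obtain ⟨c, hc⟩ := Ideal.mem_span_range_iff_exists_fun.mp (ArtPow.sub_C_constantCoeff_mem f)
    have hf' : f = (∑ i, c i * X i) + C (constantCoeff f) := eq_add_of_sub_eq hc.symm
    have hsum : (∑ i, φ (c i) * x i) + ι (constantCoeff f) = 0 := by
      have h0 : φ f = 0 := hf
      conv_lhs at h0 => rw [hf']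
      simpa [hX, hC'] using h0
    have hmS : ∑ i, φ (c i) * x i ∈ maximalIdeal S.carrier := sum_mem fun i _ => Ideal.mul_mem_left _ _ (hxm i)
    have ha : constantCoeff f ∈ maximalIdeal R.carrier := by
      rw [CRing.mem_maximalIdeal_iff, ← hι, AlgHom.comp_apply, ← CRing.mem_maximalIdeal_iff]
      exact (Submodule.add_mem_iff_right _ hmS).1 (hsum ▸ zero_mem _)
    have hcj : ∀ j, φ (c j) ∈ maximalIdeal S.carrier := fun j => by_contra fun hu => by
      have hu' : IsUnit (φ (c j)) := not_not.1 fun h => hu ((IsLocalRing.mem_maximalIdeal _).2 h)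
      obtain ⟨m, hm⟩ : ∃ m, Nat.find hex = m + 1 := ⟨Nat.find hex - 1, by
        have := j.pos
        omega⟩
      let j' : Fin (m + 1) := Fin.cast hm j
      let x' : Fin m → S.carrier := fun i => x (Fin.cast hm.symm (j'.succAbove i))
      refine Nat.find_min hex (m := m) (by omega) ⟨x', le_antisymm (sup_le (Ideal.span_le.2 ?_) (hx ▸ le_sup_right)) ?_⟩
      · rintro _ ⟨i, rfl⟩
        exact hxm _
      refine hx.ge.trans (sup_le (Ideal.span_le.2 ?_) le_sup_right)
      have hne : ∀ i, i ≠ j → x i ∈ Ideal.span (Set.range x') := fun i hi => by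
        obtain ⟨z, hz⟩ := Fin.exists_succAbove_eq (x := Fin.cast hm i) (y := j') fun h => hi (by
          have := congrArg Fin.val h
          exact Fin.ext this)
        refine Ideal.subset_span ⟨z, congrArg x (Fin.ext ?_)⟩
        exact (congrArg Fin.val hz :)
      rintro _ ⟨i, rfl⟩
      rcases eq_or_ne i j with rfl | hi
      · have hxi : φ (c i) * x i = -((∑ l ∈ Finset.univ.erase i, φ (c l) * x l) + ι (constantCoeff f)) := by
          rw [← Finset.add_sum_erase _ _ (Finset.mem_univ i), add_assoc] at hsum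
          exact eq_neg_of_add_eq_zero_left hsum
        refine (Ideal.unit_mul_mem_iff_mem _ hu').1 (hxi ▸ neg_mem (add_mem (Ideal.mem_sup_left
          (sum_mem fun l hl => Ideal.mul_mem_left _ _ (hne l (Finset.ne_of_mem_erase hl))))
          (Ideal.mem_sup_right (Ideal.mem_sup_left (Ideal.mem_map_of_mem _ ha)))))
      · exact Ideal.mem_sup_left (hne i hi)
    rw [hf']
    refine add_mem (sum_mem fun i _ => Ideal.mem_sup_right ?_) (Ideal.mem_sup_left ?_)
    · rw [pow_two]
      refine Ideal.mul_mem_mul ?_ ((CRing.mem_maximalIdeal_iff _ _).2 (psRing_res_X _ R i))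
      rw [CRing.mem_maximalIdeal_iff, ← hres, AlgHom.comp_apply, ← CRing.mem_maximalIdeal_iff]
      exact hcj i
    · rw [← psC_apply]
      exact Ideal.mem_map_of_mem _ ha

/-- A section of a presentation minimal modulo `m_R + m²` is bijective. -/
theorem bijective_of_section {R P S : CRing Λ k} (j : R.carrier →ₐ[Λ] P.carrier) (φ : P.carrier →ₐ[Λ] S.carrier)
    (hφ : S.res.comp φ = P.res) (hker : RingHom.ker φ ≤ relSq j) (σ : S.carrier →ₐ[Λ] P.carrier)
    (hσ : P.res.comp σ = S.res) (hsec : φ.comp σ = AlgHom.id Λ S.carrier)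
    (hj : Ideal.map j (maximalIdeal R.carrier) ≤ Ideal.map σ (maximalIdeal S.carrier) ⊔ maximalIdeal P.carrier ^ 2) :
    Function.Bijective σ := by
  have := S.isAdicComplete
  refine ⟨Function.LeftInverse.injective (g := φ) fun s => DFunLike.congr_fun hsec s,
    ((surjective_tfae_cotangent S.res_surjective P.res_surjective σ hσ).out 1 0).1 (le_antisymm
      (sup_le (map_maximalIdeal_le S.res_surjective P.res_surjective σ hσ) (Ideal.pow_le_self two_ne_zero)) ?_)⟩
  intro f hf
  rw [← sub_add_cancel f (σ (φ f))]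
  refine add_mem (sup_le hj le_sup_right (hker ?_)) (Ideal.mem_sup_left (Ideal.mem_map_of_mem _ ?_))
  · rw [RingHom.mem_ker, map_sub]
    exact sub_eq_zero.2 (DFunLike.congr_fun hsec (φ f)).symm
  · rw [CRing.mem_maximalIdeal_iff, ← DFunLike.congr_fun hφ f] at hf
    exact (CRing.mem_maximalIdeal_iff _ _).2 hf

/-- A formally smooth map of coefficient rings is a power series extension. -/
theorem exists_psEquiv_of_versal [IsNoetherianRing Λ] [Module.Finite Λ k] (R S : CRing Λ k)
    (ι : R.carrier →ₐ[Λ] S.carrier) (hι : S.res.comp ι = R.res)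
    (hv : IsVersal ((Family.self R.carrier R.res).along ι hι)) :
    ∃ (n : ℕ) (e : S.carrier ≃ₐ[Λ] (psRing n R).carrier), ∀ a, e (ι a) = psC n R a := by
  obtain ⟨n, φ, hres, hC, hs, hker⟩ := exists_minimal_psHom R S ι hι
  have hid : S.res.comp (AlgHom.id Λ S.carrier) = S.res := AlgHom.comp_id _
  obtain ⟨σ, hσ, hsec, hσι⟩ := exists_lift_cring (F := hR R.carrier R.res)
    (fun B A A₁ A₂ p₁ p₂ f₁ f₂ h _ => bijective_cmp_hR h) S _ hv (psRing n R) S φ hres hs
    ((Family.self R.carrier R.res).along (psC n R) (psC_res n R)).toFormalElt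
    (AlgHom.id Λ S.carrier) hid (FormalElt.ext' fun m => Subtype.ext (AlgHom.ext fun a => by
      show (S.truncHom m).1 (ι a) = (S.truncHom m).1 (φ (psC n R a))
      rw [← hC]
      rfl))
  have hσι' : σ.comp ι = psC n R := algHom_ext_truncs fun m =>
    congrArg (fun u => Subtype.val (u.elt m)) hσι
  have hb := bijective_of_section (psC n R) φ hres hker σ hσ hsec
    ((Ideal.map_le_iff_le_comap.2 fun a ha => by
      rw [Ideal.mem_comap, ← hσι', AlgHom.comp_apply]
      exact Ideal.mem_sup_left (Ideal.mem_map_of_mem _ (by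
        rw [CRing.mem_maximalIdeal_iff] at ha ⊢
        exact (DFunLike.congr_fun hι a).trans ha))))
  exact ⟨n, AlgEquiv.ofBijective σ hb, fun a => DFunLike.congr_fun hσι' a⟩

/-- Power series extensions are formally smooth. -/
theorem isVersal_along_of_psEquiv (R S : CRing Λ k) (ι : R.carrier →ₐ[Λ] S.carrier) (hι : S.res.comp ι = R.res)
    (n : ℕ) (e : S.carrier ≃ₐ[Λ] MvPowerSeries (Fin n) R.carrier)
    (he : ∀ a, e (ι a) = algebraMap R.carrier _ a) :
    IsVersal ((Family.self R.carrier R.res).along ι hι) := by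
  intro B A μ hμ φ y hy
  let y' : HomSet R.carrier R.res B := y
  have hy' : μ.toAlgHom.comp y'.1 = φ.1.comp ι := congrArg Subtype.val hy
  let _ : Algebra R.carrier B := y'.1.toRingHom.toAlgebra
  let _ : Algebra R.carrier A := (φ.1.comp ι).toRingHom.toAlgebra
  have : IsScalarTower Λ R.carrier B := IsScalarTower.of_algebraMap_eq fun r => (y'.1.commutes r).symm
  let φ' : MvPowerSeries (Fin n) R.carrier →ₐ[R.carrier] A :=
    { (φ.1.comp (e.symm : MvPowerSeries (Fin n) R.carrier →ₐ[Λ] S.carrier)).toRingHom with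
      commutes' := fun a => by
        show φ.1 (e.symm (algebraMap R.carrier _ a)) = φ.1 (ι a)
        rw [← he, AlgEquiv.symm_apply_apply] }
  have hXA : ∀ i, φ' (X i) ∈ maximalIdeal A := fun i => by
    rw [Art.mem_maximalIdeal_iff]
    show A.res (φ.1 (e.symm (X i))) = 0
    rw [homSet_res_app, ← CRing.mem_maximalIdeal_iff, IsLocalRing.mem_maximalIdeal, mem_nonunits_iff,
      isUnit_map_iff e.symm, isUnit_iff_constantCoeff, constantCoeff_X]
    exact not_isUnit_zero
  choose b hb using fun i => hμ (φ' (X i))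
  have hbm : ∀ i, b i ∈ maximalIdeal B := fun i => by
    rw [Art.mem_maximalIdeal_iff, ← Art.res_app μ, hb, ← Art.mem_maximalIdeal_iff]
    exact hXA i
  obtain ⟨N, hN⟩ := exists_pow_succ B
  have hnil : ∀ i, IsNilpotent (b i) := fun i => ⟨N + 1, by simpa [hN] using Ideal.pow_mem_pow (hbm i) (N + 1)⟩
  let g := ArtPow.evalNil (R := R.carrier) b hnil
  let μ' : B →ₐ[R.carrier] A :=
    { μ.toAlgHom.toRingHom with commutes' := fun a => DFunLike.congr_fun hy' a }
  obtain ⟨M, hM⟩ := exists_pow_succ A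
  have hg : μ'.comp g = φ' := (ArtPow.algHom_ext hM
    (fun i => by
      show φ' (X i) = μ (g (X i))
      rw [ArtPow.evalNil_X]; exact (hb i).symm) hXA).symm
  let ψ : S.carrier →ₐ[Λ] B := (g.restrictScalars Λ).comp (e : S.carrier →ₐ[Λ] MvPowerSeries (Fin n) R.carrier)
  have hψ : μ.toAlgHom.comp ψ = φ.1 := AlgHom.ext fun s =>
    (DFunLike.congr_fun hg (e s)).trans (congrArg φ.1 (e.symm_apply_apply s))
  have hψres : B.res.comp ψ = S.res := by rw [← μ.res_comp, AlgHom.comp_assoc, hψ, φ.2]
  refine ⟨⟨ψ, hψres⟩, Subtype.ext hψ, Subtype.ext (AlgHom.ext fun a => ?_)⟩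
  show g (e (ι a)) = y'.1 a
  rw [he, AlgHom.commutes]
  rfl

end Groth.Agent.ArtKit

namespace Groth.Agent.ArtKit

variable {Λ : Type u} {k : Type u} [CommRing Λ] [Field k] [Algebra Λ k]
variable [IsNoetherianRing Λ] [IsLocalRing Λ] [IsAdicComplete (IsLocalRing.maximalIdeal Λ) Λ]

/-- The base ring as a coefficient ring. -/
@[reducible] noncomputable def baseRing (hk : Function.Surjective (algebraMap Λ k)) : CRing Λ k where
  carrier := Λ
  res := Algebra.ofId Λ k
  res_surjective := hk
  isAdicComplete := inferInstance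

/-- Smooth coefficient rings over a complete local base are power series rings. -/
theorem isSmoothFunctor_hR_iff_ps [Module.Finite Λ k] (hk : Function.Surjective (algebraMap Λ k)) (R : CRing Λ k) :
    IsSmoothFunctor (hR R.carrier R.res) ↔ ∃ n : ℕ, Nonempty (R.carrier ≃ₐ[Λ] MvPowerSeries (Fin n) Λ) := by
  have hι : R.res.comp (Algebra.ofId Λ R.carrier) = (baseRing hk).res := AlgHom.ext fun l => R.res.commutes l
  constructor
  · intro h
    obtain ⟨n, e, -⟩ := exists_psEquiv_of_versal (baseRing hk) R (Algebra.ofId Λ R.carrier) hι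
      fun B A μ hμ φ y _ => by
        obtain ⟨ψ, hψ⟩ := h μ hμ φ
        exact ⟨ψ, hψ, Subtype.ext (Subsingleton.elim _ _)⟩
    exact ⟨n, ⟨e⟩⟩
  · rintro ⟨n, ⟨e⟩⟩ B A μ hμ φ
    obtain ⟨ψ, hψ, -⟩ := isVersal_along_of_psEquiv (baseRing hk) R (Algebra.ofId Λ R.carrier) hι n e
      (fun a => e.commutes a) μ hμ φ ⟨Algebra.ofId Λ B, AlgHom.ext fun l => B.res.commutes l⟩
      (Subtype.ext (Subsingleton.elim _ _))
    exact ⟨ψ, hψ⟩

end Groth.Agent.ArtKit
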