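import Groth.Agent.ArtKit.Formal
import Groth.Prelude.Def_CAlgX
import Groth.Agent.ResExt.Completion
import Groth.Agent.AdicLim.Noetherian
import Mathlib.RingTheory.AdicCompletion.LocalRing
import Mathlib.RingTheory.Polynomial.Basic

/-!
# Completed polynomial algebras as coefficient rings; quotients of coefficient rings
-/

set_option autoImplicit false
universe u v

open CategoryTheory ArtFun IsLocalRing

namespace Groth.Agent.ArtKit

variable {Λ : Type u} {k : Type u} [CommRing Λ] [Field k] [Algebra Λ k]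

/-- The universal property of a completed polynomial algebra: a point of `h_S` is a lift of the values `c`. -/
def IsPolyRing {ι : Type} (c : ι → k) (S : CRing Λ k) (x : ι → S.carrier) : Prop :=
  (∀ i, S.res (x i) = c i) ∧
    ∀ (A : Art Λ k) (a : ι → A), (∀ i, A.res (a i) = c i) →
      ∃! φ : HomSet S.carrier S.res A, ∀ i, φ.1 (x i) = a i

/-- The completion of `Λ[X]` at the kernel of a surjective evaluation in `k`; it is formally smooth. -/
theorem exists_polyRing' [IsNoetherianRing Λ] {ι : Type} [Finite ι] (c : ι → k)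
    (hc : Function.Surjective (MvPolynomial.aeval (R := Λ) c)) :
    ∃ (S : CRing Λ k) (x : ι → S.carrier), IsPolyRing c S x ∧
      CAlgX.IsAdicFormallySmooth Λ S.carrier (maximalIdeal S.carrier) := by
  let P := MvPolynomial ι Λ
  let e : P →ₐ[Λ] k := MvPolynomial.aeval c
  let M : Ideal P := RingHom.ker e
  have hMmax : M.IsMaximal := RingHom.ker_isMaximal_of_surjective (e : P →+* k) hc
  have hfg : M.FG := IsNoetherian.noetherian M
  let C := AdicCompletion M P
  have : IsScalarTower Λ P C := IsScalarTower.of_algebraMap_eq fun l => rfl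
  have hmap : (M.map (algebraMap P C)).IsMaximal := AdicCompletion.isMaximal_map_of_le M M le_rfl hfg
  have hcompl : IsAdicComplete (M.map (algebraMap P C)) C := AdicCompletion.isAdicComplete_self _ hfg
  have hloc : IsLocalRing C := isLocalRing_of_isAdicComplete_maximal (M.map (algebraMap P C))
  have hnoe : IsNoetherianRing C := ResExt.isNoetherianRing_adicCompletion M hfg
  have hmax : maximalIdeal C = M.map (algebraMap P C) := (IsLocalRing.eq_maximalIdeal hmap).symm
  let res : C →ₐ[Λ] k :=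
    (Ideal.Quotient.liftₐ M e fun _ h => h).comp ((AdicCompletion.evalOneₐ M).restrictScalars Λ)
  have hres : ∀ p : P, res (algebraMap P C p) = e p := fun p => by
    show Ideal.Quotient.liftₐ M e (fun _ h => h) (AdicCompletion.evalOneₐ M (algebraMap P C p)) = e p
    rw [AlgHom.commutes]
    rfl
  let S : CRing Λ k :=
    { carrier := C
      res := res
      res_surjective := fun a => by
        obtain ⟨p, hp⟩ := hc a
        exact ⟨algebraMap P C p, (hres p).trans hp⟩
      isAdicComplete := by rw [hmax]; exact hcompl }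
  let x : ι → S.carrier := fun i => algebraMap P C (MvPolynomial.X i)
  have hdense : ∀ (n : ℕ) (s : C), ∃ p : P, s - algebraMap P C p ∈ maximalIdeal C ^ n := fun n s => by
    obtain ⟨p, hp⟩ := Ideal.Quotient.mk_surjective (AdicCompletion.evalₐ M n s)
    refine ⟨p, ?_⟩
    have h0 : AdicCompletion.evalₐ M n (s - algebraMap P C p) = 0 := by
      rw [map_sub, AlgHom.commutes, ← hp]
      exact sub_self _
    have h1 : s - algebraMap P C p ∈ LinearMap.ker (AdicCompletion.eval M P n) := by
      rw [LinearMap.mem_ker, ← AdicCompletion.factor_evalₐ_eq_eval (I := M) _ (by simp), h0, map_zero]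
    rw [← AdicCompletion.pow_smul_top_eq_ker_eval hfg, Ideal.smul_top_eq_map, Submodule.restrictScalars_mem,
      Ideal.map_pow] at h1
    rwa [hmax]
  refine ⟨S, x, ⟨fun i => (hres _).trans (MvPolynomial.aeval_X _ i), fun A a ha => ?_⟩, ?_⟩
  swap
  · intro A _ _ J hJ ψ ⟨n, hn⟩
    choose a ha using fun i => Ideal.Quotient.mk_surjective (ψ (x i))
    let φ₀ : P →ₐ[Λ] A := MvPolynomial.aeval a
    have hψ₀ : ∀ p : P, Ideal.Quotient.mk J (φ₀ p) = ψ (algebraMap P C p) := fun p =>
      DFunLike.congr_fun (MvPolynomial.algHom_ext (f := (Ideal.Quotient.mkₐ Λ J).comp φ₀)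
        (g := ψ.comp (IsScalarTower.toAlgHom Λ P C)) fun i => by simp [φ₀, ha, x]; rfl) p
    have hMn : M ^ n ≤ J.comap φ₀ := fun f hf => by
      rw [Ideal.mem_comap, ← Ideal.Quotient.eq_zero_iff_mem, hψ₀]
      refine hn _ ?_
      show algebraMap P C f ∈ maximalIdeal C ^ n
      rw [hmax, ← Ideal.map_pow]
      exact Ideal.mem_map_of_mem _ hf
    have hker : ∀ f ∈ M ^ (n * 2), φ₀ f = 0 := fun f hf => by
      rw [pow_mul] at hf
      have := Ideal.le_comap_pow φ₀ 2 (Ideal.pow_right_mono hMn 2 hf)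
      rwa [hJ] at this
    let χ : C →ₐ[Λ] A := (Ideal.Quotient.liftₐ (M ^ (n * 2)) φ₀ hker).comp
      ((AdicCompletion.evalₐ M (n * 2)).restrictScalars Λ)
    have hχ : ∀ p : P, χ (algebraMap P C p) = φ₀ p := fun p => by
      show Ideal.Quotient.liftₐ _ φ₀ hker (AdicCompletion.evalₐ M (n * 2) (algebraMap P C p)) = φ₀ p
      rw [AlgHom.commutes]
      rfl
    refine ⟨χ, AlgHom.ext fun s => ?_⟩
    obtain ⟨p, hp⟩ := hdense (n * 2) s
    have h1 : ψ (s - algebraMap P C p) = 0 := hn _ (Ideal.pow_le_pow_right (by omega) hp)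
    have h2 : χ (s - algebraMap P C p) = 0 := by
      rw [hmax, ← Ideal.map_pow] at hp
      have hle : Ideal.map (algebraMap P C) (M ^ (n * 2)) ≤ RingHom.ker χ := Ideal.map_le_iff_le_comap.2 fun f hf => by
        rw [Ideal.mem_comap, RingHom.mem_ker, hχ]
        exact hker f hf
      exact hle hp
    rw [map_sub, sub_eq_zero] at h1 h2
    rw [AlgHom.comp_apply, h1, h2, hχ]
    exact hψ₀ p
  let φ₀ : P →ₐ[Λ] A := MvPolynomial.aeval a
  have hφ₀ : A.res.comp φ₀ = e := MvPolynomial.algHom_ext fun i => by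
    simp [φ₀, e, ha]
  obtain ⟨N, hN⟩ := exists_pow_succ A
  have hker : M ^ (N + 1) ≤ RingHom.ker φ₀ := fun f hf => by
    have h1 : M ≤ (maximalIdeal A).comap φ₀ := fun y hy => by
      rw [Ideal.mem_comap, Art.mem_maximalIdeal_iff]
      exact (DFunLike.congr_fun hφ₀ y).trans hy
    have := Ideal.le_comap_pow φ₀ (N + 1) (Ideal.pow_right_mono h1 (N + 1) hf)
    rwa [hN] at this
  let φ : C →ₐ[Λ] A :=
    (Ideal.Quotient.liftₐ (M ^ (N + 1)) φ₀ fun f hf => hker hf).comp ((AdicCompletion.evalₐ M (N + 1)).restrictScalars Λ)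
  have hφ : ∀ p : P, φ (algebraMap P C p) = φ₀ p := fun p => by
    show Ideal.Quotient.liftₐ _ φ₀ (fun f hf => hker hf) (AdicCompletion.evalₐ M (N + 1) (algebraMap P C p)) = φ₀ p
    rw [AlgHom.commutes]
    rfl
  have huniq : ∀ g₁ g₂ : HomSet S.carrier S.res A, (∀ p : P, g₁.1 (algebraMap P C p) = g₂.1 (algebraMap P C p)) →
      g₁ = g₂ := fun g₁ g₂ h => by
    refine Subtype.ext (AlgHom.ext fun s => ?_)
    obtain ⟨p, hp⟩ := hdense (N + 1) s
    have hz : ∀ g : HomSet S.carrier S.res A, g.1 (s - algebraMap P C p) = 0 := fun g => by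
      have hle : maximalIdeal C ≤ (maximalIdeal A).comap g.1 := fun y hy => by
        rw [Ideal.mem_comap, Art.mem_maximalIdeal_iff, homSet_res_app]
        exact (CRing.mem_maximalIdeal_iff S y).1 hy
      have := Ideal.le_comap_pow g.1 (N + 1) (Ideal.pow_right_mono hle (N + 1) hp)
      rwa [hN] at this
    rw [← sub_add_cancel s (algebraMap P C p), map_add, map_add, hz, hz, h]
  have hφres : A.res.comp φ = S.res := by
    refine AlgHom.ext fun s => ?_
    obtain ⟨p, hp⟩ := hdense (N + 1) s
    have h1 : S.res (s - algebraMap P C p) = 0 :=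
      (CRing.mem_maximalIdeal_iff S _).1 (Ideal.pow_le_self (Nat.succ_ne_zero N) hp)
    have h2 : φ (s - algebraMap P C p) = 0 := by
      rw [hmax, ← Ideal.map_pow] at hp
      have hle : Ideal.map (algebraMap P C) (M ^ (N + 1)) ≤ RingHom.ker φ := Ideal.map_le_iff_le_comap.2 fun f hf => by
        rw [Ideal.mem_comap, RingHom.mem_ker, hφ]
        exact hker hf
      exact hle hp
    rw [AlgHom.comp_apply, ← sub_add_cancel s (algebraMap P C p), map_add, h2, zero_add, map_add, h1, zero_add, hφ]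
    exact (DFunLike.congr_fun hφ₀ p).trans (hres p).symm
  refine ⟨⟨φ, hφres⟩, fun i => (hφ _).trans (MvPolynomial.aeval_X _ i), fun g hg => huniq _ _ fun p => ?_⟩
  show (g.1.comp (IsScalarTower.toAlgHom Λ P C)) p = φ (algebraMap P C p)
  rw [hφ]
  exact DFunLike.congr_fun (MvPolynomial.algHom_ext fun i => (hg i).trans (MvPolynomial.aeval_X _ i).symm) p

/-- The completion of `Λ[X]` at the kernel of a surjective evaluation in `k`. -/
theorem exists_polyRing [IsNoetherianRing Λ] {ι : Type} [Finite ι] (c : ι → k)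
    (hc : Function.Surjective (MvPolynomial.aeval (R := Λ) c)) :
    ∃ (S : CRing Λ k) (x : ι → S.carrier), IsPolyRing c S x :=
  let ⟨S, x, h, _⟩ := exists_polyRing' c hc
  ⟨S, x, h⟩

theorem IsPolyRing.isSmoothFunctor {ι : Type} {c : ι → k} {S : CRing Λ k} {x : ι → S.carrier}
    (h : IsPolyRing c S x) : IsSmoothFunctor (hR S.carrier S.res) := by
  intro B A μ hμ φ
  choose b hb using fun i => hμ (φ.1 (x i))
  obtain ⟨ψ, hψ, -⟩ := h.2 B b fun i => by rw [← Art.res_app μ, hb, homSet_res_app φ, h.1]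
  refine ⟨ψ, (h.2 A (fun i => φ.1 (x i)) fun i => by rw [homSet_res_app φ, h.1]).unique
    (fun i => ?_) (fun _ => rfl)⟩
  exact (congrArg μ.toAlgHom (hψ i)).trans (hb i)

theorem IsPolyRing.existsUnique_toCRing {ι : Type} {c : ι → k} {S : CRing Λ k} {x : ι → S.carrier}
    (h : IsPolyRing c S x) (T : CRing Λ k) (t : ι → T.carrier) (ht : ∀ i, T.res (t i) = c i) :
    ∃! g : S.carrier →ₐ[Λ] T.carrier, T.res.comp g = S.res ∧ ∀ i, g (x i) = t i := by
  have hv : ∀ n i, (T.trunc n).res ((T.truncHom n).1 (t i)) = c i := fun n i =>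
    (homSet_res_app _ _).trans (ht i)
  choose φ hφ hφu using fun n => h.2 (T.trunc n) (fun i => (T.truncHom n).1 (t i)) (hv n)
  obtain ⟨g, hg, hgn⟩ := exists_algHom_of_truncs T φ fun n => hφu n _ fun i => by
    rw [homSet_map_apply, hφ]
    exact DFunLike.congr_fun (congrArg Subtype.val (CRing.truncMap_truncHom T n)) (t i)
  have hgx : ∀ i, g (x i) = t i := fun i => by
    have hh : ∀ n, (T.truncHom n).1 (g (x i)) = (T.truncHom n).1 (t i) := fun n =>
      (DFunLike.congr_fun (hgn n) (x i)).trans (hφ n i)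
    have := T.isAdicComplete
    refine sub_eq_zero.1 (IsHausdorff.haus (I := maximalIdeal T.carrier) inferInstance _ fun n => ?_)
    rw [SModEq.sub_mem, sub_zero, smul_eq_mul, Ideal.mul_top]
    exact Ideal.pow_le_pow_right (Nat.le_succ n) (Ideal.Quotient.eq.1 (hh n))
  refine ⟨g, ⟨hg, hgx⟩, fun g' hg' => algHom_ext_truncs fun n => ?_⟩
  have := hφu n ⟨(T.truncHom n).1.comp g', by rw [← AlgHom.comp_assoc, (T.truncHom n).2, hg'.1]⟩
    fun i => congrArg (T.truncHom n).1 (hg'.2 i)
  exact (congrArg Subtype.val this).trans (hgn n).symm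

/-- Quotients of coefficient rings. -/
theorem exists_quotient (R : CRing Λ k) (J : Ideal R.carrier) (hJ : J ≤ maximalIdeal R.carrier) :
    ∃ (Q : CRing Λ k) (π : R.carrier →ₐ[Λ] Q.carrier), Q.res.comp π = R.res ∧ Function.Surjective π ∧
      RingHom.ker π = J := by
  have hJne : J ≠ ⊤ := fun h => (maximalIdeal.isMaximal R.carrier).ne_top (top_le_iff.1 (h ▸ hJ))
  have : Nontrivial (R.carrier ⧸ J) := Ideal.Quotient.nontrivial_iff.2 hJne
  have hloc : IsLocalRing (R.carrier ⧸ J) := IsLocalRing.of_surjective' (Ideal.Quotient.mk J) Ideal.Quotient.mk_surjective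
  have := R.isAdicComplete
  have hc : IsAdicComplete ((maximalIdeal R.carrier).map (algebraMap R.carrier (R.carrier ⧸ J))) (R.carrier ⧸ J) :=
    (IsAdicComplete.map_algebraMap_iff _ _).2 (AdicLim.isAdicComplete_of_finite _ _)
  let res : (R.carrier ⧸ J) →ₐ[Λ] k :=
    Ideal.Quotient.liftₐ J R.res fun a ha => (CRing.mem_maximalIdeal_iff R a).1 (hJ ha)
  refine ⟨{ carrier := R.carrier ⧸ J
            res := res
            res_surjective := fun c => by
              obtain ⟨a, ha⟩ := R.res_surjective c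
              exact ⟨Ideal.Quotient.mk J a, ha⟩
            isAdicComplete := ?_ }, Ideal.Quotient.mkₐ Λ J, AlgHom.ext fun _ => rfl, Ideal.Quotient.mk_surjective,
    Ideal.mk_ker⟩
  suffices hm : maximalIdeal (R.carrier ⧸ J) =
      (maximalIdeal R.carrier).map (algebraMap R.carrier (R.carrier ⧸ J)) by rw [hm]; exact hc
  refine le_antisymm (fun y hy => ?_) (IsLocalRing.le_maximalIdeal fun h => ?_)
  · obtain ⟨a, rfl⟩ := Ideal.Quotient.mk_surjective y
    exact Ideal.mem_map_of_mem _ ((IsLocalRing.mem_maximalIdeal a).2 fun hu =>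
      (IsLocalRing.mem_maximalIdeal _).1 hy (hu.map _))
  · have hle : (maximalIdeal R.carrier).map (algebraMap R.carrier (R.carrier ⧸ J)) ≤ RingHom.ker res :=
      Ideal.map_le_iff_le_comap.2 fun a ha => RingHom.mem_ker.2 ((CRing.mem_maximalIdeal_iff R a).1 ha)
    exact RingHom.ker_ne_top res (top_le_iff.1 (h ▸ hle))

end Groth.Agent.ArtKit
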