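import Groth.Agent.ArtKit.Fitting
import Groth.Agent.ArtKit.Minimal
import Groth.Agent.ArtKit.PSVersal
import Groth.Agent.ArtKit.PolyRing

/-!
# Versal families are power series extensions of minimal versal families
-/

set_option autoImplicit false
universe u v

noncomputable section
open CategoryTheory IsLocalRing ArtFun

namespace Groth.Agent.ArtKit

variable {Λ : Type u} {k : Type u} [CommRing Λ] [Field k] [Algebra Λ k] {F : Art Λ k ⥤ Type v}

lemma truncMapOfHom_truncHom {R S : CRing Λ k} (g : R.carrier →ₐ[Λ] S.carrier) (hg : S.res.comp g = R.res)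
    (n : ℕ) (x : R.carrier) :
    CRing.truncMapOfHom g hg n ((R.truncHom n).1 x) = (S.truncHom n).1 (g x) := rfl

lemma iter_truncMap {R : CRing Λ k} (g : R.carrier →ₐ[Λ] R.carrier) (hg : R.res.comp g = R.res) (n m : ℕ) :
    iter (CRing.truncMapOfHom g hg (n + 1)) m ≫ R.truncMap n = R.truncMap n ≫ iter (CRing.truncMapOfHom g hg n) m := by
  induction m with
  | zero => exact (Category.id_comp _).trans (Category.comp_id _).symm
  | succ m ih =>
    show (iter _ m ≫ CRing.truncMapOfHom g hg (n + 1)) ≫ R.truncMap n = R.truncMap n ≫ iter _ m ≫ CRing.truncMapOfHom g hg n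
    rw [Category.assoc, CRing.truncMapOfHom_truncMap, ← Category.assoc, ih, Category.assoc]

/-- An endomorphism fixing a family has an idempotent limit fixing it, with smaller cotangent image. -/
theorem exists_idem_limit [IsNoetherianRing Λ] [Module.Finite Λ k] {R : CRing Λ k}
    (ξ : Family R.carrier R.res F) (g : R.carrier →ₐ[Λ] R.carrier) (hg : R.res.comp g = R.res)
    (hfix : (ξ.along g hg).toFormalElt = ξ.toFormalElt) :
    ∃ (e : R.carrier →ₐ[Λ] R.carrier) (he : R.res.comp e = R.res),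
      (ξ.along e he).toFormalElt = ξ.toFormalElt ∧ e.comp e = e ∧
      Ideal.map e (maximalIdeal R.carrier) ≤ Ideal.map g (maximalIdeal R.carrier) ⊔ maximalIdeal R.carrier ^ 2 := by
  choose N e he using fun n => exists_idem (CRing.truncMapOfHom g hg n)
  have hcompat : ∀ n, e (n + 1) ≫ R.truncMap n = R.truncMap n ≫ e n := fun n => by
    obtain ⟨-, hr', he', -⟩ := he (n + 1) (max (N n) (N (n + 1))) (le_max_right _ _)
    obtain ⟨-, hr, he₀, hinj⟩ := he n (max (N n) (N (n + 1))) (le_max_left _ _)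
    refine Art.hom_ext (AlgHom.ext fun a => ?_)
    show R.truncMap n (e (n + 1) a) = e n (R.truncMap n a)
    obtain ⟨c, hc⟩ := hr' a
    obtain ⟨d, hd⟩ := hr (R.truncMap n a)
    have hcom : ∀ x, R.truncMap n (iter (CRing.truncMapOfHom g hg (n + 1)) (max (N n) (N (n + 1))) x) =
        iter (CRing.truncMapOfHom g hg n) (max (N n) (N (n + 1))) (R.truncMap n x) := fun x =>
      congrArg (fun f : R.trunc (n + 1) ⟶ R.trunc n => f x) (iter_truncMap g hg n _)
    rw [← hc, hcom, ← hd]
    refine hinj _ _ ?_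
    rw [← hcom, hc, hd, ← hcom, ← Art.comp_apply (e (n + 1)), he', hcom, ← Art.comp_apply (e n), he₀]
  obtain ⟨E, hE, hEn⟩ := exists_algHom_of_truncs R (fun n => HomSet.map (e n) (R.truncHom n)) fun n => by
    rw [← homSet_map_comp, hcompat, homSet_map_comp, CRing.truncMap_truncHom]
  have hEn' : ∀ n x, (R.truncHom n).1 (E x) = e n ((R.truncHom n).1 x) := fun n x => DFunLike.congr_fun (hEn n) x
  have hu : ∀ n, F.map (CRing.truncMapOfHom g hg n) (ξ.app _ (R.truncHom n)) = ξ.app _ (R.truncHom n) := fun n => by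
    rw [← ξ.natural]
    refine Eq.trans ?_ (congrArg (fun u => u.elt n) hfix)
    exact congrArg (ξ.app _) (Subtype.ext (AlgHom.ext fun _ => rfl))
  have hum : ∀ n m, F.map (iter (CRing.truncMapOfHom g hg n) m) (ξ.app _ (R.truncHom n)) = ξ.app _ (R.truncHom n) :=
    fun n m => by
    induction m with
    | zero => exact map_id_app F _
    | succ m ih =>
      show F.map (iter _ m ≫ CRing.truncMapOfHom g hg n) _ = _
      rw [map_comp_app, ih, hu]
  refine ⟨E, hE, FormalElt.ext' fun n => ?_, algHom_ext_truncs fun n => AlgHom.ext fun x => ?_, ?_⟩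
  · show ξ.app _ ⟨(R.truncHom n).1.comp E, _⟩ = ξ.app _ (R.truncHom n)
    rw [show (⟨(R.truncHom n).1.comp E, _⟩ : HomSet R.carrier R.res (R.trunc n)) = HomSet.map (e n) (R.truncHom n) from
      Subtype.ext (hEn n), ξ.natural]
    conv_lhs => rw [← hum n (N n)]
    rw [← map_comp_app, (he n (N n) le_rfl).1, hum]
  · obtain ⟨c, hc⟩ := (he n (N n) le_rfl).2.1 ((R.truncHom n).1 x)
    rw [AlgHom.comp_apply, AlgHom.comp_apply, AlgHom.comp_apply, hEn', hEn', ← hc, ← Art.comp_apply, (he n (N n) le_rfl).1]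
  · refine Ideal.map_le_iff_le_comap.2 fun x hx => ?_
    obtain ⟨c, hc⟩ := (he 1 (N 1 + 1) (Nat.le_succ _)).2.1 ((R.truncHom 1).1 x)
    obtain ⟨y, hy⟩ := truncHom_surjective R 1 (iter (CRing.truncMapOfHom g hg 1) (N 1) c)
    have hEy : (R.truncHom 1).1 (E x) = (R.truncHom 1).1 (g y) := by
      rw [hEn', ← hc, ← truncMapOfHom_truncHom g hg 1 y, hy]
      rfl
    have hy0 : y ∈ maximalIdeal R.carrier := by
      have h1 := congrArg (R.trunc 1).res hEy
      rw [homSet_res_app, homSet_res_app, CRing.res_comp_apply E hE, CRing.res_comp_apply g hg,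
        (CRing.mem_maximalIdeal_iff R x).1 hx] at h1
      exact (CRing.mem_maximalIdeal_iff R y).2 h1.symm
    rw [Ideal.mem_comap, ← sub_add_cancel (E x) (g y)]
    exact add_mem (Ideal.mem_sup_right (Ideal.Quotient.eq.1 hEy)) (Ideal.mem_sup_left (Ideal.mem_map_of_mem _ hy0))

/-- A versal family retracts onto a minimal versal one. -/
theorem exists_minimal_retract [IsNoetherianRing Λ] [Module.Finite Λ k] (h0 : H0 F) {R : CRing Λ k}
    (ξ : Family R.carrier R.res F) (hξ : IsVersal ξ) :
    ∃ (R' : CRing Λ k) (π : R.carrier →ₐ[Λ] R'.carrier) (hπ : R'.res.comp π = R.res)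
      (i : R'.carrier →ₐ[Λ] R.carrier) (hi : R.res.comp i = R'.res),
      π.comp i = AlgHom.id Λ R'.carrier ∧ (ξ.along π hπ).IsMinimalVersal ∧
      ((ξ.along π hπ).along i hi).toFormalElt = ξ.toFormalElt := by
  classical
  let K : (R.carrier →ₐ[Λ] R.carrier) → Ideal R.carrier := fun g =>
    Ideal.map g (maximalIdeal R.carrier) ⊔ maximalIdeal R.carrier ^ 2
  let P : (R.carrier →ₐ[Λ] R.carrier) → Prop := fun g =>
    ∃ hg : R.res.comp g = R.res, (ξ.along g hg).toFormalElt = ξ.toFormalElt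
  obtain ⟨g, ⟨hg, hfix⟩, hmin⟩ := (InvImage.wf (fun g => (K g).map (R.truncHom 1).1)
    (wellFounded_lt (α := Ideal (R.trunc 1)))).has_min {g | P g}
    ⟨AlgHom.id Λ _, AlgHom.comp_id _, FormalElt.ext' fun n => rfl⟩
  have hmin' : ∀ f, P f → K f ≤ K g → K g ≤ K f := fun f hf hle x hx => by
    have hnlt : ¬ (K f).map (R.truncHom 1).1 < (K g).map (R.truncHom 1).1 := hmin f hf
    have heq : (K g).map (R.truncHom 1).1 ≤ (K f).map (R.truncHom 1).1 := by
      by_contra hc
      exact hnlt (lt_of_le_not_ge (Ideal.map_mono hle) hc)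
    obtain ⟨y, hy, hxy⟩ := (Ideal.mem_map_iff_of_surjective _ (truncHom_surjective R 1)).1
      (heq (Ideal.mem_map_of_mem _ hx))
    rw [← sub_add_cancel x y]
    exact add_mem (Ideal.mem_sup_right (Ideal.Quotient.eq.1 hxy.symm)) hy
  obtain ⟨e, he, hefix, hee, hle⟩ := exists_idem_limit ξ g hg hfix
  have hKe : K e ≤ K g := sup_le hle le_sup_right
  have hkm : RingHom.ker e ≤ maximalIdeal R.carrier := IsLocalRing.le_maximalIdeal (RingHom.ker_ne_top e)
  obtain ⟨R', π, hπ, hs, hker⟩ := exists_quotient R (RingHom.ker e) hkm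
  let i : R'.carrier →ₐ[Λ] R.carrier := (Ideal.Quotient.liftₐ (RingHom.ker π) e
    (fun a ha => (RingHom.mem_ker.1 (hker.le ha) : e a = 0))).comp (Ideal.quotientKerAlgEquivOfSurjective hs).symm.toAlgHom
  have hiπ : i.comp π = e := AlgHom.ext fun a => by
    have h1 : (Ideal.quotientKerAlgEquivOfSurjective hs).symm (π a) = Ideal.Quotient.mk _ a :=
      (AlgEquiv.symm_apply_eq _).2 rfl
    simp only [i, AlgHom.comp_apply, AlgEquiv.toAlgHom_eq_coe, AlgHom.coe_coe]
    refine (congrArg _ h1).trans ?_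
    rfl
  have hi : R.res.comp i = R'.res := AlgHom.ext fun y => by
    obtain ⟨a, rfl⟩ := hs y
    show R.res (i (π a)) = R'.res (π a)
    rw [← AlgHom.comp_apply i π, hiπ, CRing.res_comp_apply e he, CRing.res_comp_apply π hπ]
  have hπi : π.comp i = AlgHom.id Λ R'.carrier := AlgHom.ext fun y => by
    obtain ⟨a, rfl⟩ := hs y
    show π (i (π a)) = π a
    rw [← AlgHom.comp_apply i π, hiπ, ← sub_eq_zero, ← map_sub]
    refine RingHom.mem_ker.1 (hker.ge (RingHom.mem_ker.2 ?_))
    rw [map_sub, ← AlgHom.comp_apply e e, hee, sub_self]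
  have happ : ∀ (A : Art Λ k) (φ : HomSet R.carrier R.res A), (ξ.along e he).app A φ = ξ.app A φ :=
    family_app_eq hefix
  refine ⟨R', π, hπ, i, hi, hπi, ⟨?_, ?_⟩, ?_⟩
  · intro B A μ hμ φ y hy
    obtain ⟨ψ, h1, h2⟩ := hξ μ hμ ⟨φ.1.comp π, by rw [← AlgHom.comp_assoc, φ.2, hπ]⟩ y hy
    refine ⟨⟨ψ.1.comp i, by rw [← AlgHom.comp_assoc, ψ.2, hi]⟩, Subtype.ext ?_, ?_⟩
    · show μ.toAlgHom.comp (ψ.1.comp i) = φ.1
      rw [← AlgHom.comp_assoc, show μ.toAlgHom.comp ψ.1 = φ.1.comp π from congrArg Subtype.val h1,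
        AlgHom.comp_assoc, hπi, AlgHom.comp_id]
    · refine Eq.trans (congrArg (ξ.app B) (Subtype.ext ?_)) ((happ B ψ).trans h2)
      show (ψ.1.comp i).comp π = ψ.1.comp e
      rw [AlgHom.comp_assoc, hiπ]
  · intro R'' w f hf hpush
    obtain ⟨a, ha, haw⟩ := exists_along_eq h0 hξ R'' w
    let e' := i.comp ((f.comp a).comp e)
    have he' : R.res.comp e' = R.res := by
      rw [← AlgHom.comp_assoc, hi, ← AlgHom.comp_assoc, ← AlgHom.comp_assoc, hf, ha, he]
    have hPe' : P e' := ⟨he', FormalElt.ext' fun n => by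
      show ξ.app _ ⟨(R.truncHom n).1.comp e', _⟩ = ξ.app _ (R.truncHom n)
      let χ'' : HomSet R.carrier R.res (R''.trunc n) :=
        ⟨(R''.truncHom n).1.comp a, by rw [← AlgHom.comp_assoc, (R''.truncHom n).2, ha]⟩
      let χ' : HomSet R.carrier R.res (R'.trunc n) := HomSet.map (CRing.truncMapOfHom f hf n) χ''
      let χ : HomSet R.carrier R.res (R.trunc n) := HomSet.map (CRing.truncMapOfHom i hi n) χ'
      let ω : HomSet R.carrier R.res (R'.trunc n) :=
        ⟨(R'.truncHom n).1.comp π, by rw [← AlgHom.comp_assoc, (R'.truncHom n).2, hπ]⟩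
      have h1 : ξ.app _ χ' = ξ.app _ ω := by
        refine (ξ.natural _ χ'').trans (Eq.trans ?_ (congrArg (fun u => u.elt n) hpush))
        exact congrArg (F.map _) (congrArg (fun u => u.elt n) haw)
      have h2 : ξ.app _ χ = ξ.app _ (HomSet.map (CRing.truncMapOfHom i hi n) ω) :=
        (ξ.natural _ χ').trans ((congrArg (F.map _) h1).trans (ξ.natural _ ω).symm)
      have h3 : ξ.app _ (HomSet.map (CRing.truncMapOfHom i hi n) ω) = (ξ.along e he).app _ (R.truncHom n) :=
        congrArg (ξ.app _) (Subtype.ext (AlgHom.ext fun x => congrArg (R.truncHom n).1 (DFunLike.congr_fun hiπ x)))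
      refine Eq.trans ?_ ((happ _ χ).trans (h2.trans (h3.trans (happ _ (R.truncHom n)))))
      exact congrArg (ξ.app _) (Subtype.ext (AlgHom.ext fun x => rfl))⟩
    have hee' : e.comp e' = e' := AlgHom.ext fun x => by
      show e (i (f (a (e x)))) = i (f (a (e x)))
      obtain ⟨z, hz⟩ := hs (f (a (e x)))
      rw [← hz, ← AlgHom.comp_apply i π, hiπ, ← AlgHom.comp_apply, hee]
    have hKe' : K e' ≤ K e := sup_le (by
      refine le_trans ?_ le_sup_left
      refine Ideal.map_le_iff_le_comap.2 fun x hx => ?_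
      rw [Ideal.mem_comap, ← hee']
      exact Ideal.mem_map_of_mem e ((CRing.mem_maximalIdeal_iff R _).2
        ((CRing.res_comp_apply e' he' x).trans ((CRing.mem_maximalIdeal_iff R x).1 hx)))) le_sup_right
    have hge : K g ≤ K e' := hmin' e' hPe' (hKe'.trans hKe)
    have := R''.isAdicComplete
    refine ((surjective_tfae_cotangent R''.res_surjective R'.res_surjective f hf).out 1 0).1 (le_antisymm
      (sup_le (map_maximalIdeal_le R''.res_surjective R'.res_surjective f hf) (Ideal.pow_le_self two_ne_zero)) ?_)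
    intro y hy
    have hiy : i y ∈ K e' := hge (hKe (Ideal.mem_sup_left (by
      obtain ⟨x, rfl⟩ := hs y
      rw [← AlgHom.comp_apply i π, hiπ]
      exact Ideal.mem_map_of_mem e ((CRing.mem_maximalIdeal_iff R x).2
        ((CRing.res_comp_apply π hπ x).symm.trans ((CRing.mem_maximalIdeal_iff R' _).1 hy))))))
    have hy' : π (i y) ∈ Ideal.map f (maximalIdeal R''.carrier) ⊔ maximalIdeal R'.carrier ^ 2 := by
      have := Ideal.mem_map_of_mem π hiy
      rw [Ideal.map_sup, Ideal.map_pow] at this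
      refine sup_le_sup ?_ (Ideal.pow_right_mono (map_maximalIdeal_le R.res_surjective R'.res_surjective π hπ) 2) this
      refine Ideal.map_le_iff_le_comap.2 (Ideal.map_le_iff_le_comap.2 fun x hx => ?_)
      rw [Ideal.mem_comap, Ideal.mem_comap, show π (e' x) = f (a (e x)) from DFunLike.congr_fun hπi _]
      exact Ideal.mem_map_of_mem f ((CRing.mem_maximalIdeal_iff _ _).2
        (((CRing.res_comp_apply a ha _).trans (CRing.res_comp_apply e he x)).trans ((CRing.mem_maximalIdeal_iff R x).1 hx)))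
    rwa [← AlgHom.comp_apply π i, hπi] at hy'
  · refine Eq.trans (FormalElt.ext' fun n => ?_) hefix
    exact congrArg (ξ.app _) (Subtype.ext (AlgHom.ext fun x => congrArg (R.truncHom n).1 (DFunLike.congr_fun hiπ x)))

/-- Lifts of a formal element with prescribed first truncation. -/
theorem exists_along_eq_of_trunc_one {R : CRing Λ k} {ξ : Family R.carrier R.res F} (hξ : IsVersal ξ) (S : CRing Λ k)
    (η : FormalElt F S) (φ₁ : HomSet R.carrier R.res (S.trunc 1)) (h₁ : ξ.app _ φ₁ = η.elt 1) :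
    ∃ (g : R.carrier →ₐ[Λ] S.carrier) (hg : S.res.comp g = R.res),
      (ξ.along g hg).toFormalElt = η ∧ (S.truncHom 1).1.comp g = φ₁.1 := by
  have hstep : ∀ n (φ : {φ : HomSet R.carrier R.res (S.trunc (n + 1)) // ξ.app _ φ = η.elt (n + 1)}),
      ∃ ψ : {φ : HomSet R.carrier R.res (S.trunc (n + 1 + 1)) // ξ.app _ φ = η.elt (n + 1 + 1)},
        HomSet.map (S.truncMap (n + 1)) ψ.1 = φ.1 := fun n φ => by
    obtain ⟨ψ, h1, h2⟩ := hξ (S.truncMap (n + 1)) (truncMap_surjective S _) φ.1 (η.elt (n + 1 + 1))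
      ((η.compat (n + 1)).trans φ.2.symm)
    exact ⟨⟨ψ, h2⟩, h1⟩
  choose step hstep using hstep
  let h' : ∀ n, {φ : HomSet R.carrier R.res (S.trunc (n + 1)) // ξ.app _ φ = η.elt (n + 1)} :=
    fun n => Nat.rec ⟨φ₁, h₁⟩ step n
  obtain ⟨g, hg, hgn⟩ := exists_algHom_of_truncs S (fun n => HomSet.map (S.truncMap n) (h' n).1)
    fun n => congrArg (HomSet.map (S.truncMap n)) (hstep n (h' n))
  refine ⟨g, hg, FormalElt.ext' fun n => ?_,
    (hgn 1).trans (congrArg Subtype.val (hstep 0 (h' 0)))⟩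
  show ξ.app _ ⟨(S.truncHom n).1.comp g, _⟩ = η.elt n
  rw [show (⟨(S.truncHom n).1.comp g, _⟩ : HomSet R.carrier R.res (S.trunc n)) = HomSet.map (S.truncMap n) (h' n).1 from
    Subtype.ext (hgn n), ξ.natural, (h' n).2, η.compat]

/-- The power series extension structure of a versal family over a retract. -/
theorem exists_psEquiv_of_retract {R R' : CRing Λ k} (ξ : Family R.carrier R.res F) (hξ : IsVersal ξ)
    (π : R.carrier →ₐ[Λ] R'.carrier) (hπ : R'.res.comp π = R.res)
    (i : R'.carrier →ₐ[Λ] R.carrier) (hi : R.res.comp i = R'.res) (hπi : π.comp i = AlgHom.id Λ R'.carrier)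
    (hξ' : ((ξ.along π hπ).along i hi).toFormalElt = ξ.toFormalElt) :
    ∃ (n : ℕ) (e : R.carrier ≃ₐ[Λ] (psRing n R').carrier), ∀ a, e (i a) = psC n R' a := by
  classical
  have hker : RingHom.ker π ≤ maximalIdeal R.carrier := IsLocalRing.le_maximalIdeal (RingHom.ker_ne_top π)
  have hex : ∃ n : ℕ, ∃ x : Fin n → R.carrier,
      Ideal.span (Set.range x) ⊔ maximalIdeal R.carrier * RingHom.ker π = RingHom.ker π := by
    obtain ⟨t, ht⟩ := (IsNoetherian.noetherian (RingHom.ker π) : (RingHom.ker π).FG)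
    refine ⟨t.card, fun j => (t.equivFin.symm j : R.carrier), ?_⟩
    rw [show Set.range (fun j => (t.equivFin.symm j : R.carrier)) = ↑t by
      ext y; exact ⟨fun ⟨j, hj⟩ => hj ▸ (t.equivFin.symm j).2, fun hy => ⟨t.equivFin ⟨y, hy⟩, by simp⟩⟩]
    rw [Ideal.span, ht]
    exact sup_eq_left.2 Ideal.mul_le_right
  obtain ⟨x, hx⟩ := Nat.find_spec hex
  have hxk : ∀ j, π (x j) = 0 := fun j => hx.le (Ideal.mem_sup_left (Ideal.subset_span ⟨j, rfl⟩))
  obtain ⟨φ, ⟨hres, hC, hX⟩, -⟩ := existsUnique_psRing (Nat.find hex) R' R i hi x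
    fun j => (CRing.mem_maximalIdeal_iff R _).1 (hker (hxk j))
  have hC' : ∀ a, φ (MvPowerSeries.C a) = i a := fun a => by rw [← psC_apply]; exact DFunLike.congr_fun hC a
  let P := psRing (Nat.find hex) R'
  have := P.isAdicComplete
  have hXm : ∀ j, (MvPowerSeries.X j : MvPowerSeries (Fin (Nat.find hex)) R'.carrier) ∈ maximalIdeal P.carrier :=
    fun j => (CRing.mem_maximalIdeal_iff P _).2 (psRing_res_X _ R' j)
  have hCm : ∀ a ∈ maximalIdeal R'.carrier, (MvPowerSeries.C a : MvPowerSeries (Fin (Nat.find hex)) R'.carrier) ∈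
      maximalIdeal P.carrier := fun a ha => (CRing.mem_maximalIdeal_iff P _).2
    ((psRing_res_C _ R' a).trans ((CRing.mem_maximalIdeal_iff R' a).1 ha))
  have hs : Function.Surjective φ := by
    refine ((surjective_tfae_cotangent P.res_surjective R.res_surjective φ hres).out 1 0).1
      (le_antisymm (sup_le (map_maximalIdeal_le P.res_surjective R.res_surjective φ hres)
        (Ideal.pow_le_self two_ne_zero)) fun s hs => ?_)
    rw [← add_sub_cancel (i (π s)) s]
    refine add_mem (Ideal.mem_sup_left ?_) ((hx.ge.trans (sup_le (Ideal.span_le.2 ?_) ?_))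
      (show s - i (π s) ∈ RingHom.ker π by
        rw [RingHom.mem_ker, map_sub, ← AlgHom.comp_apply π i, hπi]; exact sub_self _))
    · rw [← hC']
      exact Ideal.mem_map_of_mem φ (hCm _ ((CRing.mem_maximalIdeal_iff R' _).2
        ((CRing.res_comp_apply π hπ s).trans ((CRing.mem_maximalIdeal_iff R s).1 hs))))
    · rintro _ ⟨j, rfl⟩
      rw [← hX j]
      exact Ideal.mem_sup_left (Ideal.mem_map_of_mem φ (hXm j))
    · rw [pow_two]
      exact le_trans (Ideal.mul_mono_right hker) le_sup_right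
  have hker2 : RingHom.ker φ ≤ maximalIdeal P.carrier ^ 2 := by
    intro f hf
    obtain ⟨c, hc⟩ := Ideal.mem_span_range_iff_exists_fun.mp (ArtPow.sub_C_constantCoeff_mem f)
    have hf' : f = (∑ j, c j * MvPowerSeries.X j) + MvPowerSeries.C (MvPowerSeries.constantCoeff f) :=
      eq_add_of_sub_eq hc.symm
    have hsum : (∑ j, φ (c j) * x j) + i (MvPowerSeries.constantCoeff f) = 0 := by
      have h0 : φ f = 0 := hf
      conv_lhs at h0 => rw [hf']
      simpa [hX, hC'] using h0
    have ha : MvPowerSeries.constantCoeff f = 0 := by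
      have := congrArg π hsum
      simp only [map_add, map_sum, map_mul, hxk, mul_zero, Finset.sum_const_zero, zero_add, map_zero] at this
      rwa [← AlgHom.comp_apply π i, hπi] at this
    rw [ha, map_zero, add_zero] at hsum hf'
    have hcj : ∀ j, φ (c j) ∈ maximalIdeal R.carrier := fun j => by_contra fun hu => by
      have hu' : IsUnit (φ (c j)) := not_not.1 fun h => hu ((IsLocalRing.mem_maximalIdeal _).2 h)
      obtain ⟨m, hm⟩ : ∃ m, Nat.find hex = m + 1 := ⟨Nat.find hex - 1, by
        have := j.pos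
        omega⟩
      let j' : Fin (m + 1) := Fin.cast hm j
      let x' : Fin m → R.carrier := fun l => x (Fin.cast hm.symm (j'.succAbove l))
      refine Nat.find_min hex (m := m) (by omega) ⟨x', le_antisymm (sup_le (Ideal.span_le.2 ?_) Ideal.mul_le_right) ?_⟩
      · rintro _ ⟨l, rfl⟩
        exact hxk _
      refine hx.ge.trans (sup_le (Ideal.span_le.2 ?_) le_sup_right)
      have hne : ∀ l, l ≠ j → x l ∈ Ideal.span (Set.range x') := fun l hl => by
        obtain ⟨z, hz⟩ := Fin.exists_succAbove_eq (x := Fin.cast hm l) (y := j') fun h => hl (by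
          have := congrArg Fin.val h
          exact Fin.ext this)
        refine Ideal.subset_span ⟨z, congrArg x (Fin.ext ?_)⟩
        exact (congrArg Fin.val hz :)
      rintro _ ⟨l, rfl⟩
      rcases eq_or_ne l j with rfl | hl
      · have hxl : φ (c l) * x l = -(∑ q ∈ Finset.univ.erase l, φ (c q) * x q) := by
          rw [← Finset.add_sum_erase _ _ (Finset.mem_univ l)] at hsum
          exact eq_neg_of_add_eq_zero_left hsum
        refine (Ideal.unit_mul_mem_iff_mem _ hu').1 (hxl ▸ neg_mem (Ideal.mem_sup_left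
          (sum_mem fun q hq => Ideal.mul_mem_left _ _ (hne q (Finset.ne_of_mem_erase hq)))))
      · exact Ideal.mem_sup_left (hne l hl)
    rw [hf']
    refine sum_mem fun j _ => ?_
    rw [pow_two]
    refine Ideal.mul_mem_mul ?_ (hXm j)
    rw [CRing.mem_maximalIdeal_iff, ← hres, AlgHom.comp_apply, ← CRing.mem_maximalIdeal_iff]
    exact hcj j
  let η := ((ξ.along π hπ).along (psC (Nat.find hex) R') (psC_res _ R')).toFormalElt
  have hφ1s : Function.Surjective (CRing.truncMapOfHom φ hres 1) := fun y => by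
    obtain ⟨a, rfl⟩ := truncHom_surjective R 1 y
    obtain ⟨b, rfl⟩ := hs a
    exact ⟨(P.truncHom 1).1 b, rfl⟩
  obtain ⟨φ₁, hφ₁, hφ₁'⟩ := hξ _ hφ1s (R.truncHom 1) (η.elt 1) (by
    refine Eq.trans ?_ (congrArg (fun u => u.elt 1) hξ')
    refine (ξ.natural _ _).symm.trans (congrArg (ξ.app _) (Subtype.ext (AlgHom.ext fun a => ?_)))
    exact congrArg (R.truncHom 1).1 (DFunLike.congr_fun hC (π a)))
  obtain ⟨h, hh, -, hh1⟩ := exists_along_eq_of_trunc_one hξ P η φ₁ hφ₁'
  have hid : ∀ y, φ (h y) - y ∈ maximalIdeal R.carrier ^ 2 := fun y => Ideal.Quotient.eq.1 (by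
    show (R.truncHom 1).1 (φ (h y)) = (R.truncHom 1).1 y
    rw [← truncMapOfHom_truncHom φ hres 1, show (P.truncHom 1).1 (h y) = φ₁.1 y from DFunLike.congr_fun hh1 y]
    exact DFunLike.congr_fun (congrArg Subtype.val hφ₁) y)
  have hRc := R.isAdicComplete
  have hsh : Function.Surjective h := by
    refine ((surjective_tfae_cotangent R.res_surjective P.res_surjective h hh).out 1 0).1 (le_antisymm
      (sup_le (map_maximalIdeal_le R.res_surjective P.res_surjective h hh) (Ideal.pow_le_self two_ne_zero))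
      fun f hf => ?_)
    rw [← sub_add_cancel f (h (φ f))]
    refine add_mem (Ideal.mem_sup_right ?_) (Ideal.mem_sup_left (Ideal.mem_map_of_mem _
      ((CRing.mem_maximalIdeal_iff R _).2 ((CRing.res_comp_apply φ hres f).trans
        ((CRing.mem_maximalIdeal_iff P f).1 hf)))))
    have h1 : φ (f - h (φ f)) ∈ Ideal.map φ (maximalIdeal P.carrier ^ 2) := by
      have hmap : Ideal.map φ (maximalIdeal P.carrier) = maximalIdeal R.carrier := le_antisymm
        (map_maximalIdeal_le P.res_surjective R.res_surjective φ hres) fun s hs' => by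
          obtain ⟨b, rfl⟩ := hs s
          exact Ideal.mem_map_of_mem φ ((CRing.mem_maximalIdeal_iff P b).2
            ((CRing.res_comp_apply φ hres b).symm.trans ((CRing.mem_maximalIdeal_iff R _).1 hs')))
      rw [Ideal.map_pow, hmap, map_sub, ← neg_sub]
      exact neg_mem (hid (φ f))
    obtain ⟨z, hz, hzf⟩ := (Ideal.mem_map_iff_of_surjective φ hs).1 h1
    rw [← sub_add_cancel (f - h (φ f)) z]
    exact add_mem (hker2 (by rw [RingHom.mem_ker, map_sub, hzf, sub_self])) hz
  have hθ := bijective_of_surjective_endo (φ.comp h).toRingHom (hs.comp hsh)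
  have hinj : Function.Injective φ := fun a b hab => by
    obtain ⟨a', rfl⟩ := hsh a
    obtain ⟨b', rfl⟩ := hsh b
    exact congrArg h (hθ.1 hab)
  refine ⟨_, (AlgEquiv.ofBijective φ ⟨hinj, hs⟩).symm, fun a => ?_⟩
  rw [AlgEquiv.symm_apply_eq]
  exact (DFunLike.congr_fun hC a).symm

end Groth.Agent.ArtKit
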