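import Groth.Agent.ArtKit.Basic
import Mathlib.CategoryTheory.Limits.Types.Pullbacks
import Mathlib.CategoryTheory.Limits.Shapes.Pullback.IsPullback.Basic
import Mathlib.CategoryTheory.Limits.Preserves.Shapes.Pullbacks
import Mathlib.CategoryTheory.Limits.FunctorCategory.Shapes.Pullbacks

/-!
# Fibre products of functors of Artin rings, elementwise
-/

set_option autoImplicit false
universe u v

open CategoryTheory ArtFun CategoryTheory.Limits

namespace Groth.Agent.ArtKit

variable {Λ : Type u} {k : Type u} [CommRing Λ] [Field k] [Algebra Λ k]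
  {F G H : Art Λ k ⥤ Type v} (f : H ⟶ F) (g : G ⟶ F)

theorem isPullback_app (A : Art Λ k) :
    IsPullback ((pullback.fst f g).app A) ((pullback.snd f g).app A) (f.app A) (g.app A) :=
  IsPullback.map ((CategoryTheory.evaluation _ _).obj A) (IsPullback.of_hasPullback f g)

lemma pullback_app_ext {A : Art Λ k} {x y : (pullback f g).obj A}
    (h₁ : (pullback.fst f g).app A x = (pullback.fst f g).app A y)
    (h₂ : (pullback.snd f g).app A x = (pullback.snd f g).app A y) : x = y :=
  Types.ext_of_isPullback (isPullback_app f g A) h₁ h₂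

lemma pullback_app_exists {A : Art Λ k} (a : H.obj A) (b : G.obj A) (h : f.app A a = g.app A b) :
    ∃ x : (pullback f g).obj A, (pullback.fst f g).app A x = a ∧ (pullback.snd f g).app A x = b :=
  Types.exists_of_isPullback (isPullback_app f g A) a b h

lemma pullback_app_condition {A : Art Λ k} (x : (pullback f g).obj A) :
    f.app A ((pullback.fst f g).app A x) = g.app A ((pullback.snd f g).app A x) :=
  congrArg (fun t : (pullback f g) ⟶ F => t.app A x) pullback.condition

theorem isSmooth_pullback_snd (hf : IsSmooth f) : IsSmooth (pullback.snd f g) := by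
  rintro B A μ hμ ⟨⟨p, y⟩, hp⟩
  obtain ⟨h, hh⟩ := hf μ hμ ⟨((pullback.fst f g).app A p, g.app B y), by
    rw [pullback_app_condition, hp]; exact (NatTrans.naturality_apply g μ y)⟩
  obtain ⟨hh1, hh2⟩ := Prod.mk.inj (Subtype.ext_iff.1 hh)
  obtain ⟨z, hz1, hz2⟩ := pullback_app_exists f g h y hh2
  refine ⟨z, Subtype.ext (Prod.ext (pullback_app_ext f g ?_ ?_) hz2)⟩
  · exact (NatTrans.naturality_apply (pullback.fst f g) μ z).trans ((congrArg (H.map μ) hz1).trans hh1)
  · exact (NatTrans.naturality_apply (pullback.snd f g) μ z).trans ((congrArg (G.map μ) hz2).trans hp.symm)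

theorem bijective_cmp_pullback {B A A' A'' : Art Λ k} {p' : B ⟶ A'} {p'' : B ⟶ A''} {f' : A' ⟶ A} {f'' : A'' ⟶ A}
    (h : Art.IsFibreProd p' p'' f' f'') (hF : Function.Injective (cmp F h)) (hG : Function.Bijective (cmp G h))
    (hH : Function.Bijective (cmp H h)) : Function.Bijective (cmp (pullback f g) h) := by
  refine ⟨(injective_cmp_iff h).2 fun z₁ z₂ e₁ e₂ => pullback_app_ext f g ?_ ?_,
    (surjective_cmp_iff h).2 fun x' x'' e => ?_⟩
  · exact (injective_cmp_iff h).1 hH.1 _ _
      (by rw [← NatTrans.naturality_apply, e₁, NatTrans.naturality_apply])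
      (by rw [← NatTrans.naturality_apply, e₂, NatTrans.naturality_apply])
  · exact (injective_cmp_iff h).1 hG.1 _ _
      (by rw [← NatTrans.naturality_apply, e₁, NatTrans.naturality_apply])
      (by rw [← NatTrans.naturality_apply, e₂, NatTrans.naturality_apply])
  · obtain ⟨a, ha', ha''⟩ := (surjective_cmp_iff h).1 hH.2 ((pullback.fst f g).app A' x')
      ((pullback.fst f g).app A'' x'') (by rw [← NatTrans.naturality_apply, e, NatTrans.naturality_apply])
    obtain ⟨b, hb', hb''⟩ := (surjective_cmp_iff h).1 hG.2 ((pullback.snd f g).app A' x')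
      ((pullback.snd f g).app A'' x'') (by rw [← NatTrans.naturality_apply, e, NatTrans.naturality_apply])
    obtain ⟨z, hz1, hz2⟩ := pullback_app_exists f g a b ((injective_cmp_iff h).1 hF _ _
      (by rw [← NatTrans.naturality_apply, ← NatTrans.naturality_apply, ha', hb', pullback_app_condition])
      (by rw [← NatTrans.naturality_apply, ← NatTrans.naturality_apply, ha'', hb'', pullback_app_condition]))
    exact ⟨z, pullback_app_ext f g (by rw [NatTrans.naturality_apply, hz1, ha']) (by rw [NatTrans.naturality_apply, hz2, hb']),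
      pullback_app_ext f g (by rw [NatTrans.naturality_apply, hz1, ha'']) (by rw [NatTrans.naturality_apply, hz2, hb''])⟩

end Groth.Agent.ArtKit
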