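import Groth.Agent.ArtKit.Hull
import Groth.Agent.ArtKit.Action
import Mathlib.LinearAlgebra.Dual.Lemmas
import Mathlib.LinearAlgebra.Dimension.Finite
import Mathlib.LinearAlgebra.FiniteDimensional.Basic

/-!
# A smooth coefficient ring with the least tangent space

`Λ[X, Y]^∧` divided by equations of `k` over `Λ` with independent differentials; its tangent vectors are a
`Λ`-derivation of `k` and values of the free variables `Y`.
-/

set_option autoImplicit false
universe u v

open CategoryTheory ArtFun IsLocalRing MvPolynomial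

namespace Groth.Agent.ArtKit

variable {Λ : Type u} {k : Type u} [CommRing Λ] [Field k] [Algebra Λ k]

lemma isSmoothFunctor_of_smallExt (F : Art Λ k ⥤ Type v)
    (h : ∀ ⦃B A : Art Λ k⦄ (μ : B ⟶ A), Art.IsSmallExt μ → Function.Surjective (F.map μ)) : IsSmoothFunctor F :=
  fun B A μ hμ => surjective_induction (fun A B μ => Function.Surjective (F.map μ))
    (fun A B e _ x => ⟨F.map (inv e) x, map_app_inv F e x⟩) (fun A B p hp => h p hp)
    (fun A B C p q hp hq x => by
      obtain ⟨y, rfl⟩ := hq x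
      obtain ⟨z, rfl⟩ := hp y
      exact ⟨z, map_comp_app F p q z⟩) μ hμ

/-- `a + b ε`. -/
def dv (a b : k) : DualNumber k := (a, b)

lemma fst_dv (a b : k) : TrivSqZeroExt.fst (dv a b) = a := rfl

lemma snd_dv (a b : k) : TrivSqZeroExt.snd (dv a b) = b := rfl

variable {r : ℕ} (c : Fin r → k)

/-- The differential of a polynomial at `c`. -/
noncomputable def diffAt (f : MvPolynomial (Fin r) Λ) : (Fin r → k) →ₗ[k] k :=
  ∑ i, (aeval c (pderiv i f)) • LinearMap.proj i

lemma diffAt_apply (f : MvPolynomial (Fin r) Λ) (β : Fin r → k) :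
    diffAt c f β = ∑ i, aeval c (pderiv i f) * β i := by
  simp [diffAt]

lemma aeval_dual_snd (β : Fin r → k) (f : MvPolynomial (Fin r) Λ) :
    TrivSqZeroExt.fst (aeval (fun i => (dv (c i) (β i))) f) = aeval c f ∧
      TrivSqZeroExt.snd (aeval (fun i => (dv (c i) (β i))) f) = diffAt c f β := by
  induction f using MvPolynomial.induction_on with
  | C l =>
    rw [aeval_C, aeval_C, diffAt_apply, TrivSqZeroExt.algebraMap_eq_inl']
    simp
  | add p q hp hq =>
    rw [map_add, map_add, TrivSqZeroExt.fst_add, TrivSqZeroExt.snd_add, hp.1, hp.2, hq.1, hq.2, diffAt_apply,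
      diffAt_apply, diffAt_apply, ← Finset.sum_add_distrib]
    refine ⟨rfl, Finset.sum_congr rfl fun i _ => ?_⟩
    rw [map_add, map_add, add_mul]
  | mul_X p i hp =>
    rw [map_mul, map_mul, aeval_X, aeval_X, TrivSqZeroExt.fst_mul, TrivSqZeroExt.snd_mul, hp.1, hp.2, diffAt_apply,
      diffAt_apply]
    refine ⟨rfl, ?_⟩
    rw [fst_dv, snd_dv, op_smul_eq_smul, smul_eq_mul, smul_eq_mul, Finset.mul_sum]
    have h : ∀ j, aeval c (pderiv j (p * X i)) * β j =
        c i * (aeval c (pderiv j p) * β j) + aeval c p * ((if j = i then 1 else 0) * β j) := fun j => by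
      rw [pderiv_mul, map_add, map_mul, map_mul, aeval_X, pderiv_X]
      by_cases hji : j = i
      · subst hji
        simp [Pi.single_eq_same]
        ring
      · simp [hji]
        ring
    simp only [h, Finset.sum_add_distrib, ite_mul, one_mul, zero_mul, mul_ite, mul_zero]
    rw [Finset.sum_ite_eq' Finset.univ i, if_pos (Finset.mem_univ i), add_comm]

/-- Equations with independent differentials that span all differentials of relations. -/
theorem exists_equations :
    ∃ (s : ℕ) (f : Fin s → MvPolynomial (Fin r) Λ), (∀ j, aeval c (f j) = 0) ∧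
      Function.Surjective (fun β : Fin r → k => fun j => diffAt (Λ := Λ) c (f j) β) ∧
      ∀ β : Fin r → k, (∀ j, diffAt c (f j) β = 0) → ∀ g : MvPolynomial (Fin r) Λ, aeval c g = 0 → diffAt c g β = 0 := by
  classical
  obtain ⟨b, hb, hspan, hli⟩ := exists_linearIndependent k (diffAt (Λ := Λ) c '' {g : MvPolynomial (Fin r) Λ | aeval c g = 0})
  have : Fintype b := hli.setFinite.fintype
  let e := (Fintype.equivFin b).symm
  choose f hf hfe using fun j => hb (e j).2
  refine ⟨_, f, hf, ?_, fun β hβ g hg => ?_⟩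
  · have hli' : LinearIndependent k fun j => diffAt c (f j) := by
      simp only [hfe]
      exact hli.comp _ e.injective
    intro a
    let T : (Fin r → k) →ₗ[k] (Fin (Fintype.card b) → k) := LinearMap.pi fun j => diffAt c (f j)
    suffices hT : LinearMap.range T = ⊤ from LinearMap.range_eq_top.1 hT a
    by_contra hne
    obtain ⟨φ, hφ0, hφ⟩ := Submodule.exists_dual_map_eq_bot_of_lt_top (lt_top_iff_ne_top.2 hne) inferInstance
    let a' : Fin (Fintype.card b) → k := fun j => φ (Pi.single j 1)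
    have hφa : ∀ w, φ w = ∑ j, a' j * w j := fun w => by
      conv_lhs => rw [← Finset.univ_sum_single w]
      rw [map_sum]
      refine Finset.sum_congr rfl fun j _ => ?_
      rw [show Pi.single j (w j) = w j • (Pi.single j (1 : k) : Fin (Fintype.card b) → k) by
        rw [← Pi.single_smul', smul_eq_mul, mul_one], map_smul, smul_eq_mul, mul_comm]
    have hz : ∑ j, a' j • diffAt c (f j) = 0 := LinearMap.ext fun β => by
      have : φ (T β) = 0 := (Submodule.mem_bot k).1 (hφ ▸ Submodule.mem_map_of_mem (LinearMap.mem_range_self T β))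
      rw [hφa] at this
      simpa [T] using this
    refine hφ0 (LinearMap.ext fun w => ?_)
    rw [hφa, LinearMap.zero_apply]
    exact Finset.sum_eq_zero fun j _ => by rw [Fintype.linearIndependent_iff.1 hli' a' hz j, zero_mul]
  · have hmem : diffAt c g ∈ Submodule.span k b := hspan ▸ Submodule.subset_span ⟨g, hg, rfl⟩
    have hle : Submodule.span k b ≤ LinearMap.ker (LinearMap.applyₗ (R := k) β : ((Fin r → k) →ₗ[k] k) →ₗ[k] k) := by
      rw [Submodule.span_le]
      intro x hx
      have h' := hβ (e.symm ⟨x, hx⟩)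
      rw [hfe, e.apply_symm_apply] at h'
      exact h'
    exact hle hmem

/-- A smooth coefficient ring whose tangent vectors are a derivation of `k` and `d` free values. -/
theorem exists_smoothRing [IsNoetherianRing Λ] [Module.Finite Λ k]
    (hc : Function.Surjective (aeval (R := Λ) c)) (d : ℕ) :
    ∃ (S : CRing Λ k) (x : Fin r → S.carrier) (y : Fin d → S.carrier),
      (∀ i, S.res (x i) = c i) ∧ (∀ j, S.res (y j) = 0) ∧ IsSmoothFunctor (hR S.carrier S.res) ∧
      (∀ ⦃A : Art Λ k⦄ (φ ψ : HomSet S.carrier S.res A), (∀ i, φ.1 (x i) = ψ.1 (x i)) →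
        (∀ j, φ.1 (y j) = ψ.1 (y j)) → φ = ψ) ∧
      (∀ (A : Art Λ k) (ι : Art.base Λ k ⟶ A) (b : Fin d → A), (∀ j, A.res (b j) = 0) →
        ∃ φ : HomSet S.carrier S.res A, (∀ i, φ.1 (x i) = ι (c i)) ∧ ∀ j, φ.1 (y j) = b j) ∧
      ∀ φ : HomSet S.carrier S.res (Art.dual Λ k),
        ∃ σ : Art.base Λ k ⟶ Art.dual Λ k, ∀ i, σ (c i) = φ.1 (x i) := by
  classical
  obtain ⟨s, f, hf0, hfs, hfz⟩ := exists_equations (Λ := Λ) c
  have hcc : Function.Surjective (aeval (R := Λ) (Sum.elim c (fun _ : Fin d => (0 : k)))) := fun a => by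
    obtain ⟨g, rfl⟩ := hc a
    exact ⟨rename Sum.inl g, by rw [aeval_rename]; rfl⟩
  obtain ⟨S₁, z, hz1, hz2⟩ := exists_polyRing (Sum.elim c (fun _ : Fin d => (0 : k))) hcc
  have hev : ∀ {A : Art Λ k} (φ : HomSet S₁.carrier S₁.res A) (g : MvPolynomial (Fin r) Λ),
      φ.1 (aeval (fun i => z (Sum.inl i)) g) = aeval (fun i => φ.1 (z (Sum.inl i))) g := fun φ g => by
    rw [← AlgHom.comp_apply, comp_aeval]
  let q : Fin s → S₁.carrier := fun j => aeval (fun i => z (Sum.inl i)) (f j)
  have hq : ∀ j, S₁.res (q j) = 0 := fun j => by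
    show S₁.res (aeval (fun i => z (Sum.inl i)) (f j)) = 0
    rw [← AlgHom.comp_apply, comp_aeval, show (fun i => S₁.res (z (Sum.inl i))) = c from funext fun i => hz1 _, hf0]
  have hJ : Ideal.span (Set.range q) ≤ maximalIdeal S₁.carrier := Ideal.span_le.2 (by
    rintro _ ⟨j, rfl⟩
    exact (CRing.mem_maximalIdeal_iff S₁ _).2 (hq j))
  obtain ⟨S, π, hπ, hπs, hπk⟩ := exists_quotient S₁ _ hJ
  have hπq : ∀ j, π (q j) = 0 := fun j => RingHom.mem_ker.1 (hπk.ge (Ideal.subset_span ⟨j, rfl⟩) : q j ∈ RingHom.ker π)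
  have hres : ∀ a, S.res (π a) = S₁.res a := fun a => DFunLike.congr_fun hπ a
  have pull : ∀ {A : Art Λ k} (φ : HomSet S.carrier S.res A), A.res.comp (φ.1.comp π) = S₁.res := fun φ => by
    rw [← AlgHom.comp_assoc, φ.2, hπ]
  have desc : ∀ {A : Art Λ k} (φ : HomSet S₁.carrier S₁.res A), (∀ j, φ.1 (q j) = 0) →
      ∃ φ' : HomSet S.carrier S.res A, φ'.1.comp π = φ.1 := fun {A} φ h => by
    have hle : RingHom.ker π ≤ RingHom.ker φ.1 := by
      rw [hπk, Ideal.span_le]
      rintro _ ⟨j, rfl⟩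
      exact RingHom.mem_ker.2 (h j)
    let g := AlgHom.liftOfSurjective π hπs φ.1 hle
    have hg : ∀ a, g (π a) = φ.1 a := AlgHom.liftOfSurjective_apply π hπs _ _
    refine ⟨⟨g, AlgHom.ext fun w => ?_⟩, AlgHom.ext hg⟩
    obtain ⟨a, rfl⟩ := hπs w
    show A.res (g (π a)) = S.res (π a)
    rw [hg, homSet_res_app, hres]
  have hext : ∀ ⦃A : Art Λ k⦄ (φ ψ : HomSet S.carrier S.res A), (∀ i, φ.1 (π (z i)) = ψ.1 (π (z i))) → φ = ψ := by
    intro A φ ψ h
    refine Subtype.ext (AlgHom.ext fun w => ?_)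
    obtain ⟨a, rfl⟩ := hπs w
    exact DFunLike.congr_fun (congrArg Subtype.val ((hz2 A (fun i => φ.1 (π (z i))) fun i => by
      rw [homSet_res_app, hres, hz1]).unique (y₁ := ⟨φ.1.comp π, pull φ⟩) (y₂ := ⟨ψ.1.comp π, pull ψ⟩)
        (fun _ => rfl) (fun i => (h i).symm))) a
  refine ⟨S, fun i => π (z (Sum.inl i)), fun j => π (z (Sum.inr j)), fun i => (hres _).trans (hz1 _),
    fun j => (hres _).trans (hz1 _), ?_, fun A φ ψ h1 h2 => hext φ ψ (Sum.rec h1 h2), ?_, ?_⟩
  · -- smoothness, along small extensions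
    refine isSmoothFunctor_of_smallExt _ fun B A μ hμ φ => ?_
    obtain ⟨ψ, hψ⟩ := (IsPolyRing.isSmoothFunctor (c := Sum.elim c fun _ : Fin d => (0 : k)) ⟨hz1, hz2⟩)
      μ hμ.1 (⟨φ.1.comp π, pull φ⟩ : HomSet S₁.carrier S₁.res A)
    have hψ' : ∀ a, μ (ψ.1 a) = φ.1 (π a) := fun a => DFunLike.congr_fun (congrArg Subtype.val hψ) a
    obtain ⟨t, P, p₁, p₂, g, ht0, hkt, hP, hP', hg⟩ := exists_action_data μ hμ
    have hb : ∀ j, ∃ b, ψ.1 (q j) = b * t := fun j => by
      have : ψ.1 (q j) ∈ Ideal.span {t} := hkt ▸ RingHom.mem_ker.2 (by rw [hψ', hπq, map_zero])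
      obtain ⟨b, hb⟩ := Ideal.mem_span_singleton'.1 this
      exact ⟨b, hb.symm⟩
    choose b hb using hb
    obtain ⟨β, hβ⟩ := hfs fun j => - B.res (b j)
    obtain ⟨u, hu, -⟩ := hz2 (Art.dual Λ k)
      (Sum.elim (fun i => (dv (c i) (β i))) fun _ => (0 : DualNumber k)) fun i => by cases i <;> rfl
    obtain ⟨w, hw₁, hw₂⟩ := homSet_exists_lift hP' ψ u (subsingleton_homSet_base.elim _ _)
    obtain ⟨φ', hφ'⟩ := desc (HomSet.map p₂ w) fun j => by
      have hker : p₂ (w.1 (q j)) - p₁ (w.1 (q j)) ∈ RingHom.ker μ.toAlgHom := by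
        rw [RingHom.mem_ker, map_sub, sub_eq_zero]; exact (hP.w_apply _).symm
      rw [hkt] at hker
      obtain ⟨e, he⟩ := Ideal.mem_span_singleton'.1 hker
      have h1 : B.res e = - B.res (b j) := by
        have hβj : diffAt c (f j) β = -B.res (b j) := congrFun hβ j
        rw [← hg _ e he.symm, ← hβj, ← (aeval_dual_snd c β (f j)).2,
          show g (w.1 (q j)) = u.1 (q j) from DFunLike.congr_fun (congrArg Subtype.val hw₂) (q j)]
        show TrivSqZeroExt.snd (u.1 (aeval (fun i => z (Sum.inl i)) (f j))) = _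
        rw [hev u]
        simp only [hu]; rfl
      have h2 : (e + b j) * t = 0 := Ideal.mem_bot.1 (hμ.2.2.2 ▸ Ideal.mul_mem_mul
        ((B.mem_maximalIdeal_iff _).2 (by rw [map_add, h1, neg_add_cancel]))
        (hkt ▸ Ideal.mem_span_singleton_self t))
      show p₂ (w.1 (q j)) = 0
      rw [← sub_add_cancel (p₂ (w.1 (q j))) (p₁ (w.1 (q j))), ← he,
        show p₁ (w.1 (q j)) = ψ.1 (q j) from DFunLike.congr_fun (congrArg Subtype.val hw₁) (q j), hb, ← add_mul, h2]
    refine ⟨φ', Subtype.ext (AlgHom.ext fun a => ?_)⟩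
    obtain ⟨a, rfl⟩ := hπs a
    refine ((congrArg μ.toAlgHom (DFunLike.congr_fun hφ' a)).trans ?_).trans (hψ' a)
    exact (hP.w_apply _).symm.trans (congrArg μ.toAlgHom (DFunLike.congr_fun (congrArg Subtype.val hw₁) a))
  · intro A ι b hb
    obtain ⟨φ, hφ, -⟩ := hz2 A (Sum.elim (fun i => ι (c i)) b) fun i => by
      cases i
      · exact Art.res_app ι _
      · exact hb _
    obtain ⟨φ', hφ'⟩ := desc φ fun j => by
      show φ.1 (aeval (fun i => z (Sum.inl i)) (f j)) = 0
      rw [hev φ]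
      simp only [hφ, Sum.elim_inl]
      refine ((DFunLike.congr_fun (comp_aeval c ι.toAlgHom) (f j)).symm.trans (congrArg ι.toAlgHom (hf0 j))).trans ?_
      exact map_zero _
    exact ⟨φ', fun i => (DFunLike.congr_fun hφ' _).trans (hφ _), fun j => (DFunLike.congr_fun hφ' _).trans (hφ _)⟩
  · intro φ
    let β : Fin r → k := fun i => TrivSqZeroExt.snd (φ.1 (π (z (Sum.inl i))))
    let E : MvPolynomial (Fin r) Λ →ₐ[Λ] DualNumber k := aeval fun i => (dv (c i) (β i))
    have hval : (fun i => φ.1 (π (z (Sum.inl i)))) = fun i => (dv (c i) (β i)) := funext fun i =>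
      TrivSqZeroExt.ext ((homSet_res_app φ _).trans ((hres _).trans (hz1 _))) rfl
    have hβ : ∀ j, diffAt c (f j) β = 0 := fun j => by
      have h1 : φ.1 (π (q j)) = E (f j) := by
        refine (hev ⟨φ.1.comp π, pull φ⟩ (f j)).trans ?_
        exact congrArg (fun w => aeval w (f j)) hval
      rw [hπq, map_zero] at h1
      rw [← (aeval_dual_snd c β (f j)).2]
      show TrivSqZeroExt.snd (E (f j)) = 0
      rw [← h1]
      rfl
    let σ := AlgHom.liftOfSurjective (aeval (R := Λ) c) hc E fun g hg => RingHom.mem_ker.2 (TrivSqZeroExt.ext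
      ((aeval_dual_snd c β g).1.trans (RingHom.mem_ker.1 hg))
      ((aeval_dual_snd c β g).2.trans (hfz β hβ g (RingHom.mem_ker.1 hg))))
    have hσ : ∀ g, σ (aeval c g) = E g := AlgHom.liftOfSurjective_apply _ _ _ _
    refine ⟨Art.homMk σ (AlgHom.ext fun a => ?_), fun i => ?_⟩
    · obtain ⟨g, rfl⟩ := hc a
      exact (congrArg TrivSqZeroExt.fst (hσ g)).trans (aeval_dual_snd c β g).1
    · show σ (c i) = _
      rw [← aeval_X (R := Λ) c i, hσ]
      exact (aeval_X _ i).trans (congrFun hval i).symm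

end Groth.Agent.ArtKit
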