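import Groth.Agent.ArtKit.Formal
import Groth.Agent.ArtPow.Present
import Mathlib.RingTheory.MvPowerSeries.Derivative
import Mathlib.RingTheory.Finiteness.Prod
import Mathlib.RingTheory.Filtration

/-!
# Split square-zero extensions and the T¹-lifting criterion
-/

set_option autoImplicit false
universe u v

noncomputable section
open CategoryTheory IsLocalRing ArtFun

namespace Groth.Agent.ArtKit

variable {k : Type u} [Field k]

section Obj

variable (A : Art k k) (M : Type u) [AddCommGroup M] [Module A M] [Module Aᵐᵒᵖ M] [IsCentralScalar A M]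
  [Module k M] [IsScalarTower k A M] [IsScalarTower k Aᵐᵒᵖ M] [Module.Finite A M]

/-- `A ⊕ M`. -/
def splitObj : Art k k :=
  { carrier := TrivSqZeroExt A M
    isLocalRing := by
      refine IsLocalRing.of_isUnit_or_isUnit_one_sub_self fun a => ?_
      rw [TrivSqZeroExt.isUnit_iff_isUnit_fst, TrivSqZeroExt.isUnit_iff_isUnit_fst]
      exact IsLocalRing.isUnit_or_isUnit_one_sub_self a.fst
    isArtinianRing :=
      have : Module.Finite A (TrivSqZeroExt A M) := inferInstanceAs (Module.Finite A (A × M))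
      IsArtinianRing.of_finite A _
    res := A.res.comp (TrivSqZeroExt.fstHom k A M)
    res_surjective := fun c => by
      obtain ⟨a, ha⟩ := A.res_surjective c
      exact ⟨TrivSqZeroExt.inl a, ha⟩ }

/-- `A ⊕ M → A`. -/
def splitFst : splitObj A M ⟶ A := ⟨TrivSqZeroExt.fstHom k A M, AlgHom.ext fun _ => rfl⟩

/-- `A → A ⊕ M`. -/
def splitInl : A ⟶ splitObj A M := ⟨(TrivSqZeroExt.inlAlgHom k A M), AlgHom.ext fun _ => rfl⟩

lemma splitInl_splitFst : splitInl A M ≫ splitFst A M = 𝟙 A := Art.hom_ext (AlgHom.ext fun _ => rfl)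

lemma ker_splitFst_sq : RingHom.ker (splitFst A M).toAlgHom * RingHom.ker (splitFst A M).toAlgHom = ⊥ := by
  refine le_bot_iff.1 (Ideal.mul_le.2 fun x hx y hy => Ideal.mem_bot.2 ?_)
  have hx' : x.fst = 0 := hx
  have hy' : y.fst = 0 := hy
  refine TrivSqZeroExt.ext (show x.fst * y.fst = 0 by rw [hx', zero_mul]) ?_
  show x.fst • y.snd + MulOpposite.op y.fst • x.snd = 0
  rw [hx', hy', op_smul_eq_smul, zero_smul, zero_smul, add_zero]

variable {A M} {N : Type u} [AddCommGroup N] [Module A N] [Module Aᵐᵒᵖ N] [IsCentralScalar A N]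
  [Module k N] [IsScalarTower k A N] [IsScalarTower k Aᵐᵒᵖ N] [Module.Finite A N]

/-- Functoriality. -/
def splitMap (f : M →ₗ[A] N) : splitObj A M ⟶ splitObj A N :=
  ⟨(TrivSqZeroExt.map f).restrictScalars k, AlgHom.ext fun x => congrArg A.res (TrivSqZeroExt.fst_map f x)⟩

/-- The point of `k[[X]]` with prescribed differentials. -/
def splitPoint {d : ℕ} (χ : MvPowerSeries (Fin d) k →ₐ[k] A) (w : Fin d → M) :
    MvPowerSeries (Fin d) k →ₐ[k] (splitObj A M).carrier where
  toFun f := (χ f, ∑ i, χ (MvPowerSeries.pderiv k i f) • w i)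
  map_one' := TrivSqZeroExt.ext (map_one χ) (by
    show ∑ i, χ (MvPowerSeries.pderiv k i 1) • w i = 0
    simp)
  map_mul' f g := TrivSqZeroExt.ext (map_mul χ f g) (by
    show ∑ i, χ (MvPowerSeries.pderiv k i (f * g)) • w i =
      χ f • (∑ i, χ (MvPowerSeries.pderiv k i g) • w i) + MulOpposite.op (χ g) • ∑ i, χ (MvPowerSeries.pderiv k i f) • w i
    rw [op_smul_eq_smul, Finset.smul_sum, Finset.smul_sum, ← Finset.sum_add_distrib]
    refine Finset.sum_congr rfl fun i _ => ?_
    rw [Derivation.leibniz, map_add, smul_eq_mul, smul_eq_mul, map_mul, map_mul, add_smul, mul_smul, mul_smul])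
  map_zero' := TrivSqZeroExt.ext (map_zero χ) (by
    show ∑ i, χ (MvPowerSeries.pderiv k i 0) • w i = 0
    simp)
  map_add' f g := TrivSqZeroExt.ext (map_add χ f g) (by
    show ∑ i, χ (MvPowerSeries.pderiv k i (f + g)) • w i =
      ∑ i, χ (MvPowerSeries.pderiv k i f) • w i + ∑ i, χ (MvPowerSeries.pderiv k i g) • w i
    rw [← Finset.sum_add_distrib]
    exact Finset.sum_congr rfl fun i _ => by rw [map_add, map_add, add_smul])
  commutes' c := TrivSqZeroExt.ext (χ.commutes c) (by
    show ∑ i, χ (MvPowerSeries.pderiv k i (algebraMap k _ c)) • w i = (algebraMap k (TrivSqZeroExt A M) c).snd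
    rw [TrivSqZeroExt.algebraMap_eq_inl', TrivSqZeroExt.snd_inl]
    simp)

end Obj

lemma pderiv_mem_maximalIdeal {d : ℕ} (i : Fin d) {f : MvPowerSeries (Fin d) k}
    (hf : f ∈ maximalIdeal (MvPowerSeries (Fin d) k) ^ 2) :
    MvPowerSeries.pderiv k i f ∈ maximalIdeal (MvPowerSeries (Fin d) k) := by
  rw [pow_two] at hf
  induction hf using Submodule.mul_induction_on' with
  | mem_mul_mem a ha b hb =>
    rw [Derivation.leibniz]
    exact add_mem (Ideal.mul_mem_right _ _ ha) (Ideal.mul_mem_right _ _ hb)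
  | add a _ b _ ha hb => rw [map_add]; exact add_mem ha hb

/-- In characteristic zero an ideal without constant terms stable under the partial derivatives is zero. -/
theorem eq_bot_of_pderiv_mem [CharZero k] {d : ℕ} (J : Ideal (MvPowerSeries (Fin d) k))
    (h0 : J ≤ maximalIdeal (MvPowerSeries (Fin d) k))
    (h : ∀ f ∈ J, ∀ i, MvPowerSeries.pderiv k i f ∈ J) : J = ⊥ := by
  classical
  have key : ∀ n (e : Fin d →₀ ℕ), e.degree = n → ∀ f ∈ J, MvPowerSeries.coeff e f = 0 := by
    intro n
    induction n with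
    | zero =>
      intro e he f hf
      rw [(Finsupp.degree_eq_zero_iff e).1 he, MvPowerSeries.coeff_zero_eq_constantCoeff_apply]
      by_contra hne
      exact (IsLocalRing.mem_maximalIdeal f).1 (h0 hf)
        (MvPowerSeries.isUnit_iff_constantCoeff.2 (isUnit_iff_ne_zero.2 hne))
    | succ n ih =>
      intro e he f hf
      obtain ⟨i, hi⟩ : ∃ i, e i ≠ 0 := by
        by_contra hall
        push Not at hall
        rw [show e = 0 from Finsupp.ext hall, map_zero] at he
        exact Nat.succ_ne_zero n he.symm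
      let e' := e - Finsupp.single i 1
      have hee : e' + Finsupp.single i 1 = e :=
        tsub_add_cancel_of_le (Finsupp.single_le_iff.2 (Nat.one_le_iff_ne_zero.2 hi))
      have hdeg : e'.degree = n := by
        have := congrArg Finsupp.degree hee
        rw [map_add, Finsupp.degree_single, he] at this
        omega
      have h1 := ih e' hdeg _ (h f hf i)
      rw [MvPowerSeries.coeff_pderiv, hee] at h1
      rcases mul_eq_zero.1 h1 with h2 | h2
      · exact h2
      · exact absurd h2 (by exact_mod_cast Nat.succ_ne_zero (e' i))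
  rw [eq_bot_iff]
  exact fun f hf => Ideal.mem_bot.2 (MvPowerSeries.ext fun e => key _ e rfl f hf)

variable {F : Art k k ⥤ Type v}

/-- The T¹-lifting criterion for a versal pair. -/
theorem isSmoothFunctor_of_t1Lifting [CharZero k] (h0 : H0 F) (V : VersalPair F)
    (hT1 : ∀ ⦃A A' A'' : Art k k⦄ (π' : A' ⟶ A) (i' : A ⟶ A') (π'' : A'' ⟶ A) (i'' : A ⟶ A'')
        (q : A'' ⟶ A'), i' ≫ π' = 𝟙 A → i'' ≫ π'' = 𝟙 A →
        RingHom.ker π'.toAlgHom * RingHom.ker π'.toAlgHom = ⊥ →
        RingHom.ker π''.toAlgHom * RingHom.ker π''.toAlgHom = ⊥ →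
        q ≫ π' = π'' → i'' ≫ q = i' → Function.Surjective q → Function.Surjective (F.map q)) :
    IsSmoothFunctor F := by
  classical
  obtain ⟨R, ξ, hξ⟩ := V
  obtain ⟨d, J, hJ, ⟨e⟩⟩ := ArtPow.exists_presentation R
  let P := MvPowerSeries (Fin d) k
  let q : P →ₐ[k] R.carrier := e.toAlgHom.comp (Ideal.Quotient.mkₐ k J)
  have hq : Function.Surjective q := e.surjective.comp Ideal.Quotient.mk_surjective
  have hker : ∀ f, q f = 0 ↔ f ∈ J := fun f => by
    show e (Ideal.Quotient.mk J f) = 0 ↔ _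
    rw [map_eq_zero_iff e e.injective, Ideal.Quotient.eq_zero_iff_mem]
  have hmq : Ideal.map q.toRingHom (maximalIdeal P) = maximalIdeal R.carrier :=
    IsLocalRing.map_maximalIdeal_of_surjective q.toRingHom hq
  have hder : ∀ f ∈ J, ∀ i, MvPowerSeries.pderiv k i f ∈ J := by
    intro f hf i
    rw [← hker]
    have := R.isAdicComplete
    refine IsHausdorff.haus' (I := maximalIdeal R.carrier) _ fun n => ?_
    rw [SModEq.sub_mem, sub_zero, smul_eq_mul, Ideal.mul_top]
    refine Ideal.pow_le_pow_right (Nat.le_succ n) (Ideal.Quotient.eq_zero_iff_mem.1 ?_)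
    let A := R.trunc n
    let χ : P →ₐ[k] A := (R.truncHom n).1.comp q
    show χ (MvPowerSeries.pderiv k i f) = 0
    let D : P → (Fin d → A) := fun g l => χ (MvPowerSeries.pderiv k l g)
    let N : Submodule A (Fin d → A) := Submodule.span A (D '' (J : Set P))
    let w : Fin d → (Fin d → A) := fun l => Pi.single l 1
    have hD : ∀ g, ∑ l, χ (MvPowerSeries.pderiv k l g) • w l = D g := fun g => by
      funext j
      simp [w, D, Finset.sum_apply, Pi.single_apply]
    let M' := (Fin d → A) ⧸ N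
    let π : splitObj A (Fin d → A) ⟶ splitObj A M' := splitMap N.mkQ
    let w' : Fin d → M' := fun l => N.mkQ (w l)
    let Θ := splitPoint χ w'
    have hΘ : ∀ g ∈ J, Θ g = 0 := fun g hg => by
      refine TrivSqZeroExt.ext ?_ ?_
      · show (R.truncHom n).1 (q g) = 0
        rw [(hker g).2 hg, map_zero]
      · show ∑ l, χ (MvPowerSeries.pderiv k l g) • w' l = 0
        simp only [w', ← map_smul, ← map_sum, hD]
        exact (Submodule.Quotient.mk_eq_zero N).2 (Submodule.subset_span ⟨g, hg, rfl⟩)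
    let θ : HomSet R.carrier R.res (splitObj A M') :=
      ⟨(Ideal.Quotient.liftₐ J Θ hΘ).comp e.symm.toAlgHom, AlgHom.ext fun r => by
        obtain ⟨g, rfl⟩ := hq r
        have he : e.symm (q g) = Ideal.Quotient.mk J g := e.symm_apply_apply _
        simp only [AlgHom.comp_apply]
        refine (congrArg (fun z => (splitObj A M').res (Ideal.Quotient.liftₐ J Θ hΘ z)) he).trans ?_
        exact DFunLike.congr_fun (R.truncHom n).2 (q g)⟩
    have hθ : ∀ g, θ.1 (q g) = Θ g := fun g => by
      have he : e.symm (q g) = Ideal.Quotient.mk J g := e.symm_apply_apply _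
      simp only [θ, AlgHom.comp_apply]
      refine (congrArg (fun z => Ideal.Quotient.liftₐ J Θ hΘ z) he).trans ?_
      rfl
    have hπs : Function.Surjective π := fun x => by
      obtain ⟨m, hm⟩ := Submodule.mkQ_surjective N x.snd
      exact ⟨(x.fst, m), TrivSqZeroExt.ext (TrivSqZeroExt.fst_map _ _) ((TrivSqZeroExt.snd_map _ _).trans hm)⟩
    obtain ⟨y, hy⟩ := hT1 (splitFst A M') (splitInl A M') (splitFst A (Fin d → A)) (splitInl A (Fin d → A)) π
      (splitInl_splitFst A M') (splitInl_splitFst A _) (ker_splitFst_sq A M') (ker_splitFst_sq A _)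
      (Art.hom_ext (AlgHom.ext fun x => TrivSqZeroExt.fst_map _ x))
      (Art.hom_ext (AlgHom.ext fun a => TrivSqZeroExt.map_inl _ a)) hπs (ξ.app _ θ)
    obtain ⟨ψ, hψ, -⟩ := hξ π hπs θ y hy
    have hψ' : ∀ g, π (ψ.1 (q g)) = Θ g := fun g =>
      (DFunLike.congr_fun (congrArg Subtype.val hψ) (q g)).trans (hθ g)
    let u : Fin d → (Fin d → A) := fun l => TrivSqZeroExt.snd (ψ.1 (q (MvPowerSeries.X l)))
    have hfst : ∀ g, TrivSqZeroExt.fst (ψ.1 (q g)) = χ g := fun g =>
      (TrivSqZeroExt.fst_map _ _).symm.trans (congrArg TrivSqZeroExt.fst (hψ' g))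
    have hext : ψ.1.comp q = splitPoint χ u := by
      obtain ⟨L, hL⟩ := exists_pow_succ (splitObj A (Fin d → A))
      refine ArtPow.algHom_ext hL (fun l => TrivSqZeroExt.ext (hfst _) ?_) (fun l => ?_)
      · show u l = ∑ j, χ (MvPowerSeries.pderiv k j (MvPowerSeries.X l)) • u j
        rw [Finset.sum_eq_single l (fun j _ hj => by rw [MvPowerSeries.pderiv_X_of_ne hj.symm, map_zero, zero_smul])
          (by simp), MvPowerSeries.pderiv_X_self, map_one, one_smul]
      · rw [Art.mem_maximalIdeal_iff, AlgHom.comp_apply, homSet_res_app]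
        refine (CRing.mem_maximalIdeal_iff R _).1 (hmq.le (Ideal.mem_map_of_mem _ ?_))
        rw [← ArtPow.span_X_eq_maximalIdeal]
        exact Ideal.subset_span ⟨l, rfl⟩
    have hu : ∀ l, u l - w l ∈ N := fun l => by
      refine (Submodule.Quotient.eq N).1 ?_
      have h1 := congrArg TrivSqZeroExt.snd (hψ' (MvPowerSeries.X l))
      refine ((TrivSqZeroExt.snd_map N.mkQ _).symm.trans h1).trans ?_
      show ∑ j, χ (MvPowerSeries.pderiv k j (MvPowerSeries.X l)) • w' j = N.mkQ (w l)
      rw [Finset.sum_eq_single l (fun j _ hj => by rw [MvPowerSeries.pderiv_X_of_ne hj.symm, map_zero, zero_smul])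
        (by simp), MvPowerSeries.pderiv_X_self, map_one, one_smul]
    have hN : N ≤ maximalIdeal A • N := Submodule.span_le.2 (by
      rintro _ ⟨g, hg, rfl⟩
      have hzero : ∑ l, χ (MvPowerSeries.pderiv k l g) • u l = 0 := by
        have h1 := congrArg TrivSqZeroExt.snd (DFunLike.congr_fun hext g)
        rw [AlgHom.comp_apply, (hker g).2 hg, map_zero] at h1
        exact h1.symm
      have h2 : D g = -∑ l, χ (MvPowerSeries.pderiv k l g) • (u l - w l) := by
        simp only [smul_sub, Finset.sum_sub_distrib, hzero, hD, zero_sub, neg_neg]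
      show D g ∈ maximalIdeal A • N
      rw [h2]
      refine neg_mem (Submodule.sum_mem _ fun l _ => Submodule.smul_mem_smul ?_ (hu l))
      rw [Art.mem_maximalIdeal_iff]
      refine (homSet_res_app (R.truncHom n) _).trans ((CRing.mem_maximalIdeal_iff R _).1
        (hmq.le (Ideal.mem_map_of_mem _ (pderiv_mem_maximalIdeal l (hJ hg))))))
    have hNbot : N = ⊥ :=
      Submodule.eq_bot_of_le_smul_of_le_jacobson_bot (maximalIdeal A) N (IsNoetherian.noetherian N) hN
        (maximalIdeal_le_jacobson _)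
    have hDf : D f = 0 := (Submodule.mem_bot _).1 (hNbot.le (Submodule.subset_span ⟨f, hf, rfl⟩))
    exact congrFun hDf i
  have hbot := eq_bot_of_pderiv_mem J (hJ.trans (Ideal.pow_le_self two_ne_zero)) hder
  intro B A μ hμ y
  obtain ⟨φ, rfl⟩ := surjective_app hξ h0 A y
  choose b hb using fun l => hμ (φ.1 (q (MvPowerSeries.X l)))
  obtain ⟨L, hL⟩ := exists_pow_succ B
  obtain ⟨L', hL'⟩ := exists_pow_succ A
  have hXm : ∀ l, φ.1 (q (MvPowerSeries.X l)) ∈ maximalIdeal A := fun l => by
    rw [Art.mem_maximalIdeal_iff, homSet_res_app]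
    refine (CRing.mem_maximalIdeal_iff R _).1 (hmq.le (Ideal.mem_map_of_mem _ ?_))
    rw [← ArtPow.span_X_eq_maximalIdeal]
    exact Ideal.subset_span ⟨l, rfl⟩
  have hbm : ∀ l, b l ∈ maximalIdeal B := fun l => by
    rw [Art.mem_maximalIdeal_iff, ← Art.res_app μ, hb, ← Art.mem_maximalIdeal_iff]
    exact hXm l
  let g : P →ₐ[k] B := ArtPow.evalNil b fun l => ⟨L + 1, by simpa [hL] using Ideal.pow_mem_pow (hbm l) (L + 1)⟩
  have hg : μ.toAlgHom.comp g = φ.1.comp q := (ArtPow.algHom_ext hL' (fun l => by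
    show φ.1 (q (MvPowerSeries.X l)) = μ (g (MvPowerSeries.X l))
    rw [show g (MvPowerSeries.X l) = b l from ArtPow.evalNil_X _ _ l]; exact (hb l).symm) hXm).symm
  have hinj : Function.Injective q := (injective_iff_map_eq_zero q).2 fun z hz => by
    rw [hker, hbot, Ideal.mem_bot] at hz; exact hz
  let eq := AlgEquiv.ofBijective q ⟨hinj, hq⟩
  let φ' : R.carrier →ₐ[k] B := g.comp eq.symm.toAlgHom
  have hφ' : μ.toAlgHom.comp φ' = φ.1 := AlgHom.ext fun r => by
    show μ (g (eq.symm r)) = φ.1 r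
    rw [← AlgHom.comp_apply μ.toAlgHom g, hg]
    exact congrArg φ.1 (eq.apply_symm_apply r)
  refine ⟨ξ.app B ⟨φ', by rw [← μ.res_comp, AlgHom.comp_assoc, hφ', φ.2]⟩, ?_⟩
  exact (ξ.natural μ _).symm.trans (congrArg (ξ.app A) (Subtype.ext hφ'))

end Groth.Agent.ArtKit
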